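import Groth.Agent.Deform.Borel.FixedPoint
import Groth.Agent.GrpSchLib.ProperQuotImage
import Groth.Agent.GrpSchLib.IdentityComp
import Groth.Agent.Deform.QuotSep
import Groth.Agent.S8022
import Groth.Prelude.Def_AGF

/-!
# Subgroups with proper quotient

`ClosedImg i` says that projections of closed sets stable under the subgroup are closed; this is properness of
the quotient, phrased without the quotient.
-/

universe u

open CategoryTheory CategoryTheory.Limits MonoidalCategory CartesianMonoidalCategory MonObj GrpObj AlgebraicGeometry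

attribute [local instance] CategoryTheory.Hom.monoid CategoryTheory.Hom.group
set_option linter.style.haveILetI false
set_option linter.unusedSectionVars false

namespace Groth.Agent.Deform.Borel

open Chev (Pt pimg)
open Agent.GrpSchLib (act_one act_mul comp_orbitMap)

noncomputable section

variable {k : Type u} [Field k]

/-- A subset of `G ⊗ X` stable under right translation by `H`. -/
def Stable {G H X : Over (Spec (CommRingCat.of k))} [GrpObj G] (i : H ⟶ G) (C : Set (G ⊗ X).left) : Prop :=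
  ∀ (T : Over (Spec (CommRingCat.of k))) (g : T ⟶ G) (h : T ⟶ H) (x : T ⟶ X) (t : T.left),
    (lift g x).left t ∈ C → (lift (g * (h ≫ i)) x).left t ∈ C

/-- Stable closed sets have closed images. -/
def ClosedImg {G H : Over (Spec (CommRingCat.of k))} [GrpObj G] (i : H ⟶ G) : Prop :=
  ∀ (X : Over (Spec (CommRingCat.of k))) (C : Set (G ⊗ X).left), IsClosed C → Stable i C →
    IsClosed ((snd G X).left '' C)

variable {G H J : Over (Spec (CommRingCat.of k))} [GrpObj G]

/-- A point seen from the spectrum of its residue field. -/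
theorem exists_pointScheme (T : Over (Spec (CommRingCat.of k))) (t : T.left) :
    ∃ (T' : Over (Spec (CommRingCat.of k))) (_ : IsReduced T'.left) (r : T' ⟶ T), Nonempty T'.left ∧
      ∀ s, r.left s = t :=
  ⟨Over.mk (T.left.fromSpecResidueField t ≫ T.hom), inferInstanceAs (IsReduced (Spec (T.left.residueField t))),
    Over.homMk (T.left.fromSpecResidueField t) rfl, ⟨IsLocalRing.closedPoint (T.left.residueField t)⟩,
    fun s => T.left.fromSpecResidueField_apply t s⟩

theorem left_comp {X Y Z : Over (Spec (CommRingCat.of k))} (f : X ⟶ Y) (g : Y ⟶ Z) (x : X.left) :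
    (f ≫ g).left x = g.left (f.left x) := rfl

/-- Stability may be tested on reduced schemes. -/
theorem stable_of_reduced {X : Over (Spec (CommRingCat.of k))} {i : H ⟶ G} {C : Set (G ⊗ X).left}
    (h : ∀ (T : Over (Spec (CommRingCat.of k))) [IsReduced T.left] (g : T ⟶ G) (h : T ⟶ H) (x : T ⟶ X)
      (t : T.left), (lift g x).left t ∈ C → (lift (g * (h ≫ i)) x).left t ∈ C) : Stable i C := by
  intro T g u x t ht
  obtain ⟨T', hT', r, ⟨s⟩, hr⟩ := exists_pointScheme T t
  haveI := hT'
  have := h T' (r ≫ g) (r ≫ u) (r ≫ x) s (by rw [← comp_lift, left_comp, hr]; exact ht)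
  rwa [Category.assoc, ← MonObj.comp_mul, ← comp_lift, left_comp, hr] at this

/-- Right translation on the group factor. -/
def trX (X : Over (Spec (CommRingCat.of k))) (r : Pt G) : G ⊗ X ⟶ G ⊗ X :=
  lift (fst G X * (toUnit _ ≫ r)) (snd G X)

theorem lift_trX {T X : Over (Spec (CommRingCat.of k))} (r : Pt G) (g : T ⟶ G) (x : T ⟶ X) :
    lift g x ≫ trX X r = lift (g * (toUnit T ≫ r)) x := by
  unfold trX
  rw [comp_lift, MonObj.comp_mul, lift_fst, lift_snd, ← Category.assoc,
    toUnit_unique (lift g x ≫ toUnit _) (toUnit T)]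

theorem trX_snd {X : Over (Spec (CommRingCat.of k))} (r : Pt G) : trX X r ≫ snd G X = snd G X := by
  unfold trX
  exact lift_snd _ _

theorem trX_trX {X : Over (Spec (CommRingCat.of k))} (r : Pt G) : trX X r ≫ trX X r⁻¹ = 𝟙 _ := by
  conv_lhs => arg 1; unfold trX
  rw [lift_trX, GrpObj.comp_inv, mul_inv_cancel_right, lift_fst_snd]

theorem snd_trX_apply {X : Over (Spec (CommRingCat.of k))} (r : Pt G) (z : (G ⊗ X).left) :
    (snd G X).left ((trX X r).left z) = (snd G X).left z := by
  rw [← left_comp, trX_snd]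

theorem trX_apply_apply {X : Over (Spec (CommRingCat.of k))} (r : Pt G) (z : (G ⊗ X).left) :
    (trX X r⁻¹).left ((trX X r).left z) = z := by
  rw [← left_comp, trX_trX]
  rfl

theorem image_preimage_of_retract {A B : Type*} (p : A → B) (f f' : A → A) (hf : ∀ z, p (f z) = p z)
    (hf' : ∀ z, p (f' z) = p z) (hff : ∀ z, f (f' z) = z) (C : Set A) : p '' (f ⁻¹' C) = p '' C := by
  refine Set.Subset.antisymm ?_ ?_
  · rintro _ ⟨z, hz, rfl⟩
    exact ⟨f z, hz, hf z⟩
  · rintro _ ⟨z, hz, rfl⟩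
    exact ⟨f' z, (Set.mem_preimage.mpr (by rw [hff]; exact hz) : f' z ∈ f ⁻¹' C), hf' z⟩

theorem image_trX {X : Over (Spec (CommRingCat.of k))} (r : Pt G) (C : Set (G ⊗ X).left) :
    (snd G X).left '' ((trX X r⁻¹).left ⁻¹' C) = (snd G X).left '' C :=
  image_preimage_of_retract _ _ (trX X r).left (snd_trX_apply r⁻¹) (snd_trX_apply r) (trX_apply_apply r) C

theorem ClosedImg.id : ClosedImg (𝟙 G) := by
  intro X C hC hst
  let σ : X ⟶ G ⊗ X := lift 1 (𝟙 X)
  have e : (snd G X).left '' C = σ.left ⁻¹' C := by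
    refine Set.Subset.antisymm ?_ fun x hx => ⟨σ.left x, hx, by rw [← left_comp, lift_snd]; rfl⟩
    rintro _ ⟨z, hz, rfl⟩
    have := hst (G ⊗ X) (fst G X) (fst G X)⁻¹ (snd G X) z (by rw [lift_fst_snd]; exact hz)
    rw [Category.comp_id, mul_inv_cancel] at this
    show σ.left ((snd G X).left z) ∈ C
    rwa [← left_comp, show snd G X ≫ σ = lift 1 (snd G X) by
      rw [comp_lift, MonObj.comp_one, Category.comp_id]]
  rw [e]
  exact hC.preimage σ.left.continuous

/-- Saturating a closed set by a larger subgroup. -/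
theorem exists_saturation {X : Over (Spec (CommRingCat.of k))} [GrpObj J] {l : H ⟶ J} (hl : ClosedImg l)
    (j : J ⟶ G) [IsMonHom j] {C : Set (G ⊗ X).left} (hC : IsClosed C) (hst : Stable (l ≫ j) C) :
    ∃ D : Set (G ⊗ X).left, IsClosed D ∧ Stable j D ∧ (snd G X).left '' D = (snd G X).left '' C := by
  let ψ : J ⊗ (G ⊗ X) ⟶ G ⊗ X :=
    lift ((snd J (G ⊗ X) ≫ fst G X) * (fst J (G ⊗ X) ≫ j)) (snd J (G ⊗ X) ≫ snd G X)
  have hψ : ∀ {T : Over (Spec (CommRingCat.of k))} (a : T ⟶ J) (g : T ⟶ G) (x : T ⟶ X),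
      lift a (lift g x) ≫ ψ = lift (g * (a ≫ j)) x := fun a g x => by
    simp [ψ, MonObj.comp_mul]
  have hdec : ∀ {T : Over (Spec (CommRingCat.of k))} (z : T ⟶ G ⊗ X),
      z = lift (z ≫ fst G X) (z ≫ snd G X) := fun z => by rw [← comp_lift, lift_fst_snd, Category.comp_id]
  have hst' : Stable l (ψ.left ⁻¹' C) := by
    intro T a u z t ht
    rw [hdec z] at ht ⊢
    change ψ.left ((lift a (lift (z ≫ fst G X) (z ≫ snd G X))).left t) ∈ C at ht
    show ψ.left ((lift (a * (u ≫ l)) (lift (z ≫ fst G X) (z ≫ snd G X))).left t) ∈ C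
    rw [← left_comp, hψ] at ht ⊢
    rw [MonObj.mul_comp, Category.assoc, ← _root_.mul_assoc]
    exact hst T _ u _ t ht
  refine ⟨(snd J (G ⊗ X)).left '' (ψ.left ⁻¹' C), hl _ _ (hC.preimage ψ.left.continuous) hst', ?_, ?_⟩
  · intro T g h x t ht
    obtain ⟨z, hz, hzt⟩ := ht
    obtain ⟨w, hw, hwt⟩ := Scheme.exists_preimage_of_isPullback
      (Agent.GrpSchLib.isPullback_whiskerLeft (W := J) (lift g x)) z t hzt
    let a := fst J T
    let p := snd J T
    have e : (J ◁ lift g x) = lift a (lift (p ≫ g) (p ≫ x)) := by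
      apply CartesianMonoidalCategory.hom_ext <;> simp [a, p]
    have hz' : (lift ((p ≫ g) * (a ≫ j)) (p ≫ x)).left w ∈ C := by
      rw [← hψ, left_comp, ← e, hw]; exact hz
    refine ⟨(lift ((p ≫ h)⁻¹ * a) (lift ((p ≫ g) * (p ≫ h ≫ j)) (p ≫ x))).left w, ?_, ?_⟩
    · show ψ.left _ ∈ C
      rw [← left_comp, hψ, MonObj.mul_comp, GrpObj.inv_comp, Category.assoc, _root_.mul_assoc, mul_inv_cancel_left]
      exact hz'
    · rw [← left_comp, lift_snd, ← hwt, ← MonObj.comp_mul, ← comp_lift, left_comp]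
  · refine Set.Subset.antisymm ?_ ?_
    · rintro _ ⟨_, ⟨z, hz, rfl⟩, rfl⟩
      refine ⟨ψ.left z, hz, ?_⟩
      rw [← left_comp, ← left_comp]
      exact congrArg (fun f : J ⊗ (G ⊗ X) ⟶ X => f.left z) (lift_snd _ _)
    · rintro _ ⟨z, hz, rfl⟩
      refine ⟨z, ⟨(lift (1 : G ⊗ X ⟶ J) (𝟙 (G ⊗ X))).left z, ?_, ?_⟩, rfl⟩
      · show ψ.left _ ∈ C
        rw [← left_comp, hdec (𝟙 (G ⊗ X)), hψ, MonObj.one_comp, _root_.mul_one, ← hdec]
        exact hz
      · rw [← left_comp, lift_snd]; rfl

variable [IsAlgClosed k]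

/-- A quasi-compact scheme locally of finite type covered on rational points by open sets is covered by finitely many. -/
theorem exists_finite_cover {Y : Over (Spec (CommRingCat.of k))} [LocallyOfFiniteType Y.hom] [QuasiCompact Y.hom]
    {κ' : Type u} (U : κ' → Set Y.left) (hU : ∀ i, IsOpen (U i)) (hc : ∀ y : Pt Y, ∃ i, pimg y ∈ U i) :
    (∀ z, ∃ i, z ∈ U i) ∧ ∃ s : Finset κ', ∀ z, ∃ i ∈ s, z ∈ U i := by
  haveI : CompactSpace Y.left := QuasiCompact.compactSpace_of_compactSpace Y.hom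
  have hall : ∀ z, ∃ i, z ∈ U i := by
    by_contra h
    push Not at h
    obtain ⟨z, hz⟩ := h
    obtain ⟨y, hy⟩ := Chev.exists_pt (G := Y) (S := (⋃ i, U i)ᶜ) ⟨z, by simpa using hz⟩
      (isOpen_iUnion hU).isClosed_compl.isLocallyClosed
    obtain ⟨i, hi⟩ := hc y
    exact hy (Set.mem_iUnion.mpr ⟨i, hi⟩)
  refine ⟨hall, ?_⟩
  obtain ⟨s, hs⟩ := isCompact_univ.elim_finite_subcover U hU (fun z _ => Set.mem_iUnion.mpr (hall z))
  exact ⟨s, fun z => by simpa using hs (Set.mem_univ z)⟩

/-- Saturating by a group in which the subgroup is open. -/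
theorem exists_saturation_open {X Y N : Over (Spec (CommRingCat.of k))} [GrpObj Y] [GrpObj N]
    [LocallyOfFiniteType Y.hom] [QuasiCompact Y.hom] (d : N ⟶ Y) [IsMonHom d] [IsClosedImmersion d.left]
    [IsOpenImmersion d.left] (i : Y ⟶ G) [IsMonHom i] {C : Set (G ⊗ X).left} (hC : IsClosed C)
    (hst : Stable (d ≫ i) C) :
    ∃ D : Set (G ⊗ X).left, IsClosed D ∧ Stable i D ∧ (snd G X).left '' D = (snd G X).left '' C := by
  haveI : JacobsonSpace Y.left := LocallyOfFiniteType.jacobsonSpace Y.hom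
  let τ : Pt Y → (G ⊗ X ⟶ G ⊗ X) := fun r => lift (fst G X * (toUnit _ ≫ r ≫ i)) (snd G X)
  have hτ : ∀ {T : Over (Spec (CommRingCat.of k))} (g : T ⟶ G) (x : T ⟶ X) (r : Pt Y),
      lift g x ≫ τ r = lift (g * ((toUnit T ≫ r) ≫ i)) x := fun g x r => by
    simp [τ, MonObj.comp_mul]
  have hpt : ∀ (r q : Pt Y) (y : Pt Y),
      y ≫ ((toUnit Y ≫ r) * 𝟙 Y * (toUnit Y ≫ q)) = r * y * q := fun r q y => by
    rw [MonObj.comp_mul, MonObj.comp_mul, Category.comp_id, ← Category.assoc, ← Category.assoc,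
      toUnit_unique (y ≫ toUnit Y) (𝟙 _), Category.id_comp, Category.id_comp]
  -- one translate moves to any other
  have hmove : ∀ {T : Over (Spec (CommRingCat.of k))} (g : T ⟶ G) (x : T ⟶ X) (u v : T ⟶ Y) (t : T.left),
      (u⁻¹ * v).left t ∈ Set.range d.left → (lift (g * (u ≫ i)) x).left t ∈ C →
      (lift (g * (v ≫ i)) x).left t ∈ C := by
    intro T g x u v t hd ht
    obtain ⟨T', hT', r, ⟨s⟩, hr⟩ := exists_pointScheme T t
    haveI := hT'
    obtain ⟨h, hh⟩ := Chev.exists_lift_range d (r ≫ (u⁻¹ * v)) (by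
      rintro _ ⟨s', rfl⟩; rw [left_comp, hr]; exact hd)
    have := hst T' (r ≫ (g * (u ≫ i))) h (r ≫ x) s (by rw [← comp_lift, left_comp, hr]; exact ht)
    rw [reassoc_of% hh, ← MonObj.comp_mul, ← comp_lift, left_comp, hr] at this
    rwa [MonObj.mul_comp, GrpObj.inv_comp, _root_.mul_assoc, mul_inv_cancel_left] at this
  let U : Pt Y → Set Y.left := fun r => ((toUnit Y ≫ (1 : Pt Y)) * 𝟙 Y * (toUnit Y ≫ r)).left ⁻¹' Set.range d.left
  have hd1 : pimg (1 : Pt Y) ∈ Set.range d.left := ⟨pimg (1 : Pt N), by rw [← pimg_comp, MonObj.one_comp]⟩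
  obtain ⟨-, s, hs⟩ := exists_finite_cover U (fun r => d.left.isOpenEmbedding.isOpen_range.preimage
    (Scheme.Hom.continuous _)) fun y => ⟨y⁻¹, by
      show _ ∈ Set.range d.left
      rw [← pimg_comp, hpt, _root_.one_mul, mul_inv_cancel]; exact hd1⟩
  let D : Set (G ⊗ X).left := ⋃ r ∈ s, (τ r).left ⁻¹' C
  have hD : ∀ (T : Over (Spec (CommRingCat.of k))) (g : T ⟶ G) (x : T ⟶ X) (t : T.left) (q : Pt Y),
      (lift (g * ((toUnit T ≫ q) ≫ i)) x).left t ∈ C → (lift g x).left t ∈ D := by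
    intro T g x t q ht
    obtain ⟨r, hr, hqr⟩ := hs (pimg q⁻¹)
    refine Set.mem_iUnion₂.mpr ⟨r, hr, ?_⟩
    show (τ r).left _ ∈ C
    rw [← left_comp, hτ]
    refine hmove g x _ _ t ?_ ht
    change _ ∈ Set.range d.left at hqr
    rw [← pimg_comp, hpt, _root_.one_mul] at hqr
    rw [← GrpObj.comp_inv, ← MonObj.comp_mul, left_comp]
    rwa [show (toUnit T).left t = IsLocalRing.closedPoint k from Subsingleton.elim (α := PrimeSpectrum k) _ _]
  refine ⟨D, isClosed_biUnion_finset fun r _ => hC.preimage (τ r).left.continuous, ?_, ?_⟩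
  · intro T g h x t ht
    obtain ⟨r, -, hr⟩ := Set.mem_iUnion₂.mp ht
    change (τ r).left _ ∈ C at hr
    rw [← left_comp, hτ] at hr
    obtain ⟨hall, -⟩ := exists_finite_cover
      (fun q : Pt Y => ((toUnit Y ≫ r⁻¹) * 𝟙 Y * (toUnit Y ≫ q)).left ⁻¹' Set.range d.left)
      (fun q => d.left.isOpenEmbedding.isOpen_range.preimage (Scheme.Hom.continuous _))
      fun y => ⟨y⁻¹ * r, by
        show _ ∈ Set.range d.left
        rw [← pimg_comp, hpt, _root_.mul_assoc r⁻¹, mul_inv_cancel_left, inv_mul_cancel]; exact hd1⟩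
    obtain ⟨q, hq⟩ := hall (h.left t)
    change _ ∈ Set.range d.left at hq
    rw [← left_comp, MonObj.comp_mul, MonObj.comp_mul, Category.comp_id, ← Category.assoc, ← Category.assoc,
      toUnit_unique (h ≫ toUnit Y) (toUnit T)] at hq
    refine hD T _ x t q ?_
    rw [_root_.mul_assoc, ← MonObj.mul_comp]
    refine hmove g x _ _ t ?_ hr
    rw [← GrpObj.comp_inv, ← _root_.mul_assoc]
    exact hq
  · refine Set.Subset.antisymm ?_ ?_
    · rintro _ ⟨z, hz, rfl⟩
      obtain ⟨r, -, hr⟩ := Set.mem_iUnion₂.mp hz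
      exact ⟨_, hr, by rw [← left_comp, lift_snd]⟩
    · rintro _ ⟨z, hz, rfl⟩
      refine ⟨z, ?_, rfl⟩
      have := hD (G ⊗ X) (fst G X) (snd G X) z 1 (by
        rw [MonObj.comp_one, MonObj.one_comp, _root_.mul_one, lift_fst_snd]; exact hz)
      rwa [lift_fst_snd] at this

set_option maxHeartbeats 1000000 in
/-- Stabilisers of points with closed orbits in proper varieties. -/
theorem closedImg_stabilizer [Smooth G.hom] [QuasiCompact G.hom] {P Y : Over (Spec (CommRingCat.of k))}
    [IsProper P.hom] (a : AlgGrp.Action G P) (y : Pt P) (hcl : IsClosed (Set.range (a.orbitMap y).left))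
    (iY : Y ⟶ G) [IsClosedImmersion iY.left]
    (hY : Set.range iY.left = (a.orbitMap y).left ⁻¹' {pimg y}) : ClosedImg iY := by
  intro X C hC hst
  let Gy := pullback (a.orbitMap y) y
  let h : Gy ⟶ G := pullback.fst (a.orbitMap y) y
  have sq : IsPullback h (toUnit Gy) (a.orbitMap y) y := by
    rw [show toUnit Gy = pullback.snd (a.orbitMap y) y from toUnit_unique _ _]
    exact IsPullback.of_hasPullback _ _
  have hlift : ∀ {T : Over (Spec (CommRingCat.of k))} (f : T ⟶ G),
      lift f (toUnit T ≫ y) ≫ a.act = toUnit T ≫ y → ∃ f' : T ⟶ Gy, f' ≫ h = f := fun f hf =>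
    ⟨sq.lift f (toUnit _) (by rw [comp_orbitMap]; exact hf), sq.lift_fst _ _ _⟩
  have hfix : ∀ {T : Over (Spec (CommRingCat.of k))} (f' : T ⟶ Gy),
      lift (f' ≫ h) (toUnit T ≫ y) ≫ a.act = toUnit T ≫ y := fun {T} f' => by
    rw [← comp_orbitMap, Category.assoc, sq.w, ← Category.assoc, toUnit_unique (f' ≫ toUnit Gy) (toUnit T)]
  haveI : IsClosedImmersion y.left := by
    haveI : IsClosedImmersion (y.left ≫ P.hom) := by
      rw [Over.w y]; exact inferInstanceAs (IsClosedImmersion (𝟙 (Spec (CommRingCat.of k))))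
    exact IsClosedImmersion.of_comp y.left P.hom
  haveI : IsClosedImmersion h.left :=
    MorphismProperty.of_isPullback (P := @IsClosedImmersion) (sq.map (Over.forget _)).flip ‹IsClosedImmersion y.left›
  haveI : Mono h := (Over.forget _).mono_of_mono_map (inferInstanceAs (Mono h.left))
  obtain ⟨e', he'⟩ := hlift (η[G]) (by
    have e : η[G] = (1 : 𝟙_ (Over (Spec (CommRingCat.of k))) ⟶ G) := MonObj.one_eq_one G
    rw [e, act_one])
  obtain ⟨m', hm'⟩ := hlift ((fst Gy Gy ≫ h) * (snd Gy Gy ≫ h)) (by rw [← act_mul, hfix, hfix])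
  obtain ⟨v', hv'⟩ := hlift h⁻¹ (by
    have h1 := hfix (𝟙 Gy)
    rw [Category.id_comp] at h1
    conv_lhs => rw [← h1]
    rw [act_mul, inv_mul_cancel, act_one])
  obtain ⟨str, hh⟩ := Agent.GrpSchLib.exists_grpObj_of_mono h e' he' m' hm' v' hv'
  letI := str
  haveI := hh
  obtain ⟨Q, b, q₀, m, hQ, heq, hq₀, him⟩ := S8022.result k G P Gy a y h sq
  haveI := him
  have horb : b.orbitMap q₀ ≫ m = a.orbitMap y := by
    have e1 := comp_orbitMap a y (𝟙 G)
    have e2 := comp_orbitMap b q₀ (𝟙 G)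
    rw [Category.id_comp] at e1 e2
    rw [e1, e2, Category.assoc, ← heq, ← Category.assoc, lift_whiskerLeft, Category.assoc (toUnit G), hq₀]
  haveI := hQ.2.2.1
  haveI : IsClosedImmersion m.left := .of_isPreimmersion _ (by
    have e : Set.range m.left = Set.range (a.orbitMap y).left := by
      rw [← horb]
      exact (Set.range_comp m.left (b.orbitMap q₀).left).trans
        (by rw [(b.orbitMap q₀).left.surjective.range_eq, Set.image_univ]) |>.symm
    rw [e]; exact hcl)
  haveI : IsProper Q.hom := by rw [← Over.w m]; infer_instance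
  refine Agent.GrpSchLib.ProperQuotImage.isClosed_image h b q₀ hQ C hC ?_
  refine stable_of_reduced fun T _ g u x t ht => ?_
  obtain ⟨v, hv⟩ := Chev.exists_lift_range iY (u ≫ h) (by
    rw [hY]
    rintro _ ⟨z, rfl⟩
    show (a.orbitMap y).left ((u ≫ h).left z) ∈ ({pimg y} : Set P.left)
    rw [← left_comp, Category.assoc, sq.w, left_comp, left_comp]
    exact congrArg y.left (Subsingleton.elim (α := PrimeSpectrum k) _ _))
  rw [← hv]
  exact hst T g v x t ht

/-- Closed images pass to conjugate subgroups. -/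
theorem ClosedImg.of_conj {B : Over (Spec (CommRingCat.of k))} {iH : H ⟶ G} {iB : B ⟶ G} (h : ClosedImg iH)
    (g : Pt G) (f : H ⟶ B) (hf : f ≫ iB = (toUnit H ≫ g) * iH * (toUnit H ≫ g)⁻¹) : ClosedImg iB := by
  intro X C hC hst
  rw [← image_trX g C]
  refine h X _ (hC.preimage (Scheme.Hom.continuous _)) ?_
  intro T u w x t ht
  change (trX X g⁻¹).left ((lift u x).left t) ∈ C at ht
  show (trX X g⁻¹).left ((lift (u * (w ≫ iH)) x).left t) ∈ C
  rw [← left_comp, lift_trX, GrpObj.comp_inv] at ht ⊢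
  have := hst T _ (w ≫ f) x t ht
  rw [Category.assoc, hf, MonObj.comp_mul, MonObj.comp_mul, GrpObj.comp_inv, ← Category.assoc,
    toUnit_unique (w ≫ toUnit H) (toUnit T), ← _root_.mul_assoc, ← _root_.mul_assoc,
    inv_mul_cancel_right] at this
  exact this

/-- The quotient by a closed subgroup is separated. -/
theorem isSeparated_quot [Smooth G.hom] [GrpObj H] (i : H ⟶ G) [IsMonHom i] [IsClosedImmersion i.left]
    {X : Over (Spec (CommRingCat.of k))} (a : AlgGrp.Action G X) (o : Pt X) (hX : AGF.IsQuotient i X a o) :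
    IsSeparated X.hom := by
  obtain ⟨hl, hf, hs, sq⟩ := hX
  haveI := hl; haveI := hf; haveI := hs
  haveI : IsLocallyNoetherian X.left := LocallyOfFiniteType.isLocallyNoetherian X.hom
  set p := a.orbitMap o with hp
  haveI : LocallyOfFiniteType (p.left ≫ X.hom) := by rw [Over.w p]; infer_instance
  haveI : LocallyOfFiniteType p.left := locallyOfFiniteType_of_comp p.left X.hom
  haveI : LocallyOfFinitePresentation p.left := inferInstance
  let v : G ≅ G := ⟨(𝟙 G)⁻¹, (𝟙 G)⁻¹, by rw [GrpObj.comp_inv, Category.comp_id, _root_.inv_inv],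
    by rw [GrpObj.comp_inv, Category.comp_id, _root_.inv_inv]⟩
  haveI : IsIso v.hom.left := ((Over.forget _).mapIso v).isIso_hom
  haveI : Flat (v.hom ≫ p).left := by rw [Over.comp_left]; infer_instance
  haveI : Surjective (v.hom ≫ p).left := by rw [Over.comp_left]; infer_instance
  haveI : LocallyOfFinitePresentation (v.hom ≫ p).left := by rw [Over.comp_left]; infer_instance
  refine QuotGroup.isSeparated_of_isPullback i (v.hom ≫ p) ?_
  have hv : ∀ {T : Over (Spec (CommRingCat.of k))} (u : T ⟶ G), u ≫ v.hom = u⁻¹ := fun u => by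
    simp [v, GrpObj.comp_inv]
  have hμ : ∀ {T : Over (Spec (CommRingCat.of k))} (u : T ⟶ H) (g : T ⟶ G),
      lift u g ≫ (i ▷ G) ≫ μ[G] = (u ≫ i) * g := fun u g => by
    rw [lift_whiskerRight_assoc, Hom.mul_def]
  let e : G ⊗ H ≅ H ⊗ G :=
    { hom := lift (snd G H)⁻¹ (fst G H)⁻¹
      inv := lift (snd H G)⁻¹ (fst H G)⁻¹
      hom_inv_id := by apply CartesianMonoidalCategory.hom_ext <;> simp [GrpObj.comp_inv]
      inv_hom_id := by apply CartesianMonoidalCategory.hom_ext <;> simp [GrpObj.comp_inv] }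
  have hr : (G ◁ i) ≫ μ[G] = fst G H * (snd G H ≫ i) := by
    calc (G ◁ i) ≫ μ[G] = lift (fst G H) (snd G H) ≫ (G ◁ i) ≫ μ[G] := by rw [lift_fst_snd, Category.id_comp]
      _ = _ := by rw [lift_whiskerLeft_assoc, Hom.mul_def]
  refine sq.flip.of_iso e v v (Iso.refl X) ?_ ?_ ?_ ?_
  · show _ ≫ v.hom = e.hom ≫ (i ▷ G) ≫ μ[G]
    rw [hv, show e.hom = lift (snd G H)⁻¹ (fst G H)⁻¹ from rfl, hμ, hr, _root_.mul_inv_rev, GrpObj.inv_comp]
  · show _ ≫ v.hom = e.hom ≫ snd H G
    rw [hv]; simp [e]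
  · simp only [Iso.refl_hom, Category.comp_id, ← hp]
    rw [← Category.assoc, hv v.hom]; simp [v]
  · simp only [Iso.refl_hom, Category.comp_id, ← hp]
    rw [← Category.assoc, hv v.hom]; simp [v]

/-- A separated variety receiving a surjection from `G` invariant under a subgroup with closed images is proper. -/
theorem isProper_of_closedImg [QuasiCompact G.hom] {i : H ⟶ G} (hi : ClosedImg i)
    {X : Over (Spec (CommRingCat.of k))} [IsSeparated X.hom] [LocallyOfFiniteType X.hom] (p : G ⟶ X)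
    [Surjective p.left]
    (hp : ∀ {T : Over (Spec (CommRingCat.of k))} (g : T ⟶ G) (h : T ⟶ H), (g * (h ≫ i)) ≫ p = g ≫ p) :
    IsProper X.hom := by
  haveI : CompactSpace G.left := QuasiCompact.compactSpace_of_compactSpace G.hom
  haveI : CompactSpace X.left := p.left.surjective.compactSpace p.left.continuous
  haveI : QuasiCompact X.hom := (quasiCompact_iff_compactSpace _).mpr inferInstance
  haveI : UniversallyClosed X.hom := by
    constructor
    intro X' Y' f₁ g₁ f' hsq
    let W : Over (Spec (CommRingCat.of k)) := Over.mk g₁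
    let e := hsq.flip.isoPullback
    have e' : f' = e.hom ≫ (snd X W).left := hsq.flip.isoPullback_hom_snd.symm
    intro D hD
    have hsurj : Function.Surjective (p ▷ W).left := by
      haveI : Surjective (p ▷ W).left :=
        MorphismProperty.of_isPullback (P := @Surjective) (Agent.GrpSchLib.isPullback_whiskerRight _ W).flip ‹Surjective p.left›
      exact (p ▷ W).left.surjective
    have hD' : IsClosed (e.inv ⁻¹' D : Set (X ⊗ W).left) := hD.preimage e.inv.continuous
    let C := (p ▷ W).left ⁻¹' (e.inv ⁻¹' D)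
    have hC := hi W C (hD'.preimage (Scheme.Hom.continuous _)) (by
      intro T g h x t ht
      show (p ▷ W).left _ ∈ (e.inv ⁻¹' D : Set (X ⊗ W).left)
      have e2 : lift (g * (h ≫ i)) x ≫ (p ▷ W) = lift g x ≫ (p ▷ W) := by
        rw [lift_whiskerRight, lift_whiskerRight, hp]
      rw [← left_comp, e2, left_comp]
      exact ht)
    suffices h : f' '' D = (snd G W).left '' C by
      rw [show (⇑f' '' D : Set Y') = ((snd G W).left '' C : Set W.left) from h]
      exact hC
    rw [show (snd G W).left '' C = (snd X W).left '' ((p ▷ W).left '' C) by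
      rw [Set.image_image]
      exact Set.image_congr fun z _ => by rw [← left_comp, whiskerRight_snd],
      Set.image_preimage_eq _ hsurj, e']
    refine Set.Subset.antisymm ?_ ?_
    · rintro _ ⟨z, hz, rfl⟩
      refine ⟨e.hom z, ?_, rfl⟩
      show e.inv (e.hom z) ∈ D
      rwa [← Scheme.Hom.comp_apply, e.hom_inv_id]
    · rintro _ ⟨z, hz, rfl⟩
      refine ⟨e.inv z, hz, ?_⟩
      show (snd X W).left (e.hom (e.inv z)) = _
      rw [← Scheme.Hom.comp_apply e.inv, e.inv_hom_id]
      rfl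
  exact { }

theorem mul_comp_orbitMap [GrpObj H] {i : H ⟶ G} {X : Over (Spec (CommRingCat.of k))} {p : G ⟶ X}
    (sq : IsPullback (fst G H) ((G ◁ i) ≫ μ[G]) p p) {T : Over (Spec (CommRingCat.of k))} (g : T ⟶ G) (h : T ⟶ H) :
    (g * (h ≫ i)) ≫ p = g ≫ p := by
  have := congrArg (lift g h ≫ ·) sq.w
  simp only [← Category.assoc, lift_fst, lift_whiskerLeft] at this
  rw [Hom.mul_def, Category.assoc]
  simpa using this.symm

/-- A closed subgroup with closed images has a proper quotient. -/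
theorem isProper_quot [Smooth G.hom] [QuasiCompact G.hom] [GrpObj H] (i : H ⟶ G) [IsMonHom i]
    [IsClosedImmersion i.left] (hi : ClosedImg i) {X : Over (Spec (CommRingCat.of k))} (a : AlgGrp.Action G X)
    (o : Pt X) (hX : AGF.IsQuotient i X a o) : IsProper X.hom := by
  haveI := isSeparated_quot i a o hX
  obtain ⟨hl, -, hs, sq⟩ := hX
  haveI := hl; haveI := hs
  exact isProper_of_closedImg hi (a.orbitMap o) fun g h => mul_comp_orbitMap sq g h

end

end Groth.Agent.Deform.Borel
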