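import Groth.Agent.Deform.Borel.ProjAct
import Groth.Agent.GrpSchLib.ActRep
import Groth.Agent.GrpSchLib.RepFamily
import Mathlib.LinearAlgebra.Matrix.Adjugate

/-!
# A group whose points are not solvable has a representation without invariant lines
-/

universe u

open CategoryTheory CategoryTheory.Limits MonoidalCategory CartesianMonoidalCategory MonObj GrpObj AlgebraicGeometry
open Matrix

attribute [local instance] CategoryTheory.Hom.monoid CategoryTheory.Hom.group
set_option linter.style.haveILetI false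
set_option linter.unusedSectionVars false

namespace Groth.Agent.Deform.Borel

open Chev (Pt pimg)
open Agent.GrpSchLib.Kunneth (Fn ev evPt evPt_comp ev_ev ev_apply IsRepMatrix)
open Agent.GrpSchLib (act_mul act_one)
open scoped commutatorElement

noncomputable section

variable {k : Type u} [Field k] [IsAlgClosed k] {G : Over (Spec (CommRingCat.of k))} [GrpObj G]

/-- The matrices of a representation on rational points. -/
def ptsHom {N : ℕ} {M : Matrix (Fin N) (Fin N) (Fn G)} (h : IsRepMatrix M) :
    Pt G →* Matrix (Fin N) (Fin N) k where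
  toFun g := M.map (evPt g)
  map_one' := by
    have e : M.map (evPt (1 : Pt G)) = (M.map (ev (1 : Pt G))).map (evPt (𝟙 _)) := Matrix.ext fun a b => evPt_eq _ _
    rw [e, h.one, Matrix.map_one _ (map_zero _) (map_one _)]
  map_mul' g g' := by
    have e : ∀ g : Pt G, M.map (evPt g) = (M.map (ev g)).map (evPt (𝟙 _)) := fun g => Matrix.ext fun a b => evPt_eq _ _
    rw [e, e, e, h.mul, Matrix.map_mul]

theorem ptsHom_apply {N : ℕ} {M : Matrix (Fin N) (Fin N) (Fn G)} (h : IsRepMatrix M) (g : Pt G) (a b : Fin N) :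
    ptsHom h g a b = evPt g (M a b) := rfl

theorem commutator_le_ker {A : Type*} [MulOneClass A] (H : Subgroup (Pt G)) (φ : Pt G →* A)
    (hcomm : ∀ a ∈ H, ∀ b ∈ H, φ a * φ b = φ b * φ a) : ⁅H, H⁆ ≤ φ.ker :=
  Subgroup.commutator_le.mpr fun a ha b hb => by
    rw [MonoidHom.mem_ker, commutatorElement_def, _root_.mul_assoc (a * b), map_mul φ (a * b), map_mul φ a b,
      hcomm a ha b hb, ← map_mul, ← map_mul,
      show b * a * (a⁻¹ * b⁻¹) = 1 by group, map_one]

variable [Smooth G.hom]

theorem isRepMatrix_conj {N : ℕ} {M : Matrix (Fin N) (Fin N) (Fn G)} (h : IsRepMatrix M)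
    (P Q : Matrix (Fin N) (Fin N) k) (h1 : P * Q = 1) (h2 : Q * P = 1) :
    IsRepMatrix (Q.map (algebraMap k (Fn G)) * M * P.map (algebraMap k (Fn G))) := by
  have e : ∀ (T : Over (Spec (CommRingCat.of k))) (g : T ⟶ G),
      (Q.map (algebraMap k (Fn G)) * M * P.map (algebraMap k (Fn G))).map (ev g) =
        Q.map (algebraMap k (Fn T)) * M.map (ev g) * P.map (algebraMap k (Fn T)) := by
    intro T g
    rw [Matrix.map_mul, Matrix.map_mul, Matrix.map_map, Matrix.map_map]
    have : ⇑(ev g) ∘ ⇑(algebraMap k (Fn G)) = ⇑(algebraMap k (Fn T)) := funext fun c => (ev g).commutes c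
    rw [this]
  refine ⟨fun T g g' => ?_, fun T => ?_⟩
  · rw [e, e, e, h.mul]
    have hPQ : P.map (algebraMap k (Fn T)) * Q.map (algebraMap k (Fn T)) = 1 := by
      rw [← Matrix.map_mul, h1, Matrix.map_one _ (map_zero _) (map_one _)]
    simp only [Matrix.mul_assoc]
    rw [← Matrix.mul_assoc (P.map _) (Q.map _), hPQ, Matrix.one_mul]
  · rw [e, h.one, Matrix.mul_one, ← Matrix.map_mul, h2, Matrix.map_one _ (map_zero _) (map_one _)]

set_option maxHeartbeats 1000000 in
theorem solvable_or_noEigen : ∀ (N : ℕ) (M : Matrix (Fin N) (Fin N) (Fn G)) (h : IsRepMatrix M),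
    (∃ d, derivedSeries (Pt G) d ≤ (ptsHom h).ker) ∨
    ∃ (n : ℕ) (M' : Matrix (Fin (n + 1)) (Fin (n + 1)) (Fn G)) (_ : IsRepMatrix M'),
      ∀ v : Fin (n + 1) → k, v ≠ 0 → ∃ g : Pt G, ∀ c : k, matPtOf M' g *ᵥ v ≠ c • v := by
  intro N
  induction N with
  | zero =>
    intro M h
    exact Or.inl ⟨0, fun g _ => Subsingleton.elim _ _⟩
  | succ N ih =>
    intro M h
    by_cases hv : ∀ v : Fin (N + 1) → k, v ≠ 0 → ∃ g : Pt G, ∀ c : k, matPtOf M g *ᵥ v ≠ c • v
    · exact Or.inr ⟨N, M, h, hv⟩
    push_neg at hv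
    obtain ⟨v, hv0, hv⟩ := hv
    obtain ⟨i, hi⟩ := Function.ne_iff.mp hv0
    let P : Matrix (Fin (N + 1)) (Fin (N + 1)) k := (1 : Matrix (Fin (N + 1)) (Fin (N + 1)) k).updateCol i v
    have hdet : IsUnit P.det := by
      have : P.det = v i := by
        rw [show P.det = Matrix.cramer (1 : Matrix (Fin (N + 1)) (Fin (N + 1)) k) v i from
          (Matrix.cramer_apply _ _ _).symm, Matrix.cramer_one]
        rfl
      rw [this]
      exact IsUnit.mk0 _ hi
    let Q : Matrix (Fin (N + 1)) (Fin (N + 1)) k := P⁻¹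
    have h1 : P * Q = 1 := Matrix.mul_nonsing_inv P hdet
    have h2 : Q * P = 1 := Matrix.nonsing_inv_mul P hdet
    let M' : Matrix (Fin (N + 1)) (Fin (N + 1)) (Fn G) :=
      Q.map (algebraMap k (Fn G)) * M * P.map (algebraMap k (Fn G))
    have hM' : IsRepMatrix M' := isRepMatrix_conj h P Q h1 h2
    have hval : ∀ g : Pt G, ptsHom hM' g = Q * ptsHom h g * P := by
      intro g
      show M'.map (evPt g) = Q * M.map (evPt g) * P
      simp only [M', Matrix.map_mul, Matrix.map_map]
      have : ⇑(evPt g) ∘ ⇑(algebraMap k (Fn G)) = id := funext fun c => (evPt g).commutes c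
      rw [this, Matrix.map_id, Matrix.map_id]
    have hcol : ∀ (g : Pt G) (l : Fin (N + 1)), l ≠ i → ptsHom hM' g l i = 0 := by
      intro g l hl
      obtain ⟨c, hc⟩ := hv g
      have e1 : P *ᵥ Pi.single i 1 = v := by
        rw [Matrix.mulVec_single_one]
        ext l
        simp [P]
      have e2 : ptsHom hM' g *ᵥ Pi.single i 1 = c • Pi.single i 1 := by
        rw [hval, ← Matrix.mulVec_mulVec, ← Matrix.mulVec_mulVec, e1,
          show ptsHom h g *ᵥ v = c • v from hc, Matrix.mulVec_smul, ← e1, Matrix.mulVec_mulVec, h2,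
          Matrix.one_mulVec]
      have e3 := congrFun e2 l
      rw [Matrix.mulVec_single_one] at e3
      simpa [Pi.single_eq_of_ne hl] using e3
    haveI : IsReduced G.left := GrpSchLib.isReduced_of_smooth_field G.hom
    have hz : ∀ l, l ≠ i → M' l i = 0 := fun l hl =>
      Agent.GrpSchLib.Kunneth.eq_zero_of_forall_evPt (M' l i) fun g => hcol g l hl
    let R : Matrix (Fin N) (Fin N) (Fn G) := M'.submatrix i.succAbove i.succAbove
    have hR : IsRepMatrix R := by
      refine ⟨fun T g g' => ?_, fun T => ?_⟩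
      · ext a b
        have := congrFun (congrFun (hM'.mul T g g') (i.succAbove a)) (i.succAbove b)
        simp only [R, Matrix.map_apply, Matrix.submatrix_apply, Matrix.mul_apply] at this ⊢
        rw [this, Fin.sum_univ_succAbove _ i, hz _ (i.succAbove_ne a), map_zero, zero_mul, zero_add]
      · ext a b
        have := congrFun (congrFun (hM'.one T) (i.succAbove a)) (i.succAbove b)
        simp only [R, Matrix.map_apply, Matrix.submatrix_apply] at this ⊢
        rw [this, Matrix.one_apply, Matrix.one_apply]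
        simp [Fin.succAbove_right_inj]
    rcases ih R hR with ⟨d, hd⟩ | hex
    swap
    · exact Or.inr hex
    left
    let χ : Pt G →* k :=
      { toFun := fun g => ptsHom hM' g i i
        map_one' := by simp
        map_mul' := fun g g' => by
          rw [map_mul, Matrix.mul_apply, Finset.sum_eq_single i (fun l _ hl => by rw [hcol g' l hl, mul_zero])
            (fun h => absurd (Finset.mem_univ i) h)] }
    have hχ : derivedSeries (Pt G) (d + 1) ≤ χ.ker := by
      rw [derivedSeries_succ]
      exact commutator_le_ker _ χ fun a _ b _ => _root_.mul_comm _ _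
    have hoff : ∀ g ∈ derivedSeries (Pt G) (d + 1), ∀ a b, a ≠ i ∨ b = i → ptsHom hM' g a b =
        (1 : Matrix (Fin (N + 1)) (Fin (N + 1)) k) a b := by
      intro g hg a b hab
      have hg' : ptsHom hR g = 1 := hd (derivedSeries_antitone (Pt G) (Nat.le_succ d) hg)
      by_cases hb : b = i
      · subst hb
        by_cases ha : a = b
        · subst ha
          rw [Matrix.one_apply_eq]
          exact hχ hg
        · rw [hcol g a ha, Matrix.one_apply_ne ha]
      · obtain ⟨a', rfl⟩ := Fin.exists_succAbove_eq (hab.resolve_right hb)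
        obtain ⟨b', rfl⟩ := Fin.exists_succAbove_eq hb
        have := congrFun (congrFun hg' a') b'
        refine this.trans ?_
        simp [Matrix.one_apply, Fin.succAbove_right_inj]
    refine ⟨d + 1 + 1, ?_⟩
    rw [derivedSeries_succ]
    refine le_trans (commutator_le_ker _ (ptsHom hM') fun a ha b hb => ?_) fun g hg => ?_
    · have key : ∀ x ∈ derivedSeries (Pt G) (d + 1), ∀ y ∈ derivedSeries (Pt G) (d + 1),
          ptsHom hM' x * ptsHom hM' y = ptsHom hM' x + ptsHom hM' y - 1 := by
        intro x hx y hy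
        have hxy : (ptsHom hM' x - 1) * (ptsHom hM' y - 1) = 0 := by
          ext p q
          rw [Matrix.mul_apply, Matrix.zero_apply]
          refine Finset.sum_eq_zero fun l _ => ?_
          simp only [Matrix.sub_apply]
          by_cases hl : l = i
          · rw [hoff x hx p l (Or.inr hl), sub_self, zero_mul]
          · rw [hoff y hy l q (Or.inl hl), sub_self, mul_zero]
        rw [← sub_eq_zero]
        rw [← hxy]
        noncomm_ring
      rw [key a ha b hb, key b hb a ha]
      abel
    · rw [MonoidHom.mem_ker] at hg ⊢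
      have e : P * ptsHom hM' g * Q = ptsHom h g := by
        rw [hval]
        simp only [← Matrix.mul_assoc, h1, Matrix.one_mul]
        rw [Matrix.mul_assoc, h1, Matrix.mul_one]
      rw [← e, hg, Matrix.mul_one, h1]

/-- **An affine group with unsolvable points has a representation without invariant lines.** -/
theorem exists_noEigen (G : Over (Spec (CommRingCat.of k))) [GrpObj G] [IsAffine G.left] [Smooth G.hom]
    (hns : ¬ Group.IsSolvable (Pt G)) :
    ∃ (n : ℕ) (M' : Matrix (Fin (n + 1)) (Fin (n + 1)) (Fn G)) (_ : IsRepMatrix M'),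
      ∀ v : Fin (n + 1) → k, v ≠ 0 → ∃ g : Pt G, ∀ c : k, matPtOf M' g *ᵥ v ≠ c • v := by
  classical
  by_contra hne
  haveI : IsAffineHom G.hom := isAffineHom_of_isAffine _
  haveI := Agent.GrpSchLib.AntiAffine.isSeparated_grp G
  let a : AlgGrp.Action G G := { act := μ[G], one_act := MonObj.one_mul G, mul_act := MonObj.mul_assoc G }
  choose N M b hM hfix _ using fun f : Fn G => Agent.GrpSchLib.ActRep.exists_stable a f
  obtain ⟨F, hF⟩ := Agent.GrpSchLib.RepFamily.exists_detect (G := G) M
  have hs : ∀ f : Fn G, ∃ d, derivedSeries (Pt G) d ≤ (ptsHom (hM f)).ker := fun f =>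
    (solvable_or_noEigen (N f) (M f) (hM f)).resolve_right fun h => hne h
  choose d hd using hs
  refine hns ⟨⟨F.sup d, (Subgroup.eq_bot_iff_forall _).mpr fun g hg => ?_⟩⟩
  have h1 : ∀ f ∈ F, (M f).map (ev g) = 1 := fun f hf => by
    have h2 : ptsHom (hM f) g = 1 := hd f (derivedSeries_antitone (Pt G) (Finset.le_sup hf) hg)
    ext p q
    have h3 : evPt g ((M f) p q) = (1 : Matrix (Fin (N f)) (Fin (N f)) k) p q := congrFun (congrFun h2 p) q
    rw [Matrix.map_apply, ev_pt_eq, h3, Matrix.one_apply, Matrix.one_apply]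
    split_ifs <;> simp
  refine Agent.GrpSchLib.LineGroups.ext_ev (AlgHom.ext fun f => ?_)
  have h := hfix f _ g (1 : Pt G) (hF _ g h1 f)
  rwa [show lift g (1 : Pt G) ≫ μ[G] = g * 1 from rfl, _root_.mul_one] at h

end

end Groth.Agent.Deform.Borel
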