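import Groth.Agent.Deform.Borel.FixedPoint
import Groth.Agent.Deform.Borel.ProperQuot
import Groth.Agent.Deform.Borel.Solvable
import Groth.Prelude.Def_AGF

/-!
# Borel subgroups of affine groups are conjugate
-/

universe u

open CategoryTheory CategoryTheory.Limits MonoidalCategory CartesianMonoidalCategory MonObj GrpObj AlgebraicGeometry

attribute [local instance] CategoryTheory.Hom.monoid CategoryTheory.Hom.group
set_option linter.style.haveILetI false
set_option linter.unusedSectionVars false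

namespace Groth.Agent.Deform.Borel

open Chev (Pt pimg)
open Agent.GrpSchLib (act_one act_mul comp_orbitMap)
open Agent.GrpSchLib.Kunneth (Fn IsRepMatrix)
open scoped commutatorElement
open Matrix

noncomputable section

variable {k : Type u} [Field k] [IsAlgClosed k] {G H B S : Over (Spec (CommRingCat.of k))} [GrpObj G]

/-- Conjugation by a rational point. -/
def conj (g : Pt G) : G ⟶ G := (toUnit G ≫ g) * 𝟙 G * (toUnit G ≫ g)⁻¹

theorem comp_conj {T : Over (Spec (CommRingCat.of k))} (f : T ⟶ G) (g : Pt G) :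
    f ≫ conj g = AGF.conjBy g f := by
  have h : f ≫ toUnit G = toUnit T := toUnit_unique _ _
  simp only [conj, MonObj.comp_mul, GrpObj.comp_inv, Category.comp_id, reassoc_of% h]

theorem pt_conj (x g : Pt G) : x ≫ conj g = g * x * g⁻¹ := by
  have h : x ≫ toUnit G = 𝟙 _ := toUnit_unique _ _
  simp only [conj, MonObj.comp_mul, GrpObj.comp_inv, Category.comp_id, reassoc_of% h]

theorem conj_mul (g g' : Pt G) : conj g' ≫ conj g = conj (g * g') := by
  rw [comp_conj]
  show (toUnit G ≫ g) * ((toUnit G ≫ g') * 𝟙 G * (toUnit G ≫ g')⁻¹) * (toUnit G ≫ g)⁻¹ =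
    (toUnit G ≫ (g * g')) * 𝟙 G * (toUnit G ≫ (g * g'))⁻¹
  rw [MonObj.comp_mul]
  group

theorem conj_one : conj (1 : Pt G) = 𝟙 G := by
  show (toUnit G ≫ (1 : Pt G)) * 𝟙 G * (toUnit G ≫ (1 : Pt G))⁻¹ = 𝟙 G
  rw [MonObj.comp_one]
  simp

instance isMonHom_conj (g : Pt G) : IsMonHom (conj g) := by
  have hm : ∀ (T : Over (Spec (CommRingCat.of k))) (x y : T ⟶ G),
      (x * y) ≫ conj g = (x ≫ conj g) * (y ≫ conj g) := by
    intro T x y
    rw [comp_conj, comp_conj, comp_conj]
    simp only [AGF.conjBy]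
    group
  refine ⟨?_, ?_⟩
  · rw [show (η[G] : Pt G) = 1 from MonObj.one_eq_one G, comp_conj]
    simp [AGF.conjBy]
  · rw [show μ[G] = fst G G * snd G G by rw [Hom.mul_def, lift_fst_snd, Category.id_comp], hm,
      show fst G G * snd G G = μ[G] by rw [Hom.mul_def, lift_fst_snd, Category.id_comp],
      show (conj g ⊗ₘ conj g) ≫ μ[G] = (fst G G ≫ conj g) * (snd G G ≫ conj g) by
        rw [Hom.mul_def]; congr 1]

theorem conj_left_inv (g : Pt G) : conj g⁻¹ ≫ conj g = 𝟙 G := by rw [conj_mul, mul_inv_cancel, conj_one]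

theorem conj_right_inv (g : Pt G) : conj g ≫ conj g⁻¹ = 𝟙 G := by rw [conj_mul, inv_mul_cancel, conj_one]

instance isIso_conj (g : Pt G) : IsIso (conj g) := ⟨conj g⁻¹, conj_right_inv g, conj_left_inv g⟩

instance isIso_conj_left (g : Pt G) : IsIso (conj g).left :=
  ((Over.forget _).mapIso (asIso (conj g))).isIso_hom

/-- A monomorphism whose image is squeezed by a conjugate of itself. -/
theorem range_conj_eq {C : Set G.left} (hC : IsClosed C) [LocallyOfFiniteType G.hom] [QuasiCompact G.hom] (g : Pt G)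
    (h : (conj g).left '' C ⊆ C) : (conj g).left '' C = C := by
  haveI : IsLocallyNoetherian G.left := LocallyOfFiniteType.isLocallyNoetherian G.hom
  haveI : CompactSpace G.left := QuasiCompact.compactSpace_of_compactSpace G.hom
  haveI : IsNoetherian G.left := { }
  let F : TopologicalSpace.Closeds G.left → TopologicalSpace.Closeds G.left := fun D =>
    ⟨(conj g).left '' D, (conj g).left.isClosedEmbedding.isClosedMap _ D.2⟩
  obtain ⟨_, ⟨m, rfl⟩, hmin⟩ := (wellFounded_lt (α := TopologicalSpace.Closeds G.left)).has_min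
    (Set.range fun m : ℕ => F^[m] ⟨C, hC⟩) ⟨_, 0, rfl⟩
  have hle : ∀ j, F^[j + 1] ⟨C, hC⟩ ≤ F^[j] ⟨C, hC⟩ := by
    intro j
    induction j with
    | zero => exact h
    | succ j ih =>
      rw [Function.iterate_succ_apply' F (j + 1)]
      conv_rhs => rw [Function.iterate_succ_apply']
      exact Set.image_mono ih
  have hinj : Function.Injective F := fun D D' e => TopologicalSpace.Closeds.ext
    ((conj g).left.isClosedEmbedding.injective.image_injective (congrArg TopologicalSpace.Closeds.carrier e))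
  have e : F^[m] (F ⟨C, hC⟩) = F^[m] ⟨C, hC⟩ := by
    rw [← Function.iterate_succ_apply]
    exact (hle m).eq_of_not_lt (hmin _ ⟨m + 1, rfl⟩)
  exact congrArg TopologicalSpace.Closeds.carrier (hinj.iterate m e)

/-- Commutators factor through a derived subgroup. -/
theorem exists_derived_scheme (G : Over (Spec (CommRingCat.of k))) [GrpObj G] [Smooth G.hom] [QuasiCompact G.hom]
    [ConnectedSpace G.left] :
    ∃ (N : Over (Spec (CommRingCat.of k))) (_ : GrpObj N) (i : N ⟶ G), IsMonHom i ∧ IsClosedImmersion i.left ∧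
      Smooth N.hom ∧ QuasiCompact N.hom ∧ ConnectedSpace N.left ∧
      (∀ (T : Over (Spec (CommRingCat.of k))) (a b : T ⟶ G), ∃ x : T ⟶ N, x ≫ i = ⁅a, b⁆) ∧
      ∀ m : ℕ, derivedSeries (Pt G) (m + 1) = ⊥ → derivedSeries (Pt N) m = ⊥ := by
  obtain ⟨N, iN, i, hi, hic, hNs, hNq, hNc, hcomm, hcl⟩ := exists_derived G
  haveI := hi; haveI := hic
  refine ⟨N, iN, i, hi, hic, hNs, hNq, hNc, ?_, fun m hm => derivedSeries_eq_bot i hcl hm⟩
  haveI : Smooth (G ⊗ G).hom := inferInstanceAs (Smooth (pullback.fst G.hom G.hom ≫ G.hom))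
  haveI : IsReduced (G ⊗ G).left := GrpSchLib.isReduced_of_smooth_field (G ⊗ G).hom
  let c : G ⊗ G ⟶ G := ⁅fst G G, snd G G⁆
  obtain ⟨d, hd⟩ := Chev.exists_lift_range i c (Chev.mem_of_pts c i.left.isClosedEmbedding.isClosed_range fun w => by
    obtain ⟨x, hx⟩ := hcomm (w ≫ fst G G) (w ≫ snd G G)
    refine ⟨pimg x, ?_⟩
    rw [← pimg_comp, hx]
    congr 1
    simp only [c, commutatorElement_def, MonObj.comp_mul, GrpObj.comp_inv])
  refine fun T a b => ⟨lift a b ≫ d, ?_⟩
  rw [Category.assoc, hd]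
  simp only [c, commutatorElement_def, MonObj.comp_mul, GrpObj.comp_inv, lift_fst, lift_snd]

/-- Solvability of rational points is solvability of the group. -/
theorem isSolvableGrp_of_pts (G : Over (Spec (CommRingCat.of k))) [GrpObj G] [Smooth G.hom] [QuasiCompact G.hom]
    [ConnectedSpace G.left] [Group.IsSolvable (Pt G)] : Red.IsSolvableGrp G := by
  obtain ⟨n, hn⟩ := Group.IsSolvable.solvable (G := Pt G)
  refine ⟨n, ?_⟩
  revert hn
  induction n generalizing G with
  | zero =>
    intro hn X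
    haveI := GrpSchLib.AntiAffine.isSeparated_grp G
    rw [derivedSeries_zero, Subgroup.eq_bot_iff_forall]
    intro x _
    have e : 𝟙 G = (1 : G ⟶ G) := Chev.SemiAbExt.ext_points _ _ fun p => by
      have : p ∈ (⊥ : Subgroup (Pt G)) := hn ▸ (derivedSeries_zero (Pt G)).symm ▸ Subgroup.mem_top p
      rw [Category.comp_id, MonObj.comp_one, Subgroup.mem_bot.mp this]
    rw [← Category.comp_id x, e, MonObj.comp_one]
  | succ n ih =>
    intro hn X
    obtain ⟨N, iN, i, hi, hic, hNs, hNq, hNc, hcomm, hlen⟩ := exists_derived_scheme G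
    haveI := hi; haveI := hic; haveI := hNs; haveI := hNq; haveI := hNc
    haveI : Group.IsSolvable (Pt N) := ⟨⟨n, hlen n hn⟩⟩
    have hN := ih N (hlen n hn) X
    let φ : (X ⟶ N) →* (X ⟶ G) :=
      { toFun := (· ≫ i), map_one' := MonObj.one_comp i, map_mul' := fun a b => MonObj.mul_comp a b i }
    have key : ∀ m, derivedSeries (X ⟶ G) (m + 1) ≤ (derivedSeries (X ⟶ N) m).map φ := by
      intro m
      induction m with
      | zero =>
        rw [derivedSeries_succ]
        refine Subgroup.commutator_le.mpr fun a _ b _ => ?_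
        obtain ⟨x, hx⟩ := hcomm X a b
        exact ⟨x, (derivedSeries_zero (X ⟶ N)).symm ▸ Subgroup.mem_top x, hx⟩
      | succ m ihm =>
        rw [derivedSeries_succ, derivedSeries_succ (X ⟶ N), Subgroup.map_commutator]
        exact Subgroup.commutator_mono ihm ihm
    refine le_bot_iff.mp ((key n).trans ?_)
    rw [hN, Subgroup.map_bot]

theorem isSolvable_pts_of_grp {G : Over (Spec (CommRingCat.of k))} [GrpObj G] (h : Red.IsSolvableGrp G) :
    Group.IsSolvable (Pt G) :=
  let ⟨n, hn⟩ := h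
  ⟨⟨n, hn _⟩⟩

set_option maxHeartbeats 1000000 in
/-- The reduced neutral component of a closed subgroup of rational points. -/
theorem exists_neutral [LocallyOfFiniteType G.hom] [QuasiCompact G.hom] (H : Subgroup (Pt G)) {C : Set G.left}
    (hC : IsClosed C) (hCH : ∀ h : Pt G, pimg h ∈ C ↔ h ∈ H) :
    ∃ (J : Over (Spec (CommRingCat.of k))) (_ : GrpObj J) (j : J ⟶ G), IsMonHom j ∧ IsClosedImmersion j.left ∧
      Smooth J.hom ∧ QuasiCompact J.hom ∧ ConnectedSpace J.left ∧ (∀ x : Pt J, x ≫ j ∈ H) ∧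
      ∀ (T : Over (Spec (CommRingCat.of k))) [GrpObj T] [Smooth T.hom] [ConnectedSpace T.left] (f : T ⟶ G)
        [IsMonHom f], (∀ t : Pt T, t ≫ f ∈ H) → ∃ f' : T ⟶ J, IsMonHom f' ∧ f' ≫ j = f := by
  obtain ⟨Y, iY, i, hi, hic, hYr, hYl, hYq, hYH, hHY⟩ := Chev.exists_subgroup H hC hCH
  haveI := hi; haveI := hic; haveI := hYr; haveI := hYl; haveI := hYq
  obtain ⟨N, iN, j, hj, hjc, hjf, hjr, hgi, hNc⟩ := GrpSchLib.exists_identityComponent (G := Y)
  haveI := hj; haveI := hjc; haveI := hjf; haveI := hgi; haveI := hNc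
  haveI : IsLocallyNoetherian Y.left := LocallyOfFiniteType.isLocallyNoetherian Y.hom
  haveI : LocallyOfFinitePresentation j.left := inferInstance
  haveI : IsOpenImmersion j.left := IsOpenImmersion.of_flat_of_mono j.left
  haveI : IsReduced N.left := isReduced_of_isOpenImmersion j.left
  haveI : LocallyOfFiniteType N.hom := by rw [← Over.w j]; infer_instance
  haveI : Smooth N.hom := GrpSchLib.smooth_of_isReduced_of_isAlgClosed N
  haveI : QuasiCompact N.hom := by rw [← Over.w j]; infer_instance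
  haveI : IrreducibleSpace N.left := GeometricallyIrreducible.irreducibleSpace N.hom N.hom.isOpenMap
  haveI : ConnectedSpace N.left := inferInstance
  refine ⟨N, iN, j ≫ i, inferInstance, inferInstanceAs (IsClosedImmersion (j.left ≫ i.left)), inferInstance,
    inferInstance, inferInstance, fun x => by rw [← Category.assoc]; exact hYH _, fun T _ _ _ f _ hf => ?_⟩
  haveI : IsReduced T.left := GrpSchLib.isReduced_of_smooth_field T.hom
  obtain ⟨d, hd⟩ := Chev.exists_lift_range i f (Chev.mem_of_pts f i.left.isClosedEmbedding.isClosed_range fun t => by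
    obtain ⟨y, hy⟩ := hHY _ (hf t)
    exact ⟨pimg y, by rw [← pimg_comp, hy]⟩)
  obtain ⟨e, he⟩ := Chev.exists_lift_range j d (by
    rw [hjr]
    refine (isPreconnected_range d.left.continuous).subset_connectedComponent ⟨pimg (η[T] : Pt T), ?_⟩
    refine i.left.isClosedEmbedding.injective ?_
    show (d ≫ i).left (pimg (η[T] : Pt T)) = (η[Y] ≫ i).left (IsLocalRing.closedPoint k)
    rw [hd, IsMonHom.one_hom i, ← pimg_comp, IsMonHom.one_hom f]
    rfl)
  haveI : Mono (j ≫ i) := (Over.forget _).mono_of_mono_map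
    (inferInstanceAs (Mono (j.left ≫ i.left)))
  have hef : e ≫ j ≫ i = f := by rw [reassoc_of% he, hd]
  refine ⟨e, ⟨?_, ?_⟩, hef⟩
  · rw [← cancel_mono (j ≫ i), Category.assoc, hef, IsMonHom.one_hom f, IsMonHom.one_hom (j ≫ i)]
  · rw [← cancel_mono (j ≫ i), Category.assoc, hef, IsMonHom.mul_hom f, Category.assoc, IsMonHom.mul_hom (j ≫ i),
      MonoidalCategory.tensorHom_comp_tensorHom_assoc, hef]

set_option maxHeartbeats 1000000 in
/-- **There is a connected solvable subgroup into which all others can be conjugated.** -/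
theorem exists_conjugating (G : Over (Spec (CommRingCat.of k))) [GrpObj G] [IsAffine G.left] [Smooth G.hom]
    [ConnectedSpace G.left] :
    ∃ (H : Over (Spec (CommRingCat.of k))) (_ : GrpObj H) (iH : H ⟶ G), IsMonHom iH ∧ IsClosedImmersion iH.left ∧
      Smooth H.hom ∧ ConnectedSpace H.left ∧ Group.IsSolvable (Pt H) ∧ ClosedImg iH ∧
      ∀ (S : Over (Spec (CommRingCat.of k))) [GrpObj S] [IsAffine S.left] [Smooth S.hom] [ConnectedSpace S.left]
        [Group.IsSolvable (Pt S)] (iS : S ⟶ G) [IsMonHom iS],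
        ∃ (g : Pt G) (f : S ⟶ H), IsMonHom f ∧ f ≫ iH = AGF.conjBy g iS := by
  haveI : IsAffineHom G.hom := isAffineHom_of_isAffine _
  haveI : IsLocallyNoetherian G.left := LocallyOfFiniteType.isLocallyNoetherian G.hom
  haveI : IsNoetherian G.left := { }
  suffices ∀ (C : TopologicalSpace.Closeds G.left) (G' : Over (Spec (CommRingCat.of k))) [GrpObj G']
      [IsAffine G'.left] [Smooth G'.hom] [ConnectedSpace G'.left] (i : G' ⟶ G), IsClosedImmersion i.left →
      Set.range i.left = C → ∃ (H : Over (Spec (CommRingCat.of k))) (_ : GrpObj H) (iH : H ⟶ G'),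
        IsMonHom iH ∧ IsClosedImmersion iH.left ∧
        Smooth H.hom ∧ ConnectedSpace H.left ∧ Group.IsSolvable (Pt H) ∧ ClosedImg iH ∧
        ∀ (S : Over (Spec (CommRingCat.of k))) [GrpObj S] [IsAffine S.left] [Smooth S.hom] [ConnectedSpace S.left]
          [Group.IsSolvable (Pt S)] (iS : S ⟶ G') [IsMonHom iS],
          ∃ (g : Pt G') (f : S ⟶ H), IsMonHom f ∧ f ≫ iH = AGF.conjBy g iS from
    this ⟨Set.univ, isClosed_univ⟩ G (𝟙 G) (inferInstanceAs (IsClosedImmersion (𝟙 G.left))) (by simp)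
  intro C
  induction C using WellFoundedLT.induction with
  | ind C ih =>
  intro G' _ _ _ _ i hic hiC
  by_cases hsol : Group.IsSolvable (Pt G')
  · refine ⟨G', inferInstance, 𝟙 G', inferInstance, inferInstanceAs (IsClosedImmersion (𝟙 G'.left)), inferInstance,
      inferInstance, hsol, ClosedImg.id, fun S _ _ _ _ _ iS _ => ⟨1, iS, inferInstance, ?_⟩⟩
    rw [Category.comp_id, ← comp_conj, conj_one, Category.comp_id]
  haveI : IsAffineHom G'.hom := isAffineHom_of_isAffine _
  obtain ⟨n, M, hM, hnoeig⟩ := exists_noEigen G' hsol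
  obtain ⟨a, ha⟩ := exists_projAct hM
  haveI : JacobsonSpace (Agent.GrpSchLib.ProjLine.Pn k n).left :=
    LocallyOfFiniteType.jacobsonSpace (Agent.GrpSchLib.ProjLine.Pn k n).hom
  obtain ⟨x₀, -⟩ := exists_hasCrd (k := k) (n := n) (v := fun _ => 1)
    (fun h => one_ne_zero (congrFun h 0))
  obtain ⟨y, -, hcl⟩ := exists_closed_orbit a isClosed_univ (fun _ _ _ => Set.mem_univ _) x₀ (Set.mem_univ _)
  -- the stabiliser
  let Hy : Subgroup (Pt G') :=
    { carrier := {g | lift g y ≫ a.act = y}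
      one_mem' := act_one a y
      mul_mem' := fun {g g'} hg hg' => by
        show lift (g * g') y ≫ a.act = y
        rw [← act_mul, hg', hg]
      inv_mem' := fun {g} hg => by
        show lift g⁻¹ y ≫ a.act = y
        conv_lhs => rw [← (hg : lift g y ≫ a.act = y)]
        rw [act_mul, inv_mul_cancel, act_one] }
  have hCy : IsClosed ((a.orbitMap y).left ⁻¹' {pimg y}) :=
    (((pointEquivClosedPoint (Agent.GrpSchLib.ProjLine.Pn k n).hom) ⟨y.left, Over.w y⟩).2).preimage
      (a.orbitMap y).left.continuous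
  have hCH : ∀ g : Pt G', pimg g ∈ (a.orbitMap y).left ⁻¹' {pimg y} ↔ g ∈ Hy := fun g => by
    show (a.orbitMap y).left (pimg g) = pimg y ↔ lift g y ≫ a.act = y
    rw [← pimg_comp, pt_orbitMap]
    exact ⟨fun h => Chev.pimg_injective h, fun h => by rw [h]⟩
  obtain ⟨J, iJ, j, hj, hjc, hJs, hJq, hJc, hJH, hlift⟩ := exists_neutral Hy hCy hCH
  haveI := hj; haveI := hjc; haveI := hJs; haveI := hJq; haveI := hJc
  haveI : IsAffine J.left := isAffine_of_isAffineHom j.left
  haveI := hic
  let C' : TopologicalSpace.Closeds G.left := ⟨Set.range (j ≫ i).left, by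
    haveI : IsClosedImmersion (j ≫ i).left := inferInstanceAs (IsClosedImmersion (j.left ≫ i.left))
    exact (j ≫ i).left.isClosedEmbedding.isClosed_range⟩
  have hlt : C' < C := by
    have hle : (C' : Set G.left) ⊆ C := by
      rw [← hiC]
      rintro _ ⟨x, rfl⟩
      exact ⟨_, rfl⟩
    refine lt_of_le_of_ne hle fun hne => ?_
    obtain ⟨v, hv⟩ := exists_crd y
    obtain ⟨g, hg⟩ := hnoeig v hv.ne_zero
    obtain ⟨z, hz⟩ : pimg g ∈ Set.range j.left := by
      have h1 : i.left (pimg g) ∈ (C' : Set G.left) := by rw [hne, ← hiC]; exact ⟨_, rfl⟩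
      obtain ⟨z, hz⟩ := h1
      exact ⟨z, i.left.isClosedEmbedding.injective hz⟩
    obtain ⟨z', hz'⟩ := exists_lift_pt j (p := g) ⟨z, hz⟩
    have hfix : lift g y ≫ a.act = y := hz' ▸ hJH z'
    have h1 : HasCrd y (matPtOf M g *ᵥ v) := by
      have h := ha g y v hv
      rwa [hfix] at h
    obtain ⟨l, hl⟩ := Function.ne_iff.mp hv.ne_zero
    refine hg ((matPtOf M g *ᵥ v) l / v l) (funext fun p => ?_)
    rw [Pi.smul_apply, smul_eq_mul, eq_comm, div_mul_eq_mul_div, div_eq_iff hl]
    rw [(h1.eq_iff hv).mp rfl l p]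
  obtain ⟨H, iH', h, hh, hhc, hHs, hHc, hHsol, hHimg, huniv⟩ :=
    ih C' hlt J (j ≫ i) (inferInstanceAs (IsClosedImmersion (j.left ≫ i.left))) rfl
  haveI := hh; haveI := hhc
  have himg : ClosedImg (h ≫ j) := by
    intro X C hC hst
    obtain ⟨D, hD, hDst, hDC⟩ := exists_saturation hHimg j hC hst
    obtain ⟨Y, iY', iY, hiY, hiYc, hYr, hYl, hYq, hYH, hHY⟩ := Chev.exists_subgroup Hy hCy hCH
    haveI := hiY; haveI := hiYc; haveI := hYr; haveI := hYl; haveI := hYq
    obtain ⟨N, iN, d, hd, hdc, hdf, -, hgi, hNc⟩ := GrpSchLib.exists_identityComponent (G := Y)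
    haveI := hd; haveI := hdc; haveI := hdf; haveI := hgi; haveI := hNc
    haveI : IsLocallyNoetherian Y.left := LocallyOfFiniteType.isLocallyNoetherian Y.hom
    haveI : LocallyOfFinitePresentation d.left := inferInstance
    haveI : IsOpenImmersion d.left := IsOpenImmersion.of_flat_of_mono d.left
    haveI : IsReduced N.left := isReduced_of_isOpenImmersion d.left
    haveI : LocallyOfFiniteType N.hom := by rw [← Over.w d]; infer_instance
    haveI : Smooth N.hom := GrpSchLib.smooth_of_isReduced_of_isAlgClosed N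
    haveI : IrreducibleSpace N.left := GeometricallyIrreducible.irreducibleSpace N.hom N.hom.isOpenMap
    obtain ⟨e, -, he⟩ := hlift N (d ≫ iY) fun t => by rw [← Category.assoc]; exact hYH _
    have hDst' : Stable (d ≫ iY) D := fun T g u x t ht => by
      rw [← he, ← Category.assoc]
      exact hDst T g (u ≫ e) x t ht
    obtain ⟨D', hD', hDst'', hDD'⟩ := exists_saturation_open d iY hD hDst'
    have hrange : Set.range iY.left = (a.orbitMap y).left ⁻¹' {pimg y} := by
      refine Set.Subset.antisymm (Chev.mem_of_pts iY hCy fun w => (hCH _).mpr (hYH w)) ?_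
      by_contra hne
      obtain ⟨z, hz, hz'⟩ := Set.not_subset.mp hne
      obtain ⟨g, hg, hg'⟩ := Chev.exists_pt (G := G') (S := (a.orbitMap y).left ⁻¹' {pimg y} \ Set.range iY.left)
        ⟨z, hz, hz'⟩ (hCy.isLocallyClosed.inter iY.left.isClosedEmbedding.isClosed_range.isOpen_compl.isLocallyClosed)
      obtain ⟨w, hw⟩ := hHY g ((hCH g).mp hg)
      exact hg' ⟨pimg w, by rw [← pimg_comp, hw]⟩
    rw [← hDC, ← hDD']
    exact closedImg_stabilizer a y hcl iY hrange X D' hD' hDst''
  refine ⟨H, iH', h ≫ j, inferInstance, inferInstanceAs (IsClosedImmersion (h.left ≫ j.left)), hHs, hHc, hHsol,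
    himg, fun S _ _ _ _ _ iS _ => ?_⟩
  obtain ⟨x, hxE, hx⟩ := exists_fixedPt_mem S (Agent.GrpSchLib.ProjLine.Pn k n) (restrictAct a iS)
    hcl (fun s x hx => by
      rw [lift_restrictAct]
      obtain ⟨g, hg⟩ := Chev.exists_pt (G := G') (S := (a.orbitMap y).left ⁻¹' {pimg x})
        (by obtain ⟨z, hz⟩ := hx; exact ⟨z, hz⟩)
        ((((pointEquivClosedPoint (Agent.GrpSchLib.ProjLine.Pn k n).hom) ⟨x.left, Over.w x⟩).2).preimage
          (a.orbitMap y).left.continuous).isLocallyClosed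
      have e : g ≫ a.orbitMap y = x := Chev.pimg_injective hg
      rw [← e, pt_orbitMap, act_mul, ← pt_orbitMap]
      exact ⟨_, rfl⟩)
    y ⟨pimg (1 : Pt G'), by rw [← pimg_comp, pt_orbitMap, act_one]⟩
  obtain ⟨g, hg⟩ := Chev.exists_pt (G := G') (S := (a.orbitMap y).left ⁻¹' {pimg x})
    (by obtain ⟨z, hz⟩ := hxE; exact ⟨z, hz⟩)
    ((((pointEquivClosedPoint (Agent.GrpSchLib.ProjLine.Pn k n).hom) ⟨x.left, Over.w x⟩).2).preimage
      (a.orbitMap y).left.continuous).isLocallyClosed
  have hgx : lift g y ≫ a.act = x := by rw [← pt_orbitMap]; exact Chev.pimg_injective hg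
  obtain ⟨φ, hφ, hφj⟩ := hlift S (iS ≫ conj g⁻¹) fun s => by
    show lift (s ≫ iS ≫ conj g⁻¹) y ≫ a.act = y
    have hs := hx (𝟙_ _) s
    rw [toUnit_unique (toUnit (𝟙_ _)) (𝟙 _), Category.id_comp, lift_restrictAct, ← hgx, act_mul] at hs
    rw [← Category.assoc, pt_conj, _root_.inv_inv, _root_.mul_assoc, ← act_mul, hs, act_mul, inv_mul_cancel, act_one]
  haveI := hφ
  obtain ⟨g', f, hf, hfh⟩ := huniv S φ
  refine ⟨(g' ≫ j) * g⁻¹, f, hf, ?_⟩
  rw [reassoc_of% hfh, ← comp_conj iS, ← conj_mul, ← reassoc_of% hφj]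
  rw [← Category.assoc φ j, comp_conj (φ ≫ j)]
  simp only [AGF.conjBy, MonObj.mul_comp, GrpObj.inv_comp, Category.assoc]

set_option maxHeartbeats 1000000 in
/-- **A Borel subgroup into which all connected solvable subgroups can be conjugated.** -/
theorem exists_borel (G : Over (Spec (CommRingCat.of k))) [GrpObj G] [IsAffine G.left] [Smooth G.hom]
    [ConnectedSpace G.left] :
    ∃ (H : Over (Spec (CommRingCat.of k))) (_ : GrpObj H) (iH : H ⟶ G), Red.IsBorelOver k iH ∧ ClosedImg iH ∧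
      ∀ (S : Over (Spec (CommRingCat.of k))) [GrpObj S] [IsAffine S.left] [Smooth S.hom] [ConnectedSpace S.left]
        [Group.IsSolvable (Pt S)] (iS : S ⟶ G) [IsMonHom iS],
        ∃ (g : Pt G) (f : S ⟶ H), IsMonHom f ∧ f ≫ iH = AGF.conjBy g iS := by
  haveI : IsAffineHom G.hom := isAffineHom_of_isAffine _
  obtain ⟨H, iH', iH, hh, hhc, hHs, hHc, hHsol, himg, huniv⟩ := exists_conjugating G
  haveI := hh; haveI := hhc; haveI := hHs; haveI := hHc
  haveI : IsAffine H.left := isAffine_of_isAffineHom iH.left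
  haveI : IsAffineHom H.hom := isAffineHom_of_isAffine _
  refine ⟨H, iH', iH, ⟨hh, hhc, hHs, hHc, isSolvableGrp_of_pts H, fun B _ i' _ f hi'c hBs hBc hBsol hf => ?_⟩, himg, huniv⟩
  haveI := hi'c; haveI := hBs; haveI := hBc
  haveI : IsAffine B.left := isAffine_of_isAffineHom i'.left
  haveI : Group.IsSolvable (Pt B) := isSolvable_pts_of_grp hBsol
  obtain ⟨g, f', -, hf'⟩ := huniv B i'
  have hC := range_conj_eq (G := G) i'.left.isClosedEmbedding.isClosed_range g (by
    rintro _ ⟨_, ⟨b, rfl⟩, rfl⟩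
    refine ⟨f.left (f'.left b), ?_⟩
    show ((f' ≫ f) ≫ i').left b = (i' ≫ conj g).left b
    rw [Category.assoc, hf, hf', comp_conj])
  have hr : Set.range i'.left ⊆ Set.range iH.left := by
    intro x hx
    rw [← hC] at hx
    obtain ⟨_, ⟨b, rfl⟩, rfl⟩ := hx
    refine ⟨f'.left b, ?_⟩
    show (f' ≫ iH).left b = (i' ≫ conj g).left b
    rw [hf', comp_conj]
  haveI : IsReduced B.left := GrpSchLib.isReduced_of_smooth_field B.hom
  obtain ⟨r, hr'⟩ := Chev.exists_lift_range iH i' hr
  haveI : Mono iH := (Over.forget _).mono_of_mono_map (inferInstanceAs (Mono iH.left))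
  haveI : Mono i' := (Over.forget _).mono_of_mono_map (inferInstanceAs (Mono i'.left))
  exact ⟨r, by rw [← cancel_mono iH, Category.assoc, hr', hf, Category.id_comp],
    by rw [← cancel_mono i', Category.assoc, hf, hr', Category.id_comp]⟩

/-- **Borel subgroups are conjugate.** -/
theorem borel_conj {G : Over (Spec (CommRingCat.of k))} [GrpObj G] [IsAffine G.left] [Smooth G.hom]
    [ConnectedSpace G.left] {B B' : Over (Spec (CommRingCat.of k))} [GrpObj B] [GrpObj B'] (iB : B ⟶ G) (iB' : B' ⟶ G)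
    (hB : Red.IsBorelOver k iB) (hB' : Red.IsBorelOver k iB') :
    ∃ (g : Pt G) (f : B ≅ B'), IsMonHom f.hom ∧ f.hom ≫ iB' = AGF.conjBy g iB := by
  obtain ⟨H, iH', iH, hH, -, huniv⟩ := exists_borel G
  have key : ∀ (B : Over (Spec (CommRingCat.of k))) [GrpObj B] (iB : B ⟶ G), Red.IsBorelOver k iB →
      ∃ (g : Pt G) (f : B ⟶ H), IsIso f ∧ IsMonHom f ∧ f ≫ iH = AGF.conjBy g iB := by
    intro B _ iB hB
    obtain ⟨hm, hc, hs, hcn, hsol, hmax⟩ := hB
    haveI := hm; haveI := hc; haveI := hs; haveI := hcn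
    haveI : IsAffine B.left := isAffine_of_isAffineHom iB.left
    haveI : Group.IsSolvable (Pt B) := isSolvable_pts_of_grp hsol
    obtain ⟨g, f, hf, hfH⟩ := huniv B iB
    haveI := hH.1
    haveI := hH.2.1
    refine ⟨g, f, hmax H (iH ≫ conj g⁻¹) f
      (inferInstanceAs (IsClosedImmersion (iH.left ≫ (conj g⁻¹).left))) hH.2.2.1 hH.2.2.2.1 hH.2.2.2.2.1 ?_, hf, hfH⟩
    rw [reassoc_of% hfH, ← comp_conj, Category.assoc, conj_right_inv, Category.comp_id]
  obtain ⟨g, f, hfi, hfm, hf⟩ := key B iB hB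
  obtain ⟨g', f', hfi', hfm', hf'⟩ := key B' iB' hB'
  haveI := hfi; haveI := hfm; haveI := hfi'; haveI := hfm'
  refine ⟨g'⁻¹ * g, asIso f ≪≫ (asIso f').symm, ?_, ?_⟩
  · haveI : IsMonHom (asIso f').hom := hfm'
    exact inferInstanceAs (IsMonHom (f ≫ (asIso f').inv))
  · show (f ≫ inv f') ≫ iB' = _
    have e : inv f' ≫ iB' = iH ≫ conj g'⁻¹ := by
      rw [IsIso.inv_comp_eq, reassoc_of% hf', ← comp_conj, Category.assoc, conj_right_inv, Category.comp_id]
    rw [Category.assoc, e, reassoc_of% hf, ← comp_conj, Category.assoc, conj_mul, ← comp_conj]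

end

end Groth.Agent.Deform.Borel
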