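import Groth.Agent.Deform.Borel.TorusHopf
import Groth.Agent.UnipComp.Powers
import Groth.Agent.GrpSchLib.DenseRed
import Mathlib.RingTheory.Jacobson.Ring

/-!
# The splitting of the points of a trigonalisable group
-/

universe u

open WithConv
open scoped TensorProduct

set_option linter.style.haveILetI false
set_option linter.unusedSectionVars false

namespace Groth.Agent.Deform.Borel

variable {k : Type u} [Field k]

/-- A group-like element of a unipotent bialgebra is trivial. -/
theorem eq_one_of_isGroupLike {B : Type u} [CommRing B] [Bialgebra k B] (hB : HopfRep.IsUnipotent k B) {g : B}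
    (hg : IsGroupLikeElem k g) : g = 1 := by
  let co : k →ₗ[k] k ⊗[k] B := (TensorProduct.mk k k B).flip g
  letI : HopfRep.Comod k B k :=
    { coact := co
      coassoc := LinearMap.ext_ring (by
        show TensorProduct.assoc k k B B (((1 : k) ⊗ₜ[k] g) ⊗ₜ[k] g) =
          (1 : k) ⊗ₜ[k] (CoalgebraStruct.comul (R := k) g)
        rw [TensorProduct.assoc_tmul, hg.comul_eq_tmul_self])
      counit_comp := LinearMap.ext_ring (by
        show (1 : k) ⊗ₜ[k] (CoalgebraStruct.counit (R := k) g) = (1 : k) ⊗ₜ[k] (1 : k)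
        rw [hg.counit_eq_one]) }
  obtain ⟨v, hv, hv0⟩ := Submodule.exists_mem_ne_zero_of_ne_bot (hB k inferInstance inferInstance)
  change v ⊗ₜ[k] g = v ⊗ₜ[k] (1 : B) at hv
  have h := congrArg (TensorProduct.lid k B) hv
  rw [TensorProduct.lid_tmul, TensorProduct.lid_tmul] at h
  exact smul_right_injective B hv0 h

/-- A reduced algebra of finite type over an algebraically closed field is detected by its rational points. -/
theorem eq_zero_of_forall_algHom [IsAlgClosed k] {A : Type u} [CommRing A] [Algebra k A] [Algebra.FiniteType k A]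
    [IsReduced A] (a : A) (h : ∀ u : A →ₐ[k] k, u a = 0) : a = 0 := by
  haveI : IsJacobsonRing A := isJacobsonRing_of_finiteType (A := k)
  have h1 : a ∈ (⊥ : Ideal A).jacobson := by
    refine Submodule.mem_sInf.mpr ?_
    rintro m ⟨-, hm⟩
    haveI := hm
    letI : Field (A ⧸ m) := Ideal.Quotient.field m
    haveI : Algebra.FiniteType k (A ⧸ m) :=
      Algebra.FiniteType.of_surjective (Ideal.Quotient.mkₐ k m) (Ideal.Quotient.mkₐ_surjective k m)
    haveI : Module.Finite k (A ⧸ m) := finite_of_finite_type_of_isJacobsonRing k (A ⧸ m)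
    let e : k ≃ₐ[k] A ⧸ m := AlgEquiv.ofBijective (Algebra.ofId k (A ⧸ m))
      IsAlgClosed.algebraMap_bijective_of_isIntegral
    have h2 := h (e.symm.toAlgHom.comp (Ideal.Quotient.mkₐ k m))
    exact Ideal.Quotient.eq_zero_iff_mem.mp (e.symm.injective (h2.trans (map_zero _).symm))
  rw [← Ideal.radical_eq_jacobson] at h1
  obtain ⟨n, hn⟩ := h1
  exact (show IsNilpotent a from ⟨n, hn⟩).eq_zero

/-- An element multiplicative on rational points is group-like. -/
theorem isGroupLike_of_points [IsAlgClosed k] {A : Type u} [CommRing A] [Bialgebra k A] [Algebra.FiniteType k A]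
    [IsReduced A] (g : A) (h1 : Coalgebra.counit (R := k) g = 1)
    (hm : ∀ u v : WithConv (A →ₐ[k] k), (u * v).ofConv g = u.ofConv g * v.ofConv g) : IsGroupLikeElem k g := by
  refine ⟨h1, sub_eq_zero.mp (GrpSchLib.DenseRed.eq_zero_of_forall (fun u : A →ₐ[k] k => u)
    (fun a ha => eq_zero_of_forall_algHom (k := k) a ha) _ fun u => eq_zero_of_forall_algHom (k := k) _ fun v => ?_)⟩
  have key : ∀ z : A ⊗[k] A, v (Algebra.TensorProduct.lid k A (Algebra.TensorProduct.map u (AlgHom.id k A) z)) =
      Algebra.TensorProduct.lift u v (fun _ _ => Commute.all _ _) z := by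
    intro z
    induction z using TensorProduct.induction_on with
    | zero => simp
    | tmul a b => simp
    | add s t hs ht => simp only [map_add, hs, ht]
  rw [key, map_sub, sub_eq_zero, Algebra.TensorProduct.lift_tmul]
  have h := hm (toConv u) (toConv v)
  rw [AlgHom.convMul_apply] at h
  refine Eq.trans ?_ h
  generalize Coalgebra.comul (R := k) g = z
  induction z using TensorProduct.induction_on with
  | zero => simp
  | tmul a b => simp
  | add s t hs ht => simp only [map_add, hs, ht]

variable {A : Type u} [CommRing A] [HopfAlgebra k A] {M : Type u} [CommGroup M]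

/-- The points restricted to the torus. -/
noncomputable def torusProj (ψ : MonoidAlgebra k M →ₐc[k] A) : WithConv (A →ₐ[k] k) →* WithConv (MonoidAlgebra k M →ₐ[k] k) where
  toFun x := toConv (x.ofConv.comp (ψ : MonoidAlgebra k M →ₐ[k] A))
  map_one' := by
    refine WithConv.ext (AlgHom.ext fun b => ?_)
    show algebraMap k k (Coalgebra.counit (R := k) (ψ b)) = algebraMap k k (Coalgebra.counit (R := k) b)
    rw [CoalgHomClass.counit_comp_apply ψ b]
  map_mul' x y := congrArg toConv (AlgHom.convMul_comp_bialgHom_distrib x y ψ)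

variable {ψ : MonoidAlgebra k M →ₐc[k] A} {J : Ideal A} [J.IsHopfIdeal k]

theorem exists_unip_hom (hJ : J = Ideal.map (ψ : MonoidAlgebra k M →+* A)
    (RingHom.ker (Bialgebra.counitAlgHom k (MonoidAlgebra k M)))) :
    ∃ Φ : (torusProj ψ).ker →* WithConv (A ⧸ J →ₐ[k] k), ∀ (x : (torusProj ψ).ker) (a : A),
      (Φ x).ofConv (Ideal.Quotient.mk J a) = (x : WithConv (A →ₐ[k] k)).ofConv a := by
  have hkill : ∀ x : (torusProj ψ).ker, ∀ a ∈ J, (x : WithConv (A →ₐ[k] k)).ofConv a = 0 := by
    intro x a ha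
    subst hJ
    refine (Ideal.map_le_iff_le_comap.mpr fun b hb => ?_ :
      _ ≤ RingHom.ker ((x : WithConv (A →ₐ[k] k)).ofConv : A →+* k)) ha
    show (x : WithConv (A →ₐ[k] k)).ofConv (ψ b) = 0
    have h : (torusProj ψ (x : WithConv (A →ₐ[k] k))).ofConv b = (1 : WithConv (MonoidAlgebra k M →ₐ[k] k)).ofConv b := by
      rw [x.2]
    refine h.trans ?_
    show algebraMap k k (Coalgebra.counit (R := k) b) = 0
    rw [show Coalgebra.counit (R := k) b = 0 from hb, map_zero]
  let π : A →ₐc[k] A ⧸ J := Bialgebra.Quotient.mkBialgHom J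
  let f : (torusProj ψ).ker → WithConv (A ⧸ J →ₐ[k] k) := fun x =>
    toConv (Ideal.Quotient.liftₐ J (x : WithConv (A →ₐ[k] k)).ofConv (hkill x))
  have hf : ∀ x, toConv ((f x).ofConv.comp (π : A →ₐ[k] A ⧸ J)) = (x : WithConv (A →ₐ[k] k)) := fun x =>
    WithConv.ext (AlgHom.ext fun a => rfl)
  have hinj : ∀ y z : WithConv (A ⧸ J →ₐ[k] k), toConv (y.ofConv.comp (π : A →ₐ[k] A ⧸ J)) =
      toConv (z.ofConv.comp (π : A →ₐ[k] A ⧸ J)) → y = z := fun y z h =>
    WithConv.ext (AlgHom.ext fun q => by
      obtain ⟨a, rfl⟩ := Ideal.Quotient.mk_surjective q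
      exact DFunLike.congr_fun (congrArg WithConv.ofConv h) a)
  refine ⟨⟨⟨f, hinj _ _ ?_⟩, fun x y => hinj _ _ ?_⟩, fun x a => rfl⟩
  · rw [hf, OneMemClass.coe_one]
    refine WithConv.ext (AlgHom.ext fun a => ?_)
    show algebraMap k k (Coalgebra.counit (R := k) a) = algebraMap k k (Coalgebra.counit (R := k) (π a))
    rw [CoalgHomClass.counit_comp_apply π a]
  · rw [hf, Subgroup.coe_mul]
    conv_lhs => rw [← hf x, ← hf y]
    exact (congrArg toConv (AlgHom.convMul_comp_bialgHom_distrib (f x) (f y) π)).symm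

/-- **The kernel of the projection to the torus**: nilpotent, without characters and without torsion prime to the
characteristic. -/
theorem torusProj_ker [IsAlgClosed k] [Algebra.FiniteType k A] [IsReduced A]
    (hJ : J = Ideal.map (ψ : MonoidAlgebra k M →+* A) (RingHom.ker (Bialgebra.counitAlgHom k (MonoidAlgebra k M))))
    (hU : HopfRep.IsUnipotent k (A ⧸ J)) :
    Group.IsNilpotent (torusProj ψ).ker ∧
      (∀ g : A, (∀ u v : WithConv (A →ₐ[k] k), (u * v).ofConv g = u.ofConv g * v.ofConv g) →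
        Coalgebra.counit (R := k) g = 1 → ∀ x ∈ (torusProj ψ).ker, x.ofConv g = 1) ∧
      ∀ x ∈ (torusProj ψ).ker, ∀ N : ℕ, (N : k) ≠ 0 → x ^ N = 1 → x = 1 := by
  obtain ⟨Φ, hΦ⟩ := exists_unip_hom (ψ := ψ) hJ
  have hΦi : Function.Injective Φ := fun x y h => Subtype.ext (WithConv.ext (AlgHom.ext fun a => by
    rw [← hΦ x a, ← hΦ y a, h]))
  haveI : Algebra.FiniteType k (A ⧸ J) :=
    Algebra.FiniteType.of_surjective (Ideal.Quotient.mkₐ k J) (Ideal.Quotient.mkₐ_surjective k J)
  haveI := UnipComp.Points.isNilpotent_points hU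
  refine ⟨Group.nilpotent_of_mulEquiv (MonoidHom.ofInjective hΦi).symm, fun g hg h1 x hx => ?_,
    fun x hx N hN hxN => ?_⟩
  · have hgl : IsGroupLikeElem k ((Bialgebra.Quotient.mkBialgHom J : A →ₐc[k] A ⧸ J) g) :=
      (isGroupLike_of_points g h1 hg).map _
    rw [← hΦ ⟨x, hx⟩ g,
      show Ideal.Quotient.mk J g = 1 from eq_one_of_isGroupLike hU hgl, map_one]
  · suffices h : Φ ⟨x, hx⟩ = 1 by
      have h2 := hΦi (h.trans Φ.map_one.symm)
      exact congrArg Subtype.val h2
    have hpow : Φ ⟨x, hx⟩ ^ N = 1 := by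
      rw [← map_pow, show (⟨x, hx⟩ : (torusProj ψ).ker) ^ N = 1 from Subtype.ext (by simpa using hxN), map_one]
    obtain ⟨p, hp⟩ := CharP.exists k
    rcases CharP.char_is_prime_or_zero k p with hprime | rfl
    · obtain ⟨r, hr⟩ := UnipComp.Powers.pow_prime_pow_eq_one (R := k) p hU
      have hco : Nat.Coprime N (p ^ r) := by
        refine Nat.Coprime.pow_right r ?_
        rw [Nat.coprime_comm, hprime.coprime_iff_not_dvd]
        exact fun hd => hN ((CharP.cast_eq_zero_iff k p N).mpr hd)
      have h1 := orderOf_dvd_of_pow_eq_one hpow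
      have h2 := orderOf_dvd_of_pow_eq_one (hr (Φ ⟨x, hx⟩))
      exact orderOf_eq_one_iff.mp (Nat.eq_one_of_dvd_coprimes hco h1 h2)
    · haveI := CharP.charP_to_charZero k
      exact UnipComp.Powers.eq_one_of_pow_eq_one hU (fun h => hN (by simp [h])) hpow

end Groth.Agent.Deform.Borel
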