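import Groth.Agent.Deform.Borel.TorusHopf
import Groth.Agent.Deform.Borel.LeviHopf
import Groth.Agent.GrpSchLib.UnitsScheme
import Groth.Agent.Deform.Borel.Conj
import Groth.Agent.Deform.Chev.AlgClosed
import Groth.Agent.S3266
import Groth.Agent.GrpSchLib.MultTypeComm
import Groth.Agent.GrpSchLib.AffineHopfClosed
import Groth.Agent.GrpSchLib.HomFinite
import Groth.Agent.Deform.Extension

/-!
# Maximal tori over an algebraically closed field are conjugate
-/

universe u

open CategoryTheory CategoryTheory.Limits MonoidalCategory CartesianMonoidalCategory MonObj GrpObj AlgebraicGeometry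
open WithConv

attribute [local instance] CategoryTheory.Hom.monoid CategoryTheory.Hom.group
set_option linter.style.haveILetI false
set_option linter.unusedSectionVars false

namespace Groth.Agent.Deform.Borel

open Chev (Pt pimg)
open Agent.GrpSchLib.AffineHopf (sp spMap spIso exists_hopf exists_bialgHom spMap_eq_mapMulEquiv spMap_comp)

noncomputable section

variable {k : Type u} [Field k]

/-- A monomorphic homomorphism of groups of finite type over a field is a closed immersion. -/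
theorem isClosedImmersion_of_mono {G H : Over (Spec (CommRingCat.of k))} [GrpObj G] [GrpObj H]
    [LocallyOfFiniteType G.hom] [LocallyOfFiniteType H.hom] [QuasiCompact H.hom]
    (i : H ⟶ G) [IsMonHom i] [Mono i] : IsClosedImmersion i.left := by
  haveI := Agent.GrpSchLib.AntiAffine.isSeparated_grp G
  haveI := Agent.GrpSchLib.AntiAffine.isSeparated_grp H
  haveI : Mono i.left := (Over.forget _).map_mono i
  haveI : QuasiCompact (i.left ≫ G.hom) := by rw [Over.w i]; infer_instance
  haveI : QuasiCompact i.left := QuasiCompact.of_comp i.left G.hom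
  haveI : LocallyOfFiniteType (i.left ≫ G.hom) := by rw [Over.w i]; infer_instance
  haveI : LocallyOfFiniteType i.left := locallyOfFiniteType_of_comp i.left G.hom
  haveI : IsSeparated (i.left ≫ G.hom) := by rw [Over.w i]; infer_instance
  haveI : IsSeparated i.left := IsSeparated.of_comp i.left G.hom
  haveI : IsFinite i.left := Agent.GrpSchLib.HomFinite.isFinite i
  exact (IsClosedImmersion.iff_isFinite_and_mono _).mpr ⟨inferInstance, inferInstance⟩

theorem isSolvable_pts_of_torus {T : Over (Spec (CommRingCat.of k))} [GrpObj T] (hT : Red.IsTorus T) :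
    Group.IsSolvable (Pt T) :=
  Group.isSolvable_of_comm (Agent.GrpSchLib.MultTypeComm.points_comm (Deform.isMultTypeFT_of_isTorus hT))

/-- A torus into which every subtorus can be conjugated. -/
def IsUnivTorus {T G : Over (Spec (CommRingCat.of k))} [GrpObj T] [GrpObj G] (i : T ⟶ G) : Prop :=
  IsMonHom i ∧ IsClosedImmersion i.left ∧ Red.IsTorus T ∧
    ∀ (T' : Over (Spec (CommRingCat.of k))) [GrpObj T'] (f : T' ⟶ G) [IsMonHom f] [Mono f], Red.IsTorus T' →
      ∃ (g : Pt G) (f' : T' ⟶ T), IsMonHom f' ∧ f' ≫ i = AGF.conjBy g f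

variable [IsAlgClosed k]

theorem isTorus_sp {M : Type u} [CommGroup M] [Group.FG M] [IsDomain (MonoidAlgebra k M)] :
    Red.IsTorus (sp k (MonoidAlgebra k M)) := by
  have htf : ∀ (x : M) (n : ℕ), n ≠ 0 → x ^ n = 1 → x = 1 := fun x n hn hx => by
    let s : MonoidAlgebra k M := MonoidAlgebra.single x 1
    have hs : s ^ n = 1 := by
      simp [s, MonoidAlgebra.single_pow, hx, MonoidAlgebra.one_def]
    have hint : IsIntegral k s := ⟨Polynomial.X ^ n - 1, Polynomial.monic_X_pow_sub_C 1 hn, by simp [hs]⟩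
    obtain ⟨c, hc⟩ := minpoly.mem_range_of_degree_eq_one k s
      (IsAlgClosed.degree_eq_one_of_irreducible k (minpoly.irreducible hint))
    rw [MonoidAlgebra.coe_algebraMap, Function.comp_apply] at hc
    by_contra hne
    have h1 := congrArg (fun f : MonoidAlgebra k M => f.coeff x) hc
    simp [s, Ne.symm hne] at h1
  haveI : Module.Finite ℤ (Additive M) := Module.Finite.iff_addGroup_fg.mpr inferInstance
  haveI : IsAddTorsionFree (Additive M) := ⟨fun n hn x y h => sub_eq_zero.mp (by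
    have h' : (Additive.toMul (x - y)) ^ n = 1 := by
      have : n • (x - y) = 0 := by rw [nsmul_sub, sub_eq_zero]; exact h
      simpa using congrArg Additive.toMul this
    exact Additive.toMul.injective (htf _ n hn h'))⟩
  haveI : Module.Free ℤ (Additive M) := inferInstance
  let b := (Module.finBasis ℤ (Additive M)).equivFun.toAddEquiv
  let c : M ≃* Multiplicative (Fin (Module.finrank ℤ (Additive M)) → ℤ) :=
    (MulEquiv.multiplicativeAdditive M).symm.trans b.toMultiplicative
  obtain ⟨a⟩ := Agent.GrpSchLib.AffineHopf.nonempty_DS_iso k (Fin (Module.finrank ℤ (Additive M)) → ℤ)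
  exact Deform.isTorus_of_split _ ⟨spIso (QuasiIsotrivial.congrEquiv k c.symm) ≪≫ a⟩

/-- The data of a splitting of the points of a connected solvable group along a torus. -/
def IsLevi {T S : Over (Spec (CommRingCat.of k))} [GrpObj T] [GrpObj S] (i : T ⟶ S) (π : Pt S →* Pt T) : Prop :=
  (∀ t : Pt T, π (t ≫ i) = t) ∧ Group.IsNilpotent π.ker ∧
    (∀ f : Agent.GrpSchLib.Kunneth.Fn S, (∀ x y : Pt S, Agent.GrpSchLib.Kunneth.evPt (x * y) f =
      Agent.GrpSchLib.Kunneth.evPt x f * Agent.GrpSchLib.Kunneth.evPt y f) →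
      Agent.GrpSchLib.Kunneth.evPt (1 : Pt S) f = 1 → ∀ u ∈ π.ker, Agent.GrpSchLib.Kunneth.evPt u f = 1) ∧
    ∀ u ∈ π.ker, ∀ N : ℕ, (N : k) ≠ 0 → u ^ N = 1 → u = 1

set_option maxHeartbeats 1000000 in
/-- **Tori of a connected solvable affine group are conjugate into one of them**, which is a quotient of the group. -/
theorem exists_levi_hom (S : Over (Spec (CommRingCat.of k))) [GrpObj S] [IsAffine S.left] [Smooth S.hom]
    [ConnectedSpace S.left] [Group.IsSolvable (Pt S)] :
    ∃ (T : Over (Spec (CommRingCat.of k))) (_ : GrpObj T) (i : T ⟶ S), IsUnivTorus i ∧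
      ∃ π : Pt S →* Pt T, IsLevi i π ∧ ∃ ρ : S ⟶ T, IsMonHom ρ ∧ ∀ x : Pt S, x ≫ ρ = π x := by
  haveI : IsAffineHom S.hom := isAffineHom_of_isAffine _
  obtain ⟨A, _, _, ⟨eS⟩⟩ := exists_hopf S
  let a : sp k A ≅ S := (Grp.forget _).mapIso eS
  haveI : IsMonHom a.hom := eS.hom.hom.isMonHom_hom
  haveI : IsMonHom a.inv := eS.inv.hom.isMonHom_hom
  haveI : IsIso a.hom.left := ((Over.forget _).mapIso a).isIso_hom
  haveI : IsIso a.inv.left := ((Over.forget _).mapIso a).isIso_inv
  haveI : Algebra.FiniteType k A := RingHom.finiteType_algebraMap.mp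
    ((HasRingHomProperty.Spec_iff (P := @LocallyOfFiniteType)).mp (by
      show LocallyOfFiniteType (sp k A).hom
      rw [← Over.w a.hom]; infer_instance))
  haveI : IsIntegral S.left := Agent.GrpSchLib.Kunneth.isIntegral_grp S
  haveI : IsIntegral (Spec (CommRingCat.of A)) := by
    haveI : Nonempty ↥(Spec (CommRingCat.of A)) := ⟨a.inv.left (Classical.arbitrary _)⟩
    haveI : IsOpenImmersion a.hom.left :=
      @IsOpenImmersion.of_isIso _ _ _ ((Over.forget _).mapIso a).isIso_hom
    exact @isIntegral_of_isOpenImmersion _ _ a.hom.left this _ ‹_›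
  haveI : IsDomain A := (affine_isIntegral_iff (CommRingCat.of A)).mp inferInstance
  let e1 : 𝟙_ (Over (Spec (CommRingCat.of k))) ≅ sp k k := Over.isoMk (Iso.refl _) (by
    show 𝟙 _ ≫ Spec.map (CommRingCat.ofHom (algebraMap k k)) = 𝟙 _
    rw [Category.id_comp, Algebra.algebraMap_self]
    exact Spec.map_id _)
  let Φ : WithConv (A →ₐ[k] k) →* Pt S :=
    { toFun := fun u => e1.hom ≫ spMap u.ofConv ≫ a.hom
      map_one' := by
        rw [show spMap (1 : WithConv (A →ₐ[k] k)).ofConv = (1 : sp k k ⟶ sp k A) from map_one Spec.mapMulEquiv,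
          MonObj.one_comp, MonObj.comp_one]
      map_mul' := fun u v => by
        rw [show spMap (u * v).ofConv = spMap u.ofConv * spMap v.ofConv from map_mul Spec.mapMulEquiv u v,
          MonObj.mul_comp, MonObj.comp_mul] }
  have hΦ : Function.Surjective Φ := fun p => by
    obtain ⟨f, hf⟩ := Agent.GrpSchLib.AffineHopf.exists_eq_spMap (e1.inv ≫ p ≫ a.inv)
    exact ⟨toConv f, by show e1.hom ≫ spMap f ≫ a.hom = p; rw [← hf]; simp⟩
  haveI : Group.IsSolvable (WithConv (A →ₐ[k] k)) :=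
    Group.isSolvable_of_isSolvable_injective (f := Φ) (fun u v h => by
      have h' : spMap u.ofConv = spMap v.ofConv := by
        rw [← cancel_mono a.hom, ← cancel_epi e1.hom]; exact h
      exact WithConv.ext (Agent.GrpSchLib.AffineHopf.spMap_injective h'))
  have hT : HopfRep.IsTrigonalizable k A := S3266.result k A fun e he => by
    rcases IsIdempotentElem.iff_eq_zero_or_one.mp he with h | h
    · exact Or.inl h
    · exact Or.inr h
  obtain ⟨M, _, r, ψ, hrψ, hrs, hfg, hdom, ⟨J, hJi, hJψ, hJU⟩, huniv⟩ := exists_torus_hopf A hT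
  haveI := hJi
  haveI := hfg; haveI := hdom
  let T := sp k (MonoidAlgebra k M)
  let i : T ⟶ S := spMap (r : A →ₐ[k] MonoidAlgebra k M) ≫ a.hom
  haveI : IsClosedImmersion (spMap (r : A →ₐ[k] MonoidAlgebra k M)).left :=
    IsClosedImmersion.spec_of_surjective _ hrs
  obtain ⟨hnil, hchar, htor⟩ := torusProj_ker (ψ := ψ) hJψ hJU
  have hΦi : Function.Injective Φ := fun u v h => by
    have h' : spMap u.ofConv = spMap v.ofConv := by
      rw [← cancel_mono a.hom, ← cancel_epi e1.hom]; exact h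
    exact WithConv.ext (Agent.GrpSchLib.AffineHopf.spMap_injective h')
  let Ψ : Pt S ≃* WithConv (A →ₐ[k] k) := (MulEquiv.ofBijective Φ ⟨hΦi, hΦ⟩).symm
  have hΨ : ∀ x, Φ (Ψ x) = x := (MulEquiv.ofBijective Φ ⟨hΦi, hΦ⟩).apply_symm_apply
  let ΘT : WithConv (MonoidAlgebra k M →ₐ[k] k) →* Pt T :=
    { toFun := fun v => e1.hom ≫ spMap v.ofConv
      map_one' := by
        rw [show spMap (1 : WithConv (MonoidAlgebra k M →ₐ[k] k)).ofConv = (1 : sp k k ⟶ sp k (MonoidAlgebra k M)) from
          map_one Spec.mapMulEquiv, MonObj.comp_one]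
      map_mul' := fun u v => by
        rw [show spMap (u * v).ofConv = spMap u.ofConv * spMap v.ofConv from map_mul Spec.mapMulEquiv u v,
          MonObj.comp_mul] }
  have hΘi : Function.Injective ΘT := fun u v h =>
    WithConv.ext (Agent.GrpSchLib.AffineHopf.spMap_injective ((cancel_epi e1.hom).mp h))
  let π : Pt S →* Pt T := ΘT.comp ((torusProj ψ).comp Ψ.toMonoidHom)
  have hker : ∀ x : Pt S, x ∈ π.ker → Ψ x ∈ (torusProj ψ).ker := fun x hx => hΘi (hx.trans (map_one ΘT).symm)
  let j : π.ker →* (torusProj ψ).ker := (Ψ.toMonoidHom.comp π.ker.subtype).codRestrict _ fun x => hker x x.2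
  have hj : Function.Injective j := fun x y h => Subtype.ext (Ψ.injective (congrArg Subtype.val h))
  have hev : ∀ (u : WithConv (A →ₐ[k] k)) (f : Agent.GrpSchLib.Kunneth.Fn S),
      Agent.GrpSchLib.Kunneth.evPt (Φ u) f =
        u.ofConv ((Scheme.ΓSpecIso (CommRingCat.of A)).hom (a.hom.left.appTop f)) := fun u f => by
    show (Scheme.ΓSpecIso (CommRingCat.of k)).hom ((Spec.map (CommRingCat.ofHom u.ofConv.toRingHom)).appTop
      (a.hom.left.appTop f)) = _
    rw [← CommRingCat.comp_apply, Scheme.ΓSpecIso_naturality]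
    rfl
  haveI := hnil
  haveI : _root_.IsReduced A := inferInstance
  refine ⟨T, inferInstance, i, ⟨inferInstance,
    inferInstanceAs (IsClosedImmersion ((spMap (r : A →ₐ[k] MonoidAlgebra k M)).left ≫ a.hom.left)), isTorus_sp,
    fun T' _ f _ _ hT' => ?_⟩, π, ⟨fun t => ?_, Group.nilpotent_of_mulEquiv (MonoidHom.ofInjective hj).symm,
    fun f hf hf1 x hx => ?_, fun x hx N hN hxN => ?_⟩,
    a.inv ≫ spMap (ψ : MonoidAlgebra k M →ₐ[k] A), inferInstance, fun x => ?_⟩
  rotate_left
  · obtain ⟨v, hv⟩ := Agent.GrpSchLib.AffineHopf.exists_eq_spMap (e1.inv ≫ t)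
    have ht : t = ΘT (toConv v) := by show t = e1.hom ≫ spMap v; rw [← hv, Iso.hom_inv_id_assoc]
    have hti : t ≫ i = Φ (toConv (v.comp (r : A →ₐ[k] MonoidAlgebra k M))) := by
      show t ≫ spMap (r : A →ₐ[k] MonoidAlgebra k M) ≫ a.hom =
        e1.hom ≫ spMap (v.comp (r : A →ₐ[k] MonoidAlgebra k M)) ≫ a.hom
      rw [← spMap_comp, ht]
      show (e1.hom ≫ spMap v) ≫ _ = _
      simp only [Category.assoc]
    show ΘT (torusProj ψ (Ψ (t ≫ i))) = t
    rw [hti, show Ψ (Φ _) = _ from (MulEquiv.ofBijective Φ ⟨hΦi, hΦ⟩).symm_apply_apply _]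
    exact ht.symm ▸ congrArg ΘT (WithConv.ext (AlgHom.ext fun b => congrArg v (hrψ b)))
  · rw [← hΨ x, hev]
    refine hchar _ (fun u v => ?_) ?_ _ (hker x hx)
    · rw [← hev, ← hev, ← hev, map_mul, hf]
    · have h := hev 1 f
      rw [map_one, hf1] at h
      exact h.symm
  · rw [← hΨ x] at hxN ⊢
    rw [htor _ (hker x hx) N hN (hΦi (by rw [map_pow, hxN, map_one])), map_one]
  · conv_lhs => rw [← hΨ x]
    show (e1.hom ≫ spMap (Ψ x).ofConv ≫ a.hom) ≫ a.inv ≫ spMap (ψ : MonoidAlgebra k M →ₐ[k] A) =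
      e1.hom ≫ spMap ((Ψ x).ofConv.comp (ψ : MonoidAlgebra k M →ₐ[k] A))
    simp only [Category.assoc, Iso.hom_inv_id_assoc, spMap_comp]
  obtain ⟨hTa, hTl, hTs, hTc⟩ := Deform.TorusBasic.props hT'
  haveI := hTa; haveI := hTl; haveI := hTs; haveI := hTc
  haveI : IsAffineHom T'.hom := isAffineHom_of_isAffine _
  obtain ⟨M', _, hM'fg, ⟨eT⟩⟩ := Deform.exists_diag T' (Deform.isMultTypeFT_of_isTorus hT')
  let b : sp k (MonoidAlgebra k M') ≅ T' := (Grp.forget _).mapIso eT
  haveI : IsMonHom b.hom := eT.hom.hom.isMonHom_hom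
  haveI : IsMonHom b.inv := eT.inv.hom.isMonHom_hom
  haveI : IsIso b.hom.left := ((Over.forget _).mapIso b).isIso_hom
  haveI : IsIso b.inv.left := ((Over.forget _).mapIso b).isIso_inv
  haveI : IsClosedImmersion f.left := isClosedImmersion_of_mono f
  haveI : IsIntegral T'.left := Agent.GrpSchLib.Kunneth.isIntegral_grp T'
  haveI : IsIntegral (Spec (CommRingCat.of (MonoidAlgebra k M'))) := by
    haveI : Nonempty ↥(Spec (CommRingCat.of (MonoidAlgebra k M'))) := ⟨b.inv.left (Classical.arbitrary _)⟩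
    haveI : IsOpenImmersion b.hom.left :=
      @IsOpenImmersion.of_isIso _ _ _ ((Over.forget _).mapIso b).isIso_hom
    exact @isIntegral_of_isOpenImmersion _ _ b.hom.left this _ ‹_›
  haveI : IsDomain (MonoidAlgebra k M') := (affine_isIntegral_iff (CommRingCat.of _)).mp inferInstance
  obtain ⟨f', hf'⟩ := exists_bialgHom (b.hom ≫ f ≫ a.inv)
  have hsurj : Function.Surjective f' :=
    Agent.GrpSchLib.AffineHopf.surjective_of_isClosedImmersion (f' : A →ₐ[k] MonoidAlgebra k M') (by
      rw [← hf', Over.comp_left, Over.comp_left]; infer_instance)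
  obtain ⟨u, φ, hu⟩ := huniv M' f' hM'fg hsurj
  have h := congrArg (Spec.mapMulEquiv (R := CommRingCat.of k)) hu
  rw [map_mul, map_mul, map_inv, ← spMap_eq_mapMulEquiv, ← spMap_eq_mapMulEquiv, ← spMap_eq_mapMulEquiv, ← hf'] at h
  have hpu : spMap ((Algebra.ofId k (MonoidAlgebra k M')).comp u) ≫ a.hom =
      toUnit (sp k (MonoidAlgebra k M')) ≫ Φ (toConv u) := by
    show _ = toUnit _ ≫ e1.hom ≫ spMap u ≫ a.hom
    rw [← spMap_comp (Algebra.ofId k (MonoidAlgebra k M')) u, ← Category.assoc (toUnit _) e1.hom, Category.assoc]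
    congr 1
  have h2 := congrArg (fun z => b.inv ≫ z ≫ a.hom) h
  simp only [Category.assoc, Iso.inv_hom_id_assoc, Iso.inv_hom_id, Category.comp_id, MonObj.mul_comp,
    GrpObj.inv_comp, hpu, MonObj.comp_mul, GrpObj.comp_inv] at h2
  refine ⟨(Φ (toConv u))⁻¹, b.inv ≫ spMap (φ : MonoidAlgebra k M →ₐ[k] MonoidAlgebra k M'), inferInstance, ?_⟩
  have hb : b.inv ≫ toUnit (sp k (MonoidAlgebra k M')) = toUnit T' := toUnit_unique _ _
  simp only [reassoc_of% hb] at h2
  show _ = (toUnit T' ≫ (Φ (toConv u))⁻¹) * f * (toUnit T' ≫ (Φ (toConv u))⁻¹)⁻¹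
  rw [GrpObj.comp_inv, _root_.inv_inv, h2, show (b.inv ≫ spMap (φ : MonoidAlgebra k M →ₐ[k] MonoidAlgebra k M')) ≫ i =
    b.inv ≫ spMap ((φ.comp r : A →ₐc[k] MonoidAlgebra k M') : A →ₐ[k] MonoidAlgebra k M') ≫ a.hom from by
      rw [Category.assoc, ← Category.assoc (spMap _), spMap_comp]
      rfl]
  group

/-- **Tori of a connected solvable affine group are conjugate into one of them.** -/
theorem exists_levi (S : Over (Spec (CommRingCat.of k))) [GrpObj S] [IsAffine S.left] [Smooth S.hom]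
    [ConnectedSpace S.left] [Group.IsSolvable (Pt S)] :
    ∃ (T : Over (Spec (CommRingCat.of k))) (_ : GrpObj T) (i : T ⟶ S), IsUnivTorus i ∧
      ∃ π : Pt S →* Pt T, IsLevi i π := by
  obtain ⟨T, iT, i, h, π, hπ, -⟩ := exists_levi_hom S
  exact ⟨T, iT, i, h, π, hπ⟩

/-- **Tori of a connected solvable affine group are conjugate into one of them.** -/
theorem exists_univTorus_solvable (S : Over (Spec (CommRingCat.of k))) [GrpObj S] [IsAffine S.left] [Smooth S.hom]
    [ConnectedSpace S.left] [Group.IsSolvable (Pt S)] :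
    ∃ (T : Over (Spec (CommRingCat.of k))) (_ : GrpObj T) (i : T ⟶ S), IsUnivTorus i := by
  obtain ⟨T, iT, i, hi, -⟩ := exists_levi S
  exact ⟨T, iT, i, hi⟩

/-- Conjugating a universal torus of a subgroup. -/
theorem univTorus_of_universal {G H T : Over (Spec (CommRingCat.of k))} [GrpObj G] [GrpObj H] [GrpObj T]
    (iH : H ⟶ G) [IsMonHom iH] [IsClosedImmersion iH.left] (i : T ⟶ H) (hi : IsUnivTorus i)
    (h : ∀ (T' : Over (Spec (CommRingCat.of k))) [GrpObj T'] (f : T' ⟶ G) [IsMonHom f] [Mono f], Red.IsTorus T' →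
      ∃ (g : Pt G) (f' : T' ⟶ H), IsMonHom f' ∧ f' ≫ iH = AGF.conjBy g f) :
    IsUnivTorus (i ≫ iH) := by
  obtain ⟨hm, hc, hT, huniv⟩ := hi
  haveI := hm; haveI := hc
  refine ⟨inferInstance, inferInstanceAs (IsClosedImmersion (i.left ≫ iH.left)), hT, fun T' _ f _ _ hT' => ?_⟩
  obtain ⟨g, f', hf'm, hf'⟩ := h T' f hT'
  haveI := hf'm
  haveI : Mono (f' ≫ iH) := by rw [hf', ← comp_conj]; infer_instance
  haveI : Mono f' := mono_of_mono f' iH
  obtain ⟨g', f'', hf''m, hf''⟩ := huniv T' f' hT'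
  refine ⟨(g' ≫ iH) * g, f'', hf''m, ?_⟩
  rw [reassoc_of% hf'', ← comp_conj f, ← conj_mul, ← Category.assoc, comp_conj f, ← hf', comp_conj (f' ≫ iH)]
  simp only [AGF.conjBy, MonObj.mul_comp, GrpObj.inv_comp, Category.assoc]

theorem exists_univTorus_affine (G : Over (Spec (CommRingCat.of k))) [GrpObj G] [IsAffine G.left] [Smooth G.hom]
    [ConnectedSpace G.left] :
    ∃ (T : Over (Spec (CommRingCat.of k))) (_ : GrpObj T) (i : T ⟶ G), IsUnivTorus i := by
  obtain ⟨H, iH', iH, hH, -, huniv⟩ := exists_borel G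
  obtain ⟨hm, hc, hs, hcn, hsol, -⟩ := hH
  haveI := hm; haveI := hc; haveI := hs; haveI := hcn
  haveI : IsAffine H.left := isAffine_of_isAffineHom iH.left
  haveI : Group.IsSolvable (Pt H) := isSolvable_pts_of_grp hsol
  obtain ⟨T, iT, i, hi⟩ := exists_univTorus_solvable H
  refine ⟨T, iT, i ≫ iH, univTorus_of_universal iH i hi fun T' _ f _ _ hT' => ?_⟩
  obtain ⟨hTa, hTl, hTs, hTc⟩ := Deform.TorusBasic.props hT'
  haveI := hTa; haveI := hTl; haveI := hTs; haveI := hTc; haveI := isSolvable_pts_of_torus hT'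
  exact huniv T' f

/-- The group of an affine normal subgroup with proper quotient receives every connected affine group. -/
theorem exists_lift_of_affine {G N A J : Over (Spec (CommRingCat.of k))} [GrpObj G] [GrpObj N] [GrpObj A] [GrpObj J]
    (i : N ⟶ G) [IsMonHom i] (q : G ⟶ A) [IsMonHom q] [IsProper A.hom] (hk : AlgGrp.IsKernel i q)
    [IsAffine J.left] [Smooth J.hom] [QuasiCompact J.hom] [ConnectedSpace J.left] (f : J ⟶ G) [IsMonHom f] :
    ∃ f' : J ⟶ N, IsMonHom f' ∧ f' ≫ i = f := by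
  obtain ⟨I, iI, p, c, hp, hc, hpc, hcc, hpf, hps, hIl, hIq⟩ := Agent.GrpSchLib.ImageFactor.exists_image (f ≫ q)
  haveI := hp; haveI := hc; haveI := hcc; haveI := hps; haveI := hIl
  haveI : IsProper I.hom := by rw [← Over.w c]; infer_instance
  haveI : ConnectedSpace I.left := p.left.surjective.connectedSpace p.left.continuous
  haveI := AntiAffineParts.subsingleton_of_affine p
  haveI := Agent.GrpSchLib.AntiAffine.isSeparated_grp A
  have h1 : f ≫ q = 1 := by
    refine Chev.SemiAbExt.ext_points _ _ fun x => ?_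
    rw [← hpc, MonObj.comp_one, ← Category.assoc,
      show x ≫ p = (1 : Pt I) from Chev.pimg_injective (Subsingleton.elim _ _), MonObj.one_comp]
  haveI : Mono i := Deform.UnipDiag.mono_of_isKernel hk
  exact ⟨hk.lift f (toUnit J) h1, Deform.isMonHom_of_comp _ i (i := f) (hk.lift_fst _ _ h1), hk.lift_fst _ _ h1⟩

set_option maxHeartbeats 1000000 in
/-- **A connected group has a torus into which all of its tori can be conjugated.** -/
theorem exists_univTorus (G : Over (Spec (CommRingCat.of k))) [GrpObj G] [Smooth G.hom] [QuasiCompact G.hom]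
    [ConnectedSpace G.left] :
    ∃ (T : Over (Spec (CommRingCat.of k))) (_ : GrpObj T) (i : T ⟶ G), IsUnivTorus i := by
  obtain ⟨N, iN, ν, A, iA, q, hν, hνc, hNa, hq, hqf, hqs, hk, hA⟩ := Chev.exists_affine_normal G
  haveI := hν; haveI := hνc; haveI := hNa; haveI := hq; haveI := hA
  -- the reduced neutral component of the affine kernel
  let H₀ : Subgroup (Pt G) :=
    { carrier := {p | pimg p ∈ Set.range ν.left}
      one_mem' := ⟨pimg (η[N] : Pt N), by rw [← pimg_comp, IsMonHom.one_hom ν, MonObj.one_eq_one G]⟩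
      mul_mem' := fun {a b} ha hb => by
        obtain ⟨a', rfl⟩ := exists_lift_pt ν ha
        obtain ⟨b', rfl⟩ := exists_lift_pt ν hb
        exact ⟨pimg (a' * b'), by rw [← pimg_comp, MonObj.mul_comp]⟩
      inv_mem' := fun {a} ha => by
        obtain ⟨a', rfl⟩ := exists_lift_pt ν ha
        exact ⟨pimg a'⁻¹, by rw [← pimg_comp, GrpObj.inv_comp]⟩ }
  obtain ⟨J, iJ, j, hj, hjc, hJs, hJq, hJc, hJH, hlift⟩ :=
    exists_neutral H₀ ν.left.isClosedEmbedding.isClosed_range fun p => Iff.rfl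
  haveI := hj; haveI := hjc; haveI := hJs; haveI := hJq; haveI := hJc
  haveI : IsReduced J.left := GrpSchLib.isReduced_of_smooth_field J.hom
  obtain ⟨j', hj'⟩ := Chev.exists_lift_range ν j (Chev.mem_of_pts j ν.left.isClosedEmbedding.isClosed_range hJH)
  haveI : IsClosedImmersion (j'.left ≫ ν.left) := by rw [← Over.comp_left, hj']; infer_instance
  haveI : IsClosedImmersion j'.left := IsClosedImmersion.of_comp j'.left ν.left
  haveI : IsAffine J.left := isAffine_of_isAffineHom j'.left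
  obtain ⟨T, iT, i, hi⟩ := exists_univTorus_affine J
  refine ⟨T, iT, i ≫ j, univTorus_of_universal j i hi fun T' _ f _ _ hT' => ?_⟩
  obtain ⟨hTa, hTl, hTs, hTc⟩ := Deform.TorusBasic.props hT'
  haveI := hTa; haveI := hTl; haveI := hTs; haveI := hTc
  haveI : IsAffineHom T'.hom := isAffineHom_of_isAffine _
  obtain ⟨f₁, hf₁, hf₁ν⟩ := exists_lift_of_affine ν q hk f
  obtain ⟨f₂, hf₂, hf₂j⟩ := hlift T' f fun t => ⟨pimg (t ≫ f₁), by rw [← pimg_comp, Category.assoc, hf₁ν]⟩
  exact ⟨1, f₂, hf₂, by rw [hf₂j, ← comp_conj, conj_one, Category.comp_id]⟩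

/-- A universal torus is maximal among subtori. -/
theorem IsUnivTorus.maximal {T G : Over (Spec (CommRingCat.of k))} [GrpObj T] [GrpObj G] [LocallyOfFiniteType G.hom]
    [QuasiCompact G.hom] {i : T ⟶ G} (h : IsUnivTorus i)
    (T' : Over (Spec (CommRingCat.of k))) [GrpObj T'] (j : T' ⟶ G) [IsMonHom j] [Mono j] (f : T ⟶ T')
    (hT' : Red.IsTorus T') (hf : f ≫ j = i) : IsIso f := by
  obtain ⟨hm, hc, hT, huniv⟩ := h
  haveI := hm; haveI := hc
  obtain ⟨g, f', -, hf'⟩ := huniv T' j hT'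
  obtain ⟨hTa, hTl, hTs, hTc⟩ := Deform.TorusBasic.props hT'
  haveI := hTa; haveI := hTl; haveI := hTs; haveI := hTc
  haveI : IsAffineHom T'.hom := isAffineHom_of_isAffine _
  haveI : IsClosedImmersion j.left := isClosedImmersion_of_mono j
  have hC := range_conj_eq j.left.isClosedEmbedding.isClosed_range g (by
    rintro _ ⟨_, ⟨b, rfl⟩, rfl⟩
    refine ⟨f.left (f'.left b), ?_⟩
    show ((f' ≫ f) ≫ j).left b = (j ≫ conj g).left b
    rw [Category.assoc, hf, hf', comp_conj])
  have hr : Set.range j.left ⊆ Set.range i.left := by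
    intro x hx
    rw [← hC] at hx
    obtain ⟨_, ⟨b, rfl⟩, rfl⟩ := hx
    refine ⟨f'.left b, ?_⟩
    show (f' ≫ i).left b = (j ≫ conj g).left b
    rw [hf', comp_conj]
  haveI : IsReduced T'.left := GrpSchLib.isReduced_of_smooth_field T'.hom
  obtain ⟨r, hr'⟩ := Chev.exists_lift_range i j hr
  haveI : Mono i := (Over.forget _).mono_of_mono_map (inferInstanceAs (Mono i.left))
  exact ⟨r, by rw [← cancel_mono i, Category.assoc, hr', hf, Category.id_comp],
    by rw [← cancel_mono j, Category.assoc, hf, hr', Category.id_comp]⟩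

/-- A maximal subtorus is conjugate to a universal one. -/
theorem IsUnivTorus.conj_of_max {T G T₁ : Over (Spec (CommRingCat.of k))} [GrpObj T] [GrpObj G] [GrpObj T₁]
    {i : T ⟶ G} (h : IsUnivTorus i) (i₁ : T₁ ⟶ G) [IsMonHom i₁] [Mono i₁] (h₁ : Red.IsTorus T₁)
    (hmax : ∀ (T' : Over (Spec (CommRingCat.of k))) [GrpObj T'] (j : T' ⟶ G) [IsMonHom j] [Mono j] (f : T₁ ⟶ T'),
      Red.IsTorus T' → f ≫ j = i₁ → IsIso f) :
    ∃ (g : Pt G) (f : T₁ ≅ T), IsMonHom f.hom ∧ f.hom ≫ i = AGF.conjBy g i₁ := by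
  obtain ⟨hm, hc, hT, huniv⟩ := h
  haveI := hm; haveI := hc
  obtain ⟨g, f, hf, hfi⟩ := huniv T₁ i₁ h₁
  haveI : Mono i := (Over.forget _).mono_of_mono_map (inferInstanceAs (Mono i.left))
  haveI := hmax T (i ≫ conj g⁻¹) f hT (by
    rw [reassoc_of% hfi, ← comp_conj, Category.assoc, conj_right_inv, Category.comp_id])
  exact ⟨g, asIso f, hf, hfi⟩

/-- Maximal subtori are conjugate. -/
theorem conj_of_max {G T₁ T₂ : Over (Spec (CommRingCat.of k))} [GrpObj G] [GrpObj T₁] [GrpObj T₂] [Smooth G.hom]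
    [QuasiCompact G.hom] [ConnectedSpace G.left] (i₁ : T₁ ⟶ G) (i₂ : T₂ ⟶ G) (h₁ : AGF.IsMaxTorus i₁)
    (h₂ : AGF.IsMaxTorus i₂) : ∃ (g : Pt G) (f : T₁ ≅ T₂), IsMonHom f.hom ∧ f.hom ≫ i₂ = AGF.conjBy g i₁ := by
  obtain ⟨T, iT, i, hi⟩ := exists_univTorus G
  obtain ⟨hm₁, hmo₁, ht₁, hx₁⟩ := h₁
  obtain ⟨hm₂, hmo₂, ht₂, hx₂⟩ := h₂
  haveI := hm₁; haveI := hmo₁; haveI := hm₂; haveI := hmo₂
  obtain ⟨g₁, e₁, he₁, h₁⟩ := hi.conj_of_max i₁ ht₁ hx₁
  obtain ⟨g₂, e₂, he₂, h₂⟩ := hi.conj_of_max i₂ ht₂ hx₂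
  haveI := he₁; haveI := he₂
  refine ⟨g₂⁻¹ * g₁, e₁ ≪≫ e₂.symm, inferInstanceAs (IsMonHom (e₁.hom ≫ e₂.inv)), ?_⟩
  have e : e₂.inv ≫ i₂ = i ≫ conj g₂⁻¹ := by
    rw [Iso.inv_comp_eq, reassoc_of% h₂, ← comp_conj, Category.assoc, conj_right_inv, Category.comp_id]
  show (e₁.hom ≫ e₂.inv) ≫ i₂ = _
  rw [Category.assoc, e, reassoc_of% h₁, ← comp_conj, Category.assoc, conj_mul, ← comp_conj]

/-- Over an algebraically closed field maximal tori are maximal subtori. -/
theorem isMaxTorus_of_isMaximalTorus {T G : Over (Spec (CommRingCat.of k))} [GrpObj T] [GrpObj G] {i : T ⟶ G}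
    (h : Red.IsMaximalTorus i) : AGF.IsMaxTorus i := by
  obtain ⟨hm, hmo, hT, hmax⟩ := h
  refine ⟨hm, hmo, hT, fun T' _ j _ _ f hT' hf => ?_⟩
  let s : ↥(Spec (CommRingCat.of k)) := IsLocalRing.closedPoint k
  let K := AlgebraicClosure ((Spec (CommRingCat.of k)).residueField s)
  let x : Spec (CommRingCat.of K) ⟶ Spec (CommRingCat.of k) := Red.geomPt s
  haveI : Flat x := by
    rw [← Spec.map_preimage x]
    refine (HasRingHomProperty.Spec_iff (P := @Flat)).mpr ?_
    letI : Algebra k K := (Spec.preimage x).hom.toAlgebra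
    exact (inferInstance : Module.Flat k K)
  haveI : Surjective x := ⟨fun y => ⟨IsLocalRing.closedPoint K, Subsingleton.elim (α := PrimeSpectrum k) _ _⟩⟩
  let F := Over.pullback x
  haveI : IsMonHom (F.map j) := inferInstance
  haveI : Mono (F.map j) := inferInstance
  haveI := hmax s (Red.bc x T') (F.map j) (F.map f) (Deform.isTorus_bc x hT') (by
    rw [← F.map_comp, hf])
  haveI : IsIso f.left :=
    MorphismProperty.of_isPullback_of_descendsAlong (P := MorphismProperty.isomorphisms Scheme)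
      (Q := @Surjective ⊓ @Flat ⊓ @QuasiCompact) (Deform.Extension.isPullback_map_left x f)
      ⟨⟨inferInstance, inferInstance⟩, inferInstance⟩ ((Over.forget _).map_isIso (F.map f))
  haveI : IsIso ((Over.forget _).map f) := ‹IsIso f.left›
  exact isIso_of_reflects_iso f (Over.forget _)

theorem isIso_geomPt (s : ↥(Spec (CommRingCat.of k))) : IsIso (Red.geomPt s) := by
  let K := AlgebraicClosure ((Spec (CommRingCat.of k)).residueField s)
  haveI : IsClosedImmersion ((Spec (CommRingCat.of k)).fromSpecResidueField s) :=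
    .of_isPreimmersion _ (by
      rw [Scheme.range_fromSpecResidueField]
      convert isClosed_univ (X := ↥(Spec (CommRingCat.of k)))
      exact Set.eq_univ_of_forall fun z => Subsingleton.elim (α := PrimeSpectrum k) z s)
  haveI : Surjective ((Spec (CommRingCat.of k)).fromSpecResidueField s) :=
    ⟨fun y => ⟨(IsLocalRing.closedPoint _ : PrimeSpectrum ((Spec (CommRingCat.of k)).residueField s)),
      Subsingleton.elim (α := PrimeSpectrum k) _ _⟩⟩
  haveI := isIso_of_isClosedImmersion_of_surjective ((Spec (CommRingCat.of k)).fromSpecResidueField s)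
  haveI : IsIso (Spec.preimage ((Spec (CommRingCat.of k)).fromSpecResidueField s)) :=
    (ConcreteCategory.isIso_iff_bijective _).mpr (isIso_SpecMap_iff.mp (by rw [Spec.map_preimage]; infer_instance))
  let e : k ≃+* (Spec (CommRingCat.of k)).residueField s :=
    (asIso (Spec.preimage ((Spec (CommRingCat.of k)).fromSpecResidueField s))).commRingCatIsoToRingEquiv
  haveI : IsAlgClosed ((Spec (CommRingCat.of k)).residueField s) := IsAlgClosed.of_ringEquiv k _ e
  haveI : IsIso (CommRingCat.ofHom (algebraMap ((Spec (CommRingCat.of k)).residueField s) K)) :=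
    (ConcreteCategory.isIso_iff_bijective _).mpr IsAlgClosed.algebraMap_bijective_of_isIntegral
  infer_instance

/-- Over an algebraically closed field maximal subtori are maximal tori. -/
theorem isMaximalTorus_of_isMaxTorus {T G : Over (Spec (CommRingCat.of k))} [GrpObj T] [GrpObj G] {i : T ⟶ G}
    (h : AGF.IsMaxTorus i) : Red.IsMaximalTorus i := by
  obtain ⟨hm, hmo, hT, hmax⟩ := h
  refine ⟨hm, hmo, hT, fun s T' _ j _ _ f hT' hf => ?_⟩
  haveI := isIso_geomPt s
  let x := Red.geomPt s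
  let y := inv x
  let N : Over.pullback x ⋙ Over.pullback y ≅ 𝟭 (Over (Spec (CommRingCat.of k))) :=
    (Over.pullbackComp y x).symm ≪≫ eqToIso (congrArg (fun g => Over.pullback g) (IsIso.inv_hom_id x)) ≪≫ Over.pullbackId
  let nX : ∀ X : Over (Spec (CommRingCat.of k)), Red.bc y (Red.bc x X) ≅ X := fun X => N.app X
  have hN : ∀ (X : Over (Spec (CommRingCat.of k))) [GrpObj X], IsMonHom (nX X).hom := fun X _ =>
    ((Functor.mapGrpCompIso.symm ≪≫ Functor.mapGrpNatIso N ≪≫ Functor.mapGrpIdIso).hom.app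
      (Grp.mk X)).hom.isMonHom_hom
  haveI := hN G
  let F := Over.pullback y
  haveI : IsMonHom (F.map j) := inferInstance
  haveI : Mono (F.map j) := inferInstance
  haveI : IsIso ((nX T).inv ≫ F.map f) := hmax (Red.bc y T') (F.map j ≫ (nX G).hom) ((nX T).inv ≫ F.map f)
    (Deform.isTorus_bc y hT') (by
      rw [Category.assoc, ← Category.assoc (F.map f), ← F.map_comp, hf]
      have := N.hom.naturality i
      simp only [Functor.comp_map, Functor.id_map] at this
      show N.inv.app T ≫ (Over.pullback y).map ((Over.pullback x).map i) ≫ N.hom.app G = i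
      rw [this, Iso.inv_hom_id_app_assoc])
  haveI : IsIso (F.map f) := @IsIso.of_isIso_comp_left _ _ _ _ _ (nX T).inv (F.map f) (nX T).isIso_inv ‹_›
  haveI : IsIso f.left :=
    MorphismProperty.of_isPullback_of_descendsAlong (P := MorphismProperty.isomorphisms Scheme)
      (Q := @Surjective ⊓ @Flat ⊓ @QuasiCompact) (Deform.Extension.isPullback_map_left y f)
      ⟨⟨inferInstance, inferInstance⟩, inferInstance⟩ ((Over.forget _).map_isIso (F.map f))
  haveI : IsIso ((Over.forget _).map f) := ‹IsIso f.left›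
  exact isIso_of_reflects_iso f (Over.forget _)

end

end Groth.Agent.Deform.Borel
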