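import Groth.Agent.Deform.Borel.GB
import Groth.Agent.Deform.Borel.Tori
import Groth.Agent.Deform.AntiAffineParts
import Groth.Agent.Deform.Chev.Components
import Groth.Agent.GrpSchLib.SmoothQuot

/-!
# Borel subgroups of arbitrary connected groups
-/

universe u

open CategoryTheory CategoryTheory.Limits MonoidalCategory CartesianMonoidalCategory MonObj GrpObj AlgebraicGeometry

attribute [local instance] CategoryTheory.Hom.monoid CategoryTheory.Hom.group
set_option linter.style.haveILetI false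
set_option linter.unusedSectionVars false

namespace Groth.Agent.Deform.Borel

open Chev (Pt pimg)

noncomputable section

variable {k : Type u} [Field k] [IsAlgClosed k]

/-- `iH` receives, up to conjugation, every connected solvable group. -/
def IsUnivBorel {H G : Over (Spec (CommRingCat.of k))} [GrpObj H] [GrpObj G] (iH : H ⟶ G) : Prop :=
  IsMonHom iH ∧ IsClosedImmersion iH.left ∧ Smooth H.hom ∧ ConnectedSpace H.left ∧ Group.IsSolvable (Pt H) ∧
    ∀ (S : Over (Spec (CommRingCat.of k))) [GrpObj S] [Smooth S.hom] [QuasiCompact S.hom] [ConnectedSpace S.left]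
      [Group.IsSolvable (Pt S)] (iS : S ⟶ G) [IsMonHom iS],
      ∃ (g : Pt G) (f : S ⟶ H), IsMonHom f ∧ f ≫ iH = AGF.conjBy g iS

variable {G : Over (Spec (CommRingCat.of k))} [GrpObj G]

theorem IsUnivBorel.isBorelOver [LocallyOfFiniteType G.hom] [QuasiCompact G.hom]
    {H : Over (Spec (CommRingCat.of k))} [GrpObj H] {iH : H ⟶ G} (h : IsUnivBorel iH) : Red.IsBorelOver k iH := by
  obtain ⟨hh, hhc, hHs, hHc, hHsol, huniv⟩ := h
  haveI := hh; haveI := hhc; haveI := hHs; haveI := hHc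
  haveI : QuasiCompact H.hom := by rw [← Over.w iH]; infer_instance
  refine ⟨hh, hhc, hHs, hHc, isSolvableGrp_of_pts H, fun B _ i' _ f hi'c hBs hBc hBsol hf => ?_⟩
  haveI := hi'c; haveI := hBs; haveI := hBc
  haveI : QuasiCompact B.hom := by rw [← Over.w i']; infer_instance
  haveI : Group.IsSolvable (Pt B) := isSolvable_pts_of_grp hBsol
  obtain ⟨g, f', -, hf'⟩ := huniv B i'
  have hC := range_conj_eq (G := G) i'.left.isClosedEmbedding.isClosed_range g (by
    rintro _ ⟨_, ⟨b, rfl⟩, rfl⟩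
    refine ⟨f.left (f'.left b), ?_⟩
    show ((f' ≫ f) ≫ i').left b = (i' ≫ conj g).left b
    rw [Category.assoc, hf, hf', comp_conj])
  have hr : Set.range i'.left ⊆ Set.range iH.left := by
    intro x hx
    rw [← hC] at hx
    obtain ⟨_, ⟨b, rfl⟩, rfl⟩ := hx
    refine ⟨f'.left b, ?_⟩
    show (f' ≫ iH).left b = (i' ≫ conj g).left b
    rw [hf', comp_conj]
  haveI : IsReduced B.left := GrpSchLib.isReduced_of_smooth_field B.hom
  obtain ⟨r, hr'⟩ := Chev.exists_lift_range iH i' hr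
  haveI : Mono iH := (Over.forget _).mono_of_mono_map (inferInstanceAs (Mono iH.left))
  haveI : Mono i' := (Over.forget _).mono_of_mono_map (inferInstanceAs (Mono i'.left))
  exact ⟨r, by rw [← cancel_mono iH, Category.assoc, hr', hf, Category.id_comp],
    by rw [← cancel_mono i', Category.assoc, hf, hr', Category.id_comp]⟩

/-- A Borel subgroup is conjugate to a universal one. -/
theorem IsUnivBorel.conj_of_borel [LocallyOfFiniteType G.hom] [QuasiCompact G.hom]
    {H B : Over (Spec (CommRingCat.of k))} [GrpObj H] [GrpObj B] {iH : H ⟶ G} (h : IsUnivBorel iH) (iB : B ⟶ G)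
    (hB : Red.IsBorelOver k iB) : ∃ (g : Pt G) (f : B ≅ H), IsMonHom f.hom ∧ f.hom ≫ iH = AGF.conjBy g iB := by
  obtain ⟨hm, hc, hs, hcn, hsol, hmax⟩ := hB
  have hH := h.isBorelOver
  obtain ⟨-, -, -, -, -, huniv⟩ := h
  haveI := hm; haveI := hc; haveI := hs; haveI := hcn
  haveI : QuasiCompact B.hom := by rw [← Over.w iB]; infer_instance
  haveI : Group.IsSolvable (Pt B) := isSolvable_pts_of_grp hsol
  obtain ⟨g, f, hf, hfH⟩ := huniv B iB
  haveI := hH.1
  haveI := hH.2.1
  haveI := hmax H (iH ≫ conj g⁻¹) f (inferInstanceAs (IsClosedImmersion (iH.left ≫ (conj g⁻¹).left))) hH.2.2.1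
    hH.2.2.2.1 hH.2.2.2.2.1 (by rw [reassoc_of% hfH, ← comp_conj, Category.assoc, conj_right_inv, Category.comp_id])
  exact ⟨g, asIso f, hf, hfH⟩

/-- Borel subgroups with a universal one present are conjugate. -/
theorem IsUnivBorel.borel_conj [LocallyOfFiniteType G.hom] [QuasiCompact G.hom]
    {H B B' : Over (Spec (CommRingCat.of k))} [GrpObj H] [GrpObj B] [GrpObj B'] {iH : H ⟶ G} (h : IsUnivBorel iH)
    (iB : B ⟶ G) (iB' : B' ⟶ G) (hB : Red.IsBorelOver k iB) (hB' : Red.IsBorelOver k iB') :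
    ∃ (g : Pt G) (f : B ≅ B'), IsMonHom f.hom ∧ f.hom ≫ iB' = AGF.conjBy g iB := by
  obtain ⟨g₁, e₁, he₁, h₁⟩ := h.conj_of_borel iB hB
  obtain ⟨g₂, e₂, he₂, h₂⟩ := h.conj_of_borel iB' hB'
  haveI := he₁; haveI := he₂
  refine ⟨g₂⁻¹ * g₁, e₁ ≪≫ e₂.symm, inferInstanceAs (IsMonHom (e₁.hom ≫ e₂.inv)), ?_⟩
  have e : e₂.inv ≫ iB' = iH ≫ conj g₂⁻¹ := by
    rw [Iso.inv_comp_eq, reassoc_of% h₂, ← comp_conj, Category.assoc, conj_right_inv, Category.comp_id]
  show (e₁.hom ≫ e₂.inv) ≫ iB' = _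
  rw [Category.assoc, e, reassoc_of% h₁, ← comp_conj, Category.assoc, conj_mul, ← comp_conj]

/-- A rational point over a point of the target of a surjection. -/
theorem exists_pt_over {X Y : Over (Spec (CommRingCat.of k))} [LocallyOfFiniteType X.hom] [LocallyOfFiniteType Y.hom]
    (p : X ⟶ Y) [Surjective p.left] (y : Pt Y) : ∃ x : Pt X, x ≫ p = y := by
  obtain ⟨x, hx⟩ := Chev.exists_pt (G := X) (S := p.left ⁻¹' {pimg y})
    (by obtain ⟨z, hz⟩ := p.left.surjective (pimg y); exact ⟨z, hz⟩)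
    ((((pointEquivClosedPoint Y.hom) ⟨y.left, Over.w y⟩).2).preimage p.left.continuous).isLocallyClosed
  exact ⟨x, Chev.pimg_injective hx⟩

set_option maxHeartbeats 1000000 in
/-- **A connected group has a universal Borel subgroup.** -/
theorem exists_univBorel (G : Over (Spec (CommRingCat.of k))) [GrpObj G] [Smooth G.hom] [QuasiCompact G.hom]
    [ConnectedSpace G.left] :
    ∃ (H : Over (Spec (CommRingCat.of k))) (_ : GrpObj H) (iH : H ⟶ G), IsUnivBorel iH := by
  obtain ⟨K, iK, κ, hκ, hκc, hKl, hKq, hKb, I, iI, p, hp, hI, hIl, hpf, hps, hker⟩ := AntiAffineParts.exists_ant G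
  haveI := hκ; haveI := hκc; haveI := hKl; haveI := hKq; haveI := hp; haveI := hI; haveI := hIl; haveI := hpf
  haveI := hps
  haveI : IsLocallyNoetherian I.left := LocallyOfFiniteType.isLocallyNoetherian I.hom
  haveI : LocallyOfFiniteType (p.left ≫ I.hom) := by rw [Over.w p]; infer_instance
  haveI : LocallyOfFiniteType p.left := locallyOfFiniteType_of_comp p.left I.hom
  haveI : Smooth (p.left ≫ I.hom) := by rw [Over.w p]; infer_instance
  haveI : Smooth I.hom := GrpSchLib.smooth_of_flat_surjective p.left I.hom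
  haveI : ConnectedSpace I.left := p.left.surjective.connectedSpace p.left.continuous
  obtain ⟨B, iB', iB, hB, -, huB⟩ := exists_borel I
  obtain ⟨hBm, hBc, hBs, hBcn, hBsol, -⟩ := hB
  haveI := hBm; haveI := hBc
  haveI : Group.IsSolvable (Pt B) := isSolvable_pts_of_grp hBsol
  let Hy : Subgroup (Pt G) :=
    { carrier := {g | pimg (g ≫ p) ∈ Set.range iB.left}
      one_mem' := ⟨pimg (1 : Pt B), by rw [← pimg_comp, MonObj.one_comp, MonObj.one_comp]⟩
      mul_mem' := fun {a b} ha hb => by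
        obtain ⟨a', ha'⟩ := exists_lift_pt iB ha
        obtain ⟨b', hb'⟩ := exists_lift_pt iB hb
        exact ⟨pimg (a' * b'), by rw [← pimg_comp, MonObj.mul_comp, MonObj.mul_comp, ha', hb']⟩
      inv_mem' := fun {a} ha => by
        obtain ⟨a', ha'⟩ := exists_lift_pt iB ha
        exact ⟨pimg a'⁻¹, by rw [← pimg_comp, GrpObj.inv_comp, GrpObj.inv_comp, ha']⟩ }
  have hC : IsClosed (p.left ⁻¹' Set.range iB.left) :=
    iB.left.isClosedEmbedding.isClosed_range.preimage p.left.continuous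
  obtain ⟨J, iJ, j, hj, hjc, hJs, hJq, hJc, hJH, hlift⟩ :=
    exists_neutral Hy hC fun g => Iff.rfl
  haveI := hj; haveI := hjc; haveI := hJs; haveI := hJq; haveI := hJc
  haveI : Mono κ := (Over.forget _).mono_of_mono_map (inferInstanceAs (Mono κ.left))
  have hKsol : Group.IsSolvable (Pt K) := Group.isSolvable_of_comm fun a b => by
    rw [← cancel_mono κ, MonObj.mul_comp, MonObj.mul_comp,
      GrpSchLib.AntiAffine.commute hKb κ (by rw [IsMonHom.one_hom, MonObj.one_eq_one]) a (b ≫ κ)]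
  have hJsol : Group.IsSolvable (Pt J) := by
    let φ : Pt J →* Pt I :=
      { toFun := fun x => x ≫ j ≫ p
        map_one' := MonObj.one_comp _
        map_mul' := fun a b => MonObj.mul_comp a b _ }
    let ψ : Pt B →* Pt I :=
      { toFun := fun x => x ≫ iB
        map_one' := MonObj.one_comp _
        map_mul' := fun a b => MonObj.mul_comp a b _ }
    let χ : φ.ker →* Pt K :=
      { toFun := fun x => hker.lift ((x : Pt J) ≫ j) (toUnit _) (by
          rw [Category.assoc]
          exact x.2.trans (by rw [MonObj.one_eq_one]; rfl))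
        map_one' := by rw [← cancel_mono κ, hker.lift_fst, OneMemClass.coe_one, MonObj.one_comp, MonObj.one_comp]
        map_mul' := fun a b => by
          rw [← cancel_mono κ, MonObj.mul_comp, hker.lift_fst, hker.lift_fst, hker.lift_fst, Subgroup.coe_mul,
            MonObj.mul_comp] }
    have hχ : Function.Injective χ := fun a b h => Subtype.ext (by
      have h' := congrArg (· ≫ κ) (show hker.lift _ _ _ = hker.lift _ _ _ from h)
      simp only [hker.lift_fst] at h'
      haveI : Mono j := (Over.forget _).mono_of_mono_map (inferInstanceAs (Mono j.left))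
      exact (cancel_mono j).mp h')
    haveI : Group.IsSolvable φ.ker := Group.isSolvable_of_isSolvable_injective hχ
    haveI : Group.IsSolvable ψ.range := Group.isSolvable_of_surjective ψ.rangeRestrict_surjective
    have hle : φ.range ≤ ψ.range := by
      rintro _ ⟨x, rfl⟩
      obtain ⟨y, hy⟩ := exists_lift_pt iB (hJH x : pimg ((x ≫ j) ≫ p) ∈ Set.range iB.left)
      exact ⟨y, hy.trans (Category.assoc _ _ _)⟩
    haveI : Group.IsSolvable φ.range :=
      Group.isSolvable_of_isSolvable_injective (f := Subgroup.inclusion hle) (Subgroup.inclusion_injective hle)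
    exact Group.isSolvable_of_ker_le_range φ.ker.subtype φ.rangeRestrict (by
      rw [φ.ker_rangeRestrict, Subgroup.range_subtype])
  refine ⟨J, iJ, j, hj, hjc, hJs, hJc, hJsol, fun S _ _ _ _ _ iS _ => ?_⟩
  obtain ⟨R, iR, r, c, hr, hc, hrc, hcc, hrf, hrs, hRl, hRq⟩ := GrpSchLib.ImageFactor.exists_image (iS ≫ p)
  haveI := hr; haveI := hc; haveI := hcc; haveI := hrf; haveI := hrs; haveI := hRl; haveI := hRq
  haveI : IsAffine R.left := isAffine_of_isAffineHom c.left
  haveI : IsLocallyNoetherian R.left := LocallyOfFiniteType.isLocallyNoetherian R.hom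
  haveI : LocallyOfFiniteType (r.left ≫ R.hom) := by rw [Over.w r]; infer_instance
  haveI : LocallyOfFiniteType r.left := locallyOfFiniteType_of_comp r.left R.hom
  haveI : Smooth (r.left ≫ R.hom) := by rw [Over.w r]; infer_instance
  haveI : Smooth R.hom := GrpSchLib.smooth_of_flat_surjective r.left R.hom
  haveI : ConnectedSpace R.left := r.left.surjective.connectedSpace r.left.continuous
  haveI : Group.IsSolvable (Pt R) :=
    Group.isSolvable_of_surjective (f :=
      ({ toFun := fun x => x ≫ r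
         map_one' := MonObj.one_comp _
         map_mul' := fun a b => MonObj.mul_comp a b _ } : Pt S →* Pt R)) fun y => exists_pt_over r y
  obtain ⟨g', f', -, hf'⟩ := huB R c
  obtain ⟨g, hg⟩ := exists_pt_over p g'
  obtain ⟨φ, hφ, hφj⟩ := hlift S (iS ≫ conj g) fun s => by
    refine ⟨pimg ((s ≫ r) ≫ f'), ?_⟩
    rw [← pimg_comp, Category.assoc, hf', ← comp_conj, Category.assoc, reassoc_of% hrc,
      ← Category.assoc s iS (conj g), pt_conj, ← Category.assoc, ← Category.assoc, pt_conj, MonObj.mul_comp,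
      MonObj.mul_comp, GrpObj.inv_comp, hg, Category.assoc]
  exact ⟨g, φ, hφ, by rw [hφj, comp_conj]⟩

/-- Connected subgroups lie in the neutral component. -/
theorem exists_lift_connected {G₀ B : Over (Spec (CommRingCat.of k))} [GrpObj G₀] [GrpObj B] [Smooth B.hom]
    [ConnectedSpace B.left] (i₀ : G₀ ⟶ G) [IsMonHom i₀] [IsClosedImmersion i₀.left]
    (hr : Set.range i₀.left = connectedComponent (η[G].left (IsLocalRing.closedPoint k))) (f : B ⟶ G)
    [IsMonHom f] : ∃ g : B ⟶ G₀, IsMonHom g ∧ g ≫ i₀ = f := by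
  haveI : IsReduced B.left := GrpSchLib.isReduced_of_smooth_field B.hom
  obtain ⟨g, hg⟩ := Chev.exists_lift_neutral i₀ hr f 1 (MonObj.one_comp f)
  haveI : Mono i₀ := (Over.forget _).mono_of_mono_map (inferInstanceAs (Mono i₀.left))
  exact ⟨g, Deform.isMonHom_of_comp g i₀ (i := f) hg, hg⟩

/-- **A universal Borel subgroup of the neutral component serves the whole group.** -/
theorem exists_univBorel_gen (G : Over (Spec (CommRingCat.of k))) [GrpObj G] [Smooth G.hom] [QuasiCompact G.hom] :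
    ∃ (H : Over (Spec (CommRingCat.of k))) (_ : GrpObj H) (iH : H ⟶ G), IsUnivBorel iH := by
  obtain ⟨G₀, iG, i₀, hi, hic, -, hs, hq, hcn, hr⟩ := Chev.exists_neutral G
  haveI := hi; haveI := hic; haveI := hs; haveI := hq; haveI := hcn
  obtain ⟨H, iH', iH, hh, hhc, hHs, hHc, hHsol, huniv⟩ := exists_univBorel G₀
  haveI := hh; haveI := hhc
  refine ⟨H, iH', iH ≫ i₀, inferInstance, inferInstanceAs (IsClosedImmersion (iH.left ≫ i₀.left)), hHs, hHc, hHsol,
    fun S _ _ _ _ _ iS _ => ?_⟩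
  obtain ⟨f₀, hf₀, hf₀i⟩ := exists_lift_connected i₀ hr iS
  haveI := hf₀
  obtain ⟨g, f, hf, hfH⟩ := huniv S f₀
  refine ⟨g ≫ i₀, f, hf, ?_⟩
  rw [reassoc_of% hfH, ← hf₀i]
  simp only [AGF.conjBy, MonObj.mul_comp, GrpObj.inv_comp, Category.assoc]

/-- A maximal subtorus of a Borel subgroup is maximal in the group. -/
theorem isMaxTorus_comp_borel [Smooth G.hom] [QuasiCompact G.hom] {B T : Over (Spec (CommRingCat.of k))} [GrpObj B]
    [GrpObj T] (b : B ⟶ G) (hB : Red.IsBorelOver k b) (t : T ⟶ B) (ht : AGF.IsMaxTorus t) :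
    AGF.IsMaxTorus (t ≫ b) := by
  obtain ⟨G₀, iG, i₀, hi, hic, -, hs, hq, hcn, hr⟩ := Chev.exists_neutral G
  haveI := hi; haveI := hic; haveI := hs; haveI := hq; haveI := hcn
  obtain ⟨hbm, hbc, hbs, hbcn, -, -⟩ := id hB
  haveI := hbm; haveI := hbc; haveI := hbs; haveI := hbcn
  haveI : QuasiCompact B.hom := by rw [← Over.w b]; infer_instance
  obtain ⟨T₀, iT₀, t₀, hu₀⟩ := exists_univTorus G₀
  obtain ⟨hm₀, hc₀, hT₀, huniv₀⟩ := id hu₀
  haveI := hm₀; haveI := hc₀
  obtain ⟨hTa, hTl, hTs, hTc⟩ := Deform.TorusBasic.props hT₀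
  haveI := hTa; haveI := hTl; haveI := hTs; haveI := hTc; haveI := isSolvable_pts_of_torus hT₀
  haveI : IsAffineHom T₀.hom := isAffineHom_of_isAffine _
  obtain ⟨H, iH', iH, hH⟩ := exists_univBorel_gen G
  obtain ⟨g₁, e₁, he₁, h₁⟩ := hH.conj_of_borel b hB
  obtain ⟨hh, hhc, -, -, -, huniv⟩ := hH
  haveI := hh; haveI := hhc; haveI := he₁
  obtain ⟨g, f, hf, hfH⟩ := huniv T₀ (t₀ ≫ i₀)
  haveI := hf
  haveI : IsMonHom e₁.inv := inferInstance
  -- the conjugate of the universal torus inside B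
  let t₁ : T₀ ⟶ B := f ≫ e₁.inv
  have ht₁ : t₁ ≫ b = t₀ ≫ i₀ ≫ conj (g₁⁻¹ * g) := by
    have e : e₁.inv ≫ b = iH ≫ conj g₁⁻¹ := by
      rw [Iso.inv_comp_eq, reassoc_of% h₁, ← comp_conj, Category.assoc, conj_right_inv, Category.comp_id]
    rw [Category.assoc, e, reassoc_of% hfH, ← comp_conj, Category.assoc, conj_mul, Category.assoc]
  haveI : Mono b := (Over.forget _).mono_of_mono_map (inferInstanceAs (Mono b.left))
  haveI : Mono t₀ := (Over.forget _).mono_of_mono_map (inferInstanceAs (Mono t₀.left))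
  haveI : Mono i₀ := (Over.forget _).mono_of_mono_map (inferInstanceAs (Mono i₀.left))
  haveI : Mono (conj (g₁⁻¹ * g)) := IsSplitMono.mono _ (hf := IsSplitMono.mk' ⟨conj (g₁⁻¹ * g)⁻¹, conj_right_inv _⟩)
  haveI : Mono (t₁ ≫ b) := by rw [ht₁]; exact mono_comp t₀ _
  haveI : Mono t₁ := mono_of_mono t₁ b
  obtain ⟨htm, htmo, htT, htmax⟩ := ht
  haveI := htm; haveI := htmo
  haveI : Mono (t ≫ b) := mono_comp t b
  refine ⟨inferInstance, inferInstance, htT, fun T' _ j _ _ φ hT' hφ => ?_⟩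
  obtain ⟨hTa', hTl', hTs', hTc'⟩ := Deform.TorusBasic.props hT'
  haveI := hTa'; haveI := hTl'; haveI := hTs'; haveI := hTc'
  haveI : IsAffineHom T'.hom := isAffineHom_of_isAffine _
  -- maximal tori of B are conjugate into the universal one
  obtain ⟨hTta, hTtl, hTts, hTtc⟩ := Deform.TorusBasic.props htT
  haveI := hTta; haveI := hTtl; haveI := hTts; haveI := hTtc
  haveI : IsAffineHom T.hom := isAffineHom_of_isAffine _
  obtain ⟨Tb, iTb, tb, hub⟩ := exists_univTorus B
  obtain ⟨gb, eb, heb, hb⟩ := hub.conj_of_max t htT htmax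
  obtain ⟨hmb, hcb, hTb, hunivb⟩ := hub
  haveI := hmb; haveI := hcb; haveI := heb
  obtain ⟨g₂, u, hu, hub'⟩ := hunivb T₀ t₁ hT₀
  obtain ⟨j₀, hj₀, hj₀i⟩ := exists_lift_connected i₀ hr j
  haveI := hj₀
  haveI : Mono (j₀ ≫ i₀) := by rw [hj₀i]; infer_instance
  haveI : Mono j₀ := mono_of_mono j₀ i₀
  obtain ⟨g₃, v, hv, hvt⟩ := huniv₀ T' j₀ hT'
  haveI := hu; haveI := hv
  -- T' is mapped into T
  let w : T' ⟶ T := v ≫ u ≫ eb.inv
  have hw : ∃ c : Pt G, w ≫ t ≫ b = j ≫ conj c := by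
    have e1 : eb.inv ≫ t = tb ≫ conj gb⁻¹ := by
      rw [Iso.inv_comp_eq, reassoc_of% hb, ← comp_conj, Category.assoc, conj_right_inv, Category.comp_id]
    have hcb' : ∀ (c : Pt B), conj c ≫ b = b ≫ conj (c ≫ b) := fun c => by
      rw [comp_conj b, ← Category.id_comp (conj c), comp_conj (𝟙 B)]
      simp only [AGF.conjBy, MonObj.mul_comp, GrpObj.inv_comp, Category.assoc, Category.id_comp]
    have hci : ∀ (c : Pt G₀), conj c ≫ i₀ = i₀ ≫ conj (c ≫ i₀) := fun c => by
      rw [comp_conj i₀, ← Category.id_comp (conj c), comp_conj (𝟙 G₀)]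
      simp only [AGF.conjBy, MonObj.mul_comp, GrpObj.inv_comp, Category.assoc, Category.id_comp]
    refine ⟨((gb⁻¹ * g₂) ≫ b) * (g₁⁻¹ * g) * (g₃ ≫ i₀), ?_⟩
    calc w ≫ t ≫ b = v ≫ (u ≫ tb) ≫ conj gb⁻¹ ≫ b := by simp only [w, Category.assoc, reassoc_of% e1]
      _ = v ≫ t₁ ≫ conj (gb⁻¹ * g₂) ≫ b := by
          rw [hub', ← comp_conj, Category.assoc, reassoc_of% (conj_mul gb⁻¹ g₂)]
      _ = v ≫ t₀ ≫ i₀ ≫ conj (g₁⁻¹ * g) ≫ conj ((gb⁻¹ * g₂) ≫ b) := by rw [hcb', reassoc_of% ht₁]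
      _ = (j₀ ≫ conj g₃) ≫ i₀ ≫ conj (((gb⁻¹ * g₂) ≫ b) * (g₁⁻¹ * g)) := by
          rw [conj_mul, reassoc_of% hvt, comp_conj j₀]
      _ = j ≫ conj (((gb⁻¹ * g₂) ≫ b) * (g₁⁻¹ * g) * (g₃ ≫ i₀)) := by
          rw [Category.assoc, reassoc_of% (hci g₃), reassoc_of% hj₀i, conj_mul]
  obtain ⟨c, hc⟩ := hw
  haveI : IsMonHom w := inferInstance
  haveI : IsClosedImmersion j.left := isClosedImmersion_of_mono j
  haveI := isClosedImmersion_of_mono (t ≫ b)
  have hC := range_conj_eq (G := G) j.left.isClosedEmbedding.isClosed_range c (by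
    rintro _ ⟨_, ⟨z, rfl⟩, rfl⟩
    refine ⟨φ.left (w.left z), ?_⟩
    show ((w ≫ φ) ≫ j).left z = (j ≫ conj c).left z
    rw [Category.assoc, hφ, hc])
  have hrj : Set.range j.left ⊆ Set.range (t ≫ b).left := by
    intro x hx
    rw [← hC] at hx
    obtain ⟨_, ⟨z, rfl⟩, rfl⟩ := hx
    refine ⟨w.left z, ?_⟩
    show (w ≫ t ≫ b).left z = (j ≫ conj c).left z
    rw [hc]
  haveI : IsReduced T'.left := GrpSchLib.isReduced_of_smooth_field T'.hom
  obtain ⟨r, hr'⟩ := Chev.exists_lift_range (t ≫ b) j hrj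
  exact ⟨r, by rw [← cancel_mono (t ≫ b), Category.assoc, hr', hφ, Category.id_comp],
    by rw [← cancel_mono j, Category.assoc, hφ, hr', Category.id_comp]⟩

end

end Groth.Agent.Deform.Borel
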