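import Groth.Agent.Deform.Borel.NormField

/-!
# The centraliser of a Borel subgroup is the centre
-/

universe u

open CategoryTheory CategoryTheory.Limits MonoidalCategory CartesianMonoidalCategory MonObj GrpObj AlgebraicGeometry

attribute [local instance] CategoryTheory.Hom.monoid CategoryTheory.Hom.group
set_option linter.style.haveILetI false
set_option linter.unusedSectionVars false

namespace Groth.Agent.Deform.Borel

open Chev (Pt pimg)
open Agent.GrpSchLib.Kunneth (Fn ev evPt evPt_comp ev_ev)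

noncomputable section

variable {k : Type u} [Field k]

section Closed

variable [IsAlgClosed k] {G B A : Over (Spec (CommRingCat.of k))} [GrpObj G] [GrpObj B]

/-- Functions on a smooth scheme agreeing on rational points agree. -/
theorem fn_eq_of_pts {Y : Over (Spec (CommRingCat.of k))} [Smooth Y.hom] {f f' : Fn Y}
    (h : ∀ q : Pt Y, evPt q f = evPt q f') : f = f' := by
  haveI : IsReduced Y.left := GrpSchLib.isReduced_of_smooth_field Y.hom
  haveI : JacobsonSpace Y.left := LocallyOfFiniteType.jacobsonSpace Y.hom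
  rw [← sub_eq_zero]
  refine (basicOpen_eq_bot_iff _).mp (TopologicalSpace.Opens.ext ?_)
  by_contra hne
  obtain ⟨z, hz, hzc⟩ := nonempty_inter_closedPoints (Set.nonempty_iff_ne_empty.mpr hne)
    (Y.left.basicOpen (f - f')).2.isLocallyClosed
  obtain ⟨q, rfl⟩ := Chev.exists_pimg_eq hzc
  exact ((evPt_eq_zero_iff q _).mp (by rw [map_sub, h q, sub_self])) hz

set_option maxHeartbeats 1000000 in
/-- **A point commuting with a Borel subgroup is central.** -/
theorem central_of_borel [IsAffine G.left] [Smooth G.hom] [ConnectedSpace G.left] [QuasiCompact A.hom]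
    [IsSeparated A.hom] {iB : B ⟶ G} (hB : Red.IsBorelOver k iB) (n : A ⟶ G)
    (h : (fst A B ≫ n) * (snd A B ≫ iB) = (snd A B ≫ iB) * (fst A B ≫ n)) :
    (fst A G ≫ n) * snd A G = snd A G * (fst A G ≫ n) := by
  classical
  haveI : IsAffineHom G.hom := isAffineHom_of_isAffine _
  haveI : QuasiCompact G.hom := inferInstance
  haveI := Agent.GrpSchLib.AntiAffine.isSeparated_grp G
  haveI := hB.2.2.1
  let ψ : G ⊗ A ⟶ G := fst G A * (snd G A ≫ n) * (fst G A)⁻¹
  suffices hψ : ψ = snd G A ≫ n by
    have h1 := congrArg (lift (snd A G) (fst A G) ≫ ·) hψ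
    simp only [ψ, MonObj.comp_mul, GrpObj.comp_inv, lift_fst, ← Category.assoc, lift_snd] at h1
    exact (mul_inv_eq_iff_eq_mul.mp h1).symm
  have hψ : ∀ (T : Over (Spec (CommRingCat.of k))) (u : T ⟶ G) (v : T ⟶ A),
      lift u v ≫ ψ = u * (v ≫ n) * u⁻¹ := fun T u v => by
    simp only [ψ, MonObj.comp_mul, GrpObj.comp_inv, lift_fst, ← Category.assoc, lift_snd]
  refine Agent.GrpSchLib.LineGroups.ext_ev (AlgHom.ext fun φ => ?_)
  haveI : Smooth (𝟙_ (Over (Spec (CommRingCat.of k)))).hom :=
    inferInstanceAs (Smooth (𝟙 (Spec (CommRingCat.of k))))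
  let c := Module.Basis.ofVectorSpace k (Fn A)
  obtain ⟨s, w, hw⟩ := Agent.GrpSchLib.Kunneth.exists_expand (X := G) (Y := A) c (ev ψ φ)
  have hsl : ∀ g : Pt G, ev (lift (toUnit A ≫ g) (𝟙 A) ≫ ψ) φ = ∑ l ∈ s, evPt g (w l) • c l := fun g => by
    rw [← ev_ev, hw, map_sum]
    refine Finset.sum_congr rfl fun l _ => ?_
    rw [map_mul, ev_ev, ev_ev, lift_fst, lift_snd, ← ev_ev, Algebra.smul_def]
    congr 1
    rw [evPt_eq g (w l)]
    generalize ev g (w l) = a
    obtain ⟨r, rfl⟩ : ∃ r : k, algebraMap k (Fn (𝟙_ (Over (Spec (CommRingCat.of k))))) r = a := by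
      refine ⟨evPt (𝟙 _) a, ?_⟩
      refine (fn_eq_of_pts fun q => ?_)
      rw [AlgHom.commutes, toUnit_unique q (𝟙 _)]
      try rfl
    rw [AlgHom.commutes, AlgHom.commutes]
    rfl
  have hconst : ∀ l ∈ s, w l = algebraMap k (Fn G) (evPt (1 : Pt G) (w l)) := fun l hl =>
    fn_eq_of_pts fun q => by
      rw [AlgHom.commutes]
      show evPt q (w l) = evPt (1 : Pt G) (w l)
      refine const_fn_of_closedImg (closedImg_of_isBorelOver iB hB) (w l) (fun g b => ?_) q
      have e : lift (toUnit A ≫ (g * (b ≫ iB))) (𝟙 A) ≫ ψ = lift (toUnit A ≫ g) (𝟙 A) ≫ ψ := by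
        rw [hψ, hψ, Category.id_comp, MonObj.comp_mul, _root_.mul_inv_rev]
        have hb := congrArg (lift (𝟙 A) (toUnit A ≫ b) ≫ ·) h
        simp only [MonObj.comp_mul, ← Category.assoc, lift_fst, lift_snd, Category.id_comp] at hb
        rw [← Category.assoc, _root_.mul_assoc (toUnit A ≫ g) ((toUnit A ≫ b) ≫ iB) n, ← hb]
        group
      have e1 := congrArg (fun m : A ⟶ G => ev m φ) e
      simp only [hsl] at e1
      have e2 := sub_eq_zero.mpr e1
      rw [← Finset.sum_sub_distrib] at e2
      simp only [← sub_smul] at e2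
      exact sub_eq_zero.mp (linearIndependent_iff'.mp c.linearIndependent s _ e2 l hl)
  have h1 := hsl 1
  rw [hψ, MonObj.comp_one, _root_.one_mul, inv_one, _root_.mul_one, Category.id_comp] at h1
  rw [hw, ← ev_ev, h1, map_sum]
  refine Finset.sum_congr rfl fun l hl => ?_
  conv_lhs => rw [hconst l hl]
  rw [AlgHom.commutes, map_smul, Algebra.smul_def]

end Closed

variable {G B : Over (Spec (CommRingCat.of k))} [GrpObj G] [GrpObj B]

set_option maxHeartbeats 1000000 in
/-- **Commuting with a Borel subgroup is commuting with the group.** -/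
theorem comm_iff_comm_borel [IsAffine G.left] [Smooth G.hom] [ConnectedSpace G.left] {iB : B ⟶ G}
    (hB : Red.IsBorel iB) {X : Over (Spec (CommRingCat.of k))} (g : X ⟶ G) :
    (∀ (X' : Over (Spec (CommRingCat.of k))) (x : X' ⟶ X) (h : X' ⟶ B),
      (x ≫ g) * (h ≫ iB) = (h ≫ iB) * (x ≫ g)) ↔
    ∀ (X' : Over (Spec (CommRingCat.of k))) (x : X' ⟶ X) (h : X' ⟶ G), (x ≫ g) * h = h * (x ≫ g) := by
  refine ⟨fun hg X' x h => ?_, fun hg X' x h => hg X' x (h ≫ iB)⟩
  refine Over.OverMorphism.ext (X'.left.affineCover.hom_ext _ _ fun j => ?_)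
  let A : Over (Spec (CommRingCat.of k)) := Over.mk (X'.left.affineCover.f j ≫ X'.hom)
  let e : A ⟶ X' := Over.homMk (X'.left.affineCover.f j) rfl
  suffices he : e ≫ ((x ≫ g) * h) = e ≫ (h * (x ≫ g)) from congrArg (fun m => Over.Hom.left m) he
  haveI : IsAffine A.left := inferInstanceAs (IsAffine (X'.left.affineCover.X j))
  have hn := hg (A ⊗ B) (fst A B ≫ e ≫ x) (snd A B)
  suffices hA : (fst A G ≫ e ≫ x ≫ g) * snd A G = snd A G * (fst A G ≫ e ≫ x ≫ g) by
    have h1 := congrArg (lift (𝟙 A) (e ≫ h) ≫ ·) hA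
    simp only [MonObj.comp_mul, lift_snd] at h1
    rw [← Category.assoc, lift_fst, Category.id_comp] at h1
    simpa only [MonObj.comp_mul] using h1
  simp only [Category.assoc] at hn
  generalize e ≫ x ≫ g = n at hn ⊢
  let s₀ : ↥(Spec (CommRingCat.of k)) := IsLocalRing.closedPoint k
  let y := Red.geomPt s₀
  obtain ⟨hGa, hGs, hGc⟩ := bc_props y G
  haveI := hGa; haveI := hGs; haveI := hGc
  haveI : IsAffineHom A.hom := isAffineHom_of_isAffine _
  haveI : QuasiCompact (Red.bc y A).hom := inferInstanceAs (QuasiCompact (pullback.snd A.hom y))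
  haveI : IsSeparated (Red.bc y A).hom := inferInstanceAs (IsSeparated (pullback.snd A.hom y))
  refine bc_map_injective y ?_
  have hb := central_of_borel (hB.2.2.2 s₀) ((Over.pullback y).map n) (by
    have h1 := congrArg (fun m => (CartesianMonoidalCategory.prodComparisonIso (Over.pullback y) A B).inv ≫
      (Over.pullback y).map m) hn
    simp only [Functor.map_mul, MonObj.comp_mul, Functor.map_comp, ← Category.assoc,
      isoInv_fst, isoInv_snd] at h1
    exact h1)
  rw [← cancel_epi (CartesianMonoidalCategory.prodComparisonIso (Over.pullback y) A G).inv]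
  simp only [Functor.map_mul, MonObj.comp_mul, Functor.map_comp, ← Category.assoc, isoInv_fst, isoInv_snd]
  exact hb
where
  isoInv_fst {K : Type u} [Field K] {y : Spec (CommRingCat.of K) ⟶ Spec (CommRingCat.of k)}
      {A P : Over (Spec (CommRingCat.of k))} :
      (CartesianMonoidalCategory.prodComparisonIso (Over.pullback y) A P).inv ≫ (Over.pullback y).map (fst A P) =
        fst _ _ := by
    rw [Iso.inv_comp_eq, CartesianMonoidalCategory.prodComparisonIso_hom, CartesianMonoidalCategory.prodComparison_fst]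
  isoInv_snd {K : Type u} [Field K] {y : Spec (CommRingCat.of K) ⟶ Spec (CommRingCat.of k)}
      {A P : Over (Spec (CommRingCat.of k))} :
      (CartesianMonoidalCategory.prodComparisonIso (Over.pullback y) A P).inv ≫ (Over.pullback y).map (snd A P) =
        snd _ _ := by
    rw [Iso.inv_comp_eq, CartesianMonoidalCategory.prodComparisonIso_hom, CartesianMonoidalCategory.prodComparison_snd]

end

end Groth.Agent.Deform.Borel
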