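import Groth.Agent.Deform.Borel.General
import Mathlib.LinearAlgebra.Matrix.Determinant.Basic
import Mathlib.LinearAlgebra.Matrix.ToLin

/-!
# Connected groups with a central maximal torus are nilpotent
-/

universe u

open CategoryTheory CategoryTheory.Limits MonoidalCategory CartesianMonoidalCategory MonObj GrpObj AlgebraicGeometry

attribute [local instance] CategoryTheory.Hom.monoid CategoryTheory.Hom.group
set_option linter.style.haveILetI false
set_option linter.unusedSectionVars false

namespace Groth.Agent.Deform.Borel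

open Chev (Pt pimg)
open Agent.GrpSchLib (act_one act_mul comp_orbitMap)
open Agent.GrpSchLib.Kunneth (Fn ev evPt evPt_comp ev_ev ev_apply IsRepMatrix)
open Agent.GrpSchLib.ProjLine (Pn)
open Agent.GrpSchLib.AffineHopf (sp spMap)
open scoped commutatorElement
open Matrix

noncomputable section

variable {k : Type u} [Field k] [IsAlgClosed k]

theorem comp_inj_pt {X Y : Over (Spec (CommRingCat.of k))} [Smooth X.hom] [IsSeparated Y.hom] (f g : X ⟶ Y)
    (h : ∀ x : Pt X, x ≫ f = x ≫ g) : f = g := Chev.SemiAbExt.ext_points _ _ h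

/-- Nilpotency of the rational points gives nilpotency on all points. -/
theorem isNilpotentGrp_of_pts (G : Over (Spec (CommRingCat.of k))) [GrpObj G] [Smooth G.hom] [QuasiCompact G.hom]
    [hn : Group.IsNilpotent (Pt G)] : AGF.IsNilpotentGrp G := by
  haveI : IsReduced G.left := GrpSchLib.isReduced_of_smooth_field G.hom
  haveI : JacobsonSpace G.left := LocallyOfFiniteType.jacobsonSpace G.hom
  -- closed subschemes containing the central series
  have key : ∀ m : ℕ, ∃ (Y : Over (Spec (CommRingCat.of k))) (y : Y ⟶ G), IsClosedImmersion y.left ∧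
      (∀ p ∈ Subgroup.upperCentralSeries (Pt G) m, pimg p ∈ Set.range y.left) ∧
      ∀ (X : Over (Spec (CommRingCat.of k))) (x : X ⟶ Y), x ≫ y ∈ Subgroup.upperCentralSeries (X ⟶ G) m := by
    intro m
    induction m with
    | zero =>
      refine ⟨𝟙_ _, η[G], ?_, fun p hp => ?_, fun X x => ?_⟩
      · haveI := Agent.GrpSchLib.AntiAffine.isSeparated_grp G
        haveI : IsClosedImmersion (η[G].left ≫ G.hom) := by
          rw [Over.w η[G]]; exact inferInstanceAs (IsClosedImmersion (𝟙 (Spec (CommRingCat.of k))))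
        exact IsClosedImmersion.of_comp η[G].left G.hom
      · rw [Subgroup.upperCentralSeries_zero, Subgroup.mem_bot] at hp
        exact ⟨IsLocalRing.closedPoint k, by rw [hp, ← MonObj.one_eq_one]; rfl⟩
      · rw [Subgroup.upperCentralSeries_zero, Subgroup.mem_bot, toUnit_unique x (toUnit X)]
        exact (Hom.one_def).symm
    | succ m ih =>
      obtain ⟨Y, y, hy, hYp, hYu⟩ := ih
      haveI := hy
      let c : Pt G → (G ⟶ G) := fun g => 𝟙 G * (toUnit G ≫ g) * (𝟙 G)⁻¹ * (toUnit G ≫ g)⁻¹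
      have hc : ∀ (p g : Pt G), p ≫ c g = ⁅p, g⁆ := fun p g => by
        simp only [c, MonObj.comp_mul, GrpObj.comp_inv, Category.comp_id, ← Category.assoc,
          toUnit_unique (p ≫ toUnit G) (𝟙 _), Category.id_comp, commutatorElement_def]
      let C : Set G.left := ⋂ g : Pt G, (c g).left ⁻¹' Set.range y.left
      have hC : IsClosed C := isClosed_iInter fun g => y.left.isClosedEmbedding.isClosed_range.preimage
        (c g).left.continuous
      let I := Scheme.IdealSheafData.vanishingIdeal (⟨C, hC⟩ : TopologicalSpace.Closeds G.left)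
      let Y' : Over (Spec (CommRingCat.of k)) := Over.mk (I.subschemeι ≫ G.hom)
      let y' : Y' ⟶ G := Over.homMk I.subschemeι rfl
      haveI : IsClosedImmersion y'.left := inferInstanceAs (IsClosedImmersion I.subschemeι)
      haveI : IsReduced Y'.left := H23.RedSub.isReduced_vanishingIdeal ⟨C, hC⟩
      haveI : LocallyOfFiniteType Y'.hom := inferInstanceAs (LocallyOfFiniteType (I.subschemeι ≫ G.hom))
      have hr : Set.range y'.left = C := H23.RedSub.range_vanishingIdeal ⟨C, hC⟩
      refine ⟨Y', y', inferInstance, fun p hp => ?_, fun X x => ?_⟩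
      · rw [hr, Set.mem_iInter]
        intro g
        show (c g).left (pimg p) ∈ Set.range y.left
        rw [← pimg_comp, hc]
        exact hYp _ (Subgroup.mem_upperCentralSeries_succ_iff.mp hp g)
      · rw [Subgroup.mem_upperCentralSeries_succ_iff]
        intro g
        let w : Y' ⊗ G ⟶ G := ⁅fst Y' G ≫ y', snd Y' G⁆
        haveI : IsReduced (Y' ⊗ G).left := GrpSchLib.isReduced_pullback_of_perfectField Y'.hom G.hom
        haveI : LocallyOfFiniteType (Y' ⊗ G).hom :=
          inferInstanceAs (LocallyOfFiniteType (pullback.fst Y'.hom G.hom ≫ Y'.hom))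
        have hsplit : ∀ {T : Over (Spec (CommRingCat.of k))} (z : T ⟶ Y' ⊗ G),
            z ≫ w = ⁅z ≫ fst Y' G ≫ y', z ≫ snd Y' G⁆ := fun z => by
          simp only [w, commutatorElement_def, MonObj.comp_mul, GrpObj.comp_inv]
        obtain ⟨v, hv⟩ := Chev.exists_lift_range y w
          (Chev.mem_of_pts w y.left.isClosedEmbedding.isClosed_range fun z => by
            rw [hsplit, ← hc]
            have h1 : pimg (z ≫ fst Y' G ≫ y') ∈ C := hr ▸ ⟨pimg (z ≫ fst Y' G), rfl⟩
            exact (Set.mem_iInter.mp h1) (z ≫ snd Y' G))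
        have := hYu X (lift x g ≫ v)
        rwa [Category.assoc, hv, hsplit, lift_fst_assoc, lift_snd] at this
  obtain ⟨n, hn'⟩ := hn
  refine ⟨n, fun X => ?_⟩
  obtain ⟨Y, y, hy, hYp, hYu⟩ := key n
  haveI := hy
  obtain ⟨s, hs⟩ := Chev.exists_lift_range y (𝟙 G) (Chev.mem_of_pts (𝟙 G) y.left.isClosedEmbedding.isClosed_range
    fun p => by rw [Category.comp_id]; exact hYp p (hn' ▸ Subgroup.mem_top p))
  refine (Subgroup.eq_top_iff' _).mpr fun x => ?_
  have := hYu X (x ≫ s)
  rwa [Category.assoc, hs, Category.comp_id] at this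

/-- The regular map to the affine line given by a function. -/
theorem exists_toLine {G : Over (Spec (CommRingCat.of k))} [IsAffine G.left] (f : Fn G) :
    ∃ ψ : G ⟶ sp k (Polynomial k), ∀ x y : Pt G, x ≫ ψ = y ≫ ψ ↔ evPt x f = evPt y f := by
  letI : Algebra k (Fn G) := inferInstance
  let φ : Polynomial k →ₐ[k] Fn G := Polynomial.aeval f
  let ψ : G ⟶ sp k (Polynomial k) := Over.homMk (G.left.toSpecΓ ≫ Spec.map (CommRingCat.ofHom φ.toRingHom)) (by
    show (_ ≫ _) ≫ Spec.map (CommRingCat.ofHom (algebraMap k (Polynomial k))) = G.hom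
    rw [Category.assoc, ← Spec.map_comp, ← CommRingCat.ofHom_comp,
      show φ.toRingHom.comp (algebraMap k (Polynomial k)) = algebraMap k (Fn G) from φ.comp_algebraMap]
    show G.left.toSpecΓ ≫ Spec.map ((Scheme.ΓSpecIso (CommRingCat.of k)).inv ≫ G.hom.appTop) = G.hom
    rw [Spec.map_comp, ← Category.assoc, ← Scheme.toSpecΓ_naturality, Category.assoc]
    change G.hom ≫ (Spec (CommRingCat.of k)).toSpecΓ ≫ _ = G.hom
    rw [← SpecMap_ΓSpecIso_hom (CommRingCat.of k), ← Spec.map_comp, Iso.inv_hom_id, Spec.map_id]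
    exact Category.comp_id _)
  have hψ : ∀ x : Pt G, (x ≫ ψ).left = Spec.map (CommRingCat.ofHom ((evPt x).comp φ).toRingHom) := fun x => by
    show x.left ≫ G.left.toSpecΓ ≫ Spec.map (CommRingCat.ofHom φ.toRingHom) = _
    rw [← Category.assoc, Scheme.toSpecΓ_naturality]
    change ((Spec (CommRingCat.of k)).toSpecΓ ≫ Spec.map x.left.appTop) ≫ _ = _
    rw [toSpecΓ_SpecMap_ΓSpecIso_hom' x.left.appTop, ← Spec.map_comp]
    rfl
  refine ⟨ψ, fun x y => ⟨fun h => ?_, fun h => ?_⟩⟩
  · have h2 := congrArg (fun z => Over.Hom.left z) h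
    simp only [hψ] at h2
    have h3 := congrArg (fun g : CommRingCat.of (Polynomial k) ⟶ CommRingCat.of k => g.hom Polynomial.X)
      (Spec.map_injective h2)
    simpa [φ] using h3
  · refine Over.OverMorphism.ext ?_
    rw [hψ, hψ]
    congr 2
    exact congrArg AlgHom.toRingHom (Polynomial.algHom_ext (by simpa [φ] using h) :
      (evPt x).comp φ = (evPt y).comp φ)
where
  toSpecΓ_SpecMap_ΓSpecIso_hom' {R : CommRingCat.{u}} {Z : CommRingCat.{u}} (g : Z ⟶ Γ(Spec R, ⊤)) :
      (Spec R).toSpecΓ ≫ Spec.map g = Spec.map (g ≫ (Scheme.ΓSpecIso R).hom) := by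
    rw [Spec.map_comp, SpecMap_ΓSpecIso_hom R]

/-- A function invariant under a subgroup with closed images is constant. -/
theorem const_fn_of_closedImg {G H : Over (Spec (CommRingCat.of k))} [GrpObj G] [IsAffine G.left] [Smooth G.hom]
    [ConnectedSpace G.left] [Smooth H.hom] {i : H ⟶ G} (hi : ClosedImg i) (f : Fn G)
    (hf : ∀ (g : Pt G) (h : Pt H), evPt (g * (h ≫ i)) f = evPt g f) (g : Pt G) : evPt g f = evPt (1 : Pt G) f := by
  haveI : IsAffineHom G.hom := isAffineHom_of_isAffine _
  haveI : QuasiCompact G.hom := inferInstance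
  obtain ⟨ψ, hψ⟩ := exists_toLine f
  haveI : LocallyOfFiniteType (sp k (Polynomial k)).hom :=
    (HasRingHomProperty.Spec_iff (P := @LocallyOfFiniteType)).mpr
      (RingHom.finiteType_algebraMap.mpr inferInstance)
  haveI : IsAffine (sp k (Polynomial k)).left := inferInstanceAs (IsAffine (Spec _))
  haveI : IsAffineHom (sp k (Polynomial k)).hom := isAffineHom_of_isAffine _
  haveI : Smooth (G ⊗ H).hom := inferInstanceAs (Smooth (pullback.fst G.hom H.hom ≫ G.hom))
  have key : (fst G H * (snd G H ≫ i)) ≫ ψ = fst G H ≫ ψ := comp_inj_pt _ _ fun z => by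
    rw [← Category.assoc, ← Category.assoc, hψ, MonObj.comp_mul, ← Category.assoc]
    exact hf _ _
  have hc := const_of_closedImg hi ψ fun u v => by
    have := congrArg (lift u v ≫ ·) key
    simp only [← Category.assoc, MonObj.comp_mul, lift_fst, lift_snd] at this
    exact this
  refine (hψ g 1).mp ?_
  conv_lhs => rw [hc]
  rw [← Category.assoc, toUnit_unique (g ≫ toUnit G) (𝟙 _), Category.id_comp]

set_option maxHeartbeats 2000000 in
/-- **A connected affine group with a central maximal torus is nilpotent.** -/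
theorem nilpotent_of_central_maxTorus (G : Over (Spec (CommRingCat.of k))) [GrpObj G] [IsAffine G.left]
    [Smooth G.hom] [ConnectedSpace G.left] {T : Over (Spec (CommRingCat.of k))} [GrpObj T] (i : T ⟶ G)
    (hi : AGF.IsMaxTorus i) (hcen : ∀ (g : Pt G) (t : Pt T), g * (t ≫ i) = (t ≫ i) * g) :
    Group.IsNilpotent (Pt G) ∧
      ∃ π : Pt G →* Pt T, (∀ t : Pt T, π (t ≫ i) = t) ∧
        ∀ u ∈ π.ker, ∀ N : ℕ, (N : k) ≠ 0 → u ^ N = 1 → u = 1 := by
  classical
  obtain ⟨him, himo, hT, hmax⟩ := hi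
  haveI := him; haveI := himo
  haveI : IsAffineHom G.hom := isAffineHom_of_isAffine _
  haveI : QuasiCompact G.hom := inferInstance
  obtain ⟨hTa, hTl, hTs, hTc⟩ := Deform.TorusBasic.props hT
  haveI := hTa; haveI := hTl; haveI := hTs; haveI := hTc; haveI := isSolvable_pts_of_torus hT
  obtain ⟨H, iH', iH, hHB, himg, huH⟩ := exists_borel G
  obtain ⟨hHm, hHc, hHs, hHcn, hHsol, -⟩ := hHB
  haveI := hHm; haveI := hHc; haveI := hHs; haveI := hHcn
  haveI : IsAffine H.left := isAffine_of_isAffineHom iH.left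
  haveI : IsAffineHom H.hom := isAffineHom_of_isAffine _
  haveI : Group.IsSolvable (Pt H) := isSolvable_pts_of_grp hHsol
  obtain ⟨g, t, htm, ht⟩ := huH T i
  haveI := htm
  have hti : t ≫ iH = i := comp_inj_pt _ _ fun w => by
    rw [ht, ← comp_conj, ← Category.assoc, pt_conj, hcen, mul_inv_cancel_right]
  haveI : Mono (t ≫ iH) := by rw [hti]; exact himo
  haveI : Mono t := mono_of_mono t iH
  obtain ⟨Tb, iTb, ib, hub, π, hπ, hπnil, hπchar, hπtor⟩ := exists_levi H
  obtain ⟨hbm, hbc, hTb, hubu⟩ := hub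
  haveI := hbm; haveI := hbc
  haveI : Mono iH := (Over.forget _).mono_of_mono_map (inferInstanceAs (Mono iH.left))
  haveI : Mono ib := (Over.forget _).mono_of_mono_map (inferInstanceAs (Mono ib.left))
  obtain ⟨g', s, hsm, hs⟩ := hubu T t hT
  haveI := hsm
  have hts : s ≫ ib = t := comp_inj_pt _ _ fun w => by
    rw [hs, ← comp_conj, ← Category.assoc, pt_conj]
    have h := hcen (g' ≫ iH) w
    rw [← hti, ← Category.assoc w t iH, ← MonObj.mul_comp, ← MonObj.mul_comp] at h
    rw [(cancel_mono iH).mp h, mul_inv_cancel_right]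
  haveI : Mono (ib ≫ iH) := mono_comp ib iH
  haveI : IsIso s := hmax Tb (ib ≫ iH) s hTb (by rw [reassoc_of% hts, hti])
  have hbt : ib = inv s ≫ t := by rw [IsIso.eq_inv_comp, hts]
  have hcenH : ∀ (x : Pt H) (a : Pt Tb), x * (a ≫ ib) = (a ≫ ib) * x := fun x a => by
    rw [← cancel_mono iH, MonObj.mul_comp, MonObj.mul_comp, hbt]
    simp only [Category.assoc, hti]
    rw [← Category.assoc a (inv s)]
    exact hcen _ _
  -- the Borel subgroup is everything
  have hall : ∀ x : Pt G, pimg x ∈ Set.range iH.left := by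
    by_contra hne
    have hns : ¬ Group.IsSolvable (Pt G) := fun hsol => hne fun x => by
      haveI := hsol
      obtain ⟨c, f, hf, hfH⟩ := huH G (𝟙 G)
      refine ⟨(f.left (pimg (c⁻¹ * x * c))), ?_⟩
      show pimg ((c⁻¹ * x * c) ≫ f ≫ iH) = pimg x
      rw [hfH, ← comp_conj, Category.id_comp, pt_conj]
      congr 1
      group
    obtain ⟨n, M, hM, hnoeig⟩ := exists_noEigen G hns
    obtain ⟨a, ha⟩ := exists_projAct hM
    haveI : JacobsonSpace (Pn k n).left := LocallyOfFiniteType.jacobsonSpace (Pn k n).hom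
    obtain ⟨x₀, -⟩ := exists_hasCrd (k := k) (n := n) (v := fun _ => 1) (fun h => one_ne_zero (congrFun h 0))
    obtain ⟨x, -, hx⟩ := exists_fixedPt_mem H (Pn k n) (restrictAct a iH) isClosed_univ (fun _ _ _ => Set.mem_univ _)
      x₀ (Set.mem_univ _)
    obtain ⟨v, hv⟩ := exists_crd x
    obtain ⟨l, hl⟩ := Function.ne_iff.mp hv.ne_zero
    change v l ≠ 0 at hl
    let χ : Pt H → k := fun b => (matPtOf M (b ≫ iH) *ᵥ v) l / v l
    have heig : ∀ b : Pt H, matPtOf M (b ≫ iH) *ᵥ v = χ b • v := fun b => by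
      have hb := hx (𝟙_ _) b
      rw [toUnit_unique (toUnit (𝟙_ _)) (𝟙 _), Category.id_comp, lift_restrictAct] at hb
      have h1 : HasCrd x (matPtOf M (b ≫ iH) *ᵥ v) := by
        have h := ha (b ≫ iH) x v hv
        rwa [hb] at h
      funext p
      rw [Pi.smul_apply, smul_eq_mul, div_mul_eq_mul_div, eq_div_iff hl]
      exact (h1.eq_iff hv).mp rfl p l
    have hχmul : ∀ b b' : Pt H, χ (b * b') = χ b * χ b' := fun b b' => by
      have h := heig (b * b')
      rw [MonObj.mul_comp, matPtOf_mul hM, ← mulVec_mulVec, heig, mulVec_smul, heig, smul_smul] at h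
      have h' := congrFun h l
      simp only [Pi.smul_apply, smul_eq_mul] at h'
      rw [mul_right_cancel₀ hl h'.symm, mul_comm]
    have hχ1 : χ 1 = 1 := by
      show (matPtOf M ((1 : Pt H) ≫ iH) *ᵥ v) l / v l = 1
      rw [MonObj.one_comp, matPtOf_one hM, one_mulVec, div_self hl]
    -- the eigenspace of the torus
    let V : Submodule k (Fin (n + 1) → k) :=
      ⨅ w : Pt Tb, LinearMap.ker (Matrix.mulVecLin (matPtOf M ((w ≫ ib) ≫ iH)) - χ (w ≫ ib) • LinearMap.id)
    have hmemV : ∀ z, z ∈ V ↔ ∀ w : Pt Tb, matPtOf M ((w ≫ ib) ≫ iH) *ᵥ z = χ (w ≫ ib) • z := fun z => by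
      simp only [V, Submodule.mem_iInf, LinearMap.mem_ker, LinearMap.sub_apply, Matrix.mulVecLin_apply,
        LinearMap.smul_apply, LinearMap.id_apply, sub_eq_zero]
    have hvV : v ∈ V := (hmemV v).mpr fun w => heig _
    have hstabV : ∀ (g : Pt G), ∀ z ∈ V, matPtOf M g *ᵥ z ∈ V := fun g z hz => (hmemV _).mpr fun w => by
      have hc : g * ((w ≫ ib) ≫ iH) = ((w ≫ ib) ≫ iH) * g := by
        rw [hbt]
        simp only [Category.assoc, hti]
        rw [← Category.assoc w (inv s)]
        exact hcen _ _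
      rw [mulVec_mulVec, ← matPtOf_mul hM, ← hc, matPtOf_mul hM, ← mulVec_mulVec, (hmemV z).mp hz w, mulVec_smul]
    let m := Module.finrank k V
    let bV : Module.Basis (Fin m) k V := Module.finBasis k V
    let Q : Matrix (Fin (n + 1)) (Fin m) k := Matrix.of fun p q => (bV q : Fin (n + 1) → k) p
    have hQ : ∀ c : Fin m → k, Q *ᵥ c = ((∑ q, c q • bV q : V) : Fin (n + 1) → k) := fun c => by
      funext p
      simp only [Matrix.mulVec, dotProduct, Q, Matrix.of_apply, Submodule.coe_sum, Submodule.coe_smul, Finset.sum_apply,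
        Pi.smul_apply, smul_eq_mul]
      exact Finset.sum_congr rfl fun q _ => mul_comm _ _
    have hQsurj : ∀ z ∈ V, ∃ c, Q *ᵥ c = z := fun z hz =>
      ⟨bV.repr ⟨z, hz⟩, by rw [hQ, bV.sum_repr]⟩
    have hQinj : Function.Injective Q.mulVecLin := fun c c' h => by
      simp only [Matrix.mulVecLin_apply, hQ] at h
      have h' := congrArg bV.equivFun (Subtype.ext h : (∑ q, c q • bV q : V) = ∑ q, c' q • bV q)
      rwa [← bV.equivFun_symm_apply, ← bV.equivFun_symm_apply, LinearEquiv.apply_symm_apply,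
        LinearEquiv.apply_symm_apply] at h'
    obtain ⟨Pl, hPl⟩ := Q.mulVecLin.exists_leftInverse_of_injective (LinearMap.ker_eq_bot.mpr hQinj)
    let P : Matrix (Fin m) (Fin (n + 1)) k := LinearMap.toMatrix' Pl
    have hPQ : P * Q = 1 := by
      refine Matrix.toLin'.injective (LinearMap.ext fun c => ?_)
      rw [Matrix.toLin'_apply, Matrix.toLin'_apply, ← mulVec_mulVec, one_mulVec]
      show Matrix.mulVec P (Q *ᵥ c) = c
      rw [LinearMap.toMatrix'_mulVec]
      exact LinearMap.congr_fun hPl c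
    have hQP : ∀ z ∈ V, Q *ᵥ (P *ᵥ z) = z := fun z hz => by
      obtain ⟨c, rfl⟩ := hQsurj z hz
      rw [mulVec_mulVec c P Q, hPQ, one_mulVec]
    let al : k →+* Fn G := algebraMap k (Fn G)
    let NM : Matrix (Fin m) (Fin m) (Fn G) := P.map al * M * Q.map al
    have hN : ∀ g : Pt G, NM.map (evPt g) = P * matPtOf M g * Q := fun g => by
      have h1 : (P.map al).map (evPt g) = P := by ext p q; exact (evPt g).commutes _
      have h2 : (Q.map al).map (evPt g) = Q := by ext p q; exact (evPt g).commutes _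
      show (P.map al * M * Q.map al).map (evPt g) = _
      rw [Matrix.map_mul, Matrix.map_mul, h1, h2]
      rfl
    have hMQ : ∀ g : Pt G, Q * (P * matPtOf M g * Q) = matPtOf M g * Q := fun g => by
      refine Matrix.toLin'.injective (LinearMap.ext fun c => ?_)
      rw [Matrix.toLin'_apply, Matrix.toLin'_apply, ← mulVec_mulVec, ← mulVec_mulVec, ← mulVec_mulVec, ← mulVec_mulVec]
      exact hQP _ (hstabV g _ (by rw [hQ]; exact Submodule.coe_mem _))
    let d : Fn G := NM.det
    have hd : ∀ g : Pt G, evPt g d = (P * matPtOf M g * Q).det := fun g => by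
      rw [← hN, AlgHom.map_det]
      rfl
    have hdmul : ∀ g g' : Pt G, evPt (g * g') d = evPt g d * evPt g' d := fun g g' => by
      rw [hd, hd, hd, ← det_mul, matPtOf_mul hM]
      congr 1
      conv_rhs => rw [Matrix.mul_assoc (P * matPtOf M g) Q, hMQ]
      simp only [Matrix.mul_assoc]
    have hd1 : evPt (1 : Pt G) d = 1 := by
      rw [hd, matPtOf_one hM, Matrix.mul_one, hPQ, det_one]
    have hdt : ∀ w : Pt Tb, evPt ((w ≫ ib) ≫ iH) d = χ (w ≫ ib) ^ m := fun w => by
      have e : P * matPtOf M ((w ≫ ib) ≫ iH) * Q = χ (w ≫ ib) • (1 : Matrix (Fin m) (Fin m) k) := by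
        refine Matrix.toLin'.injective (LinearMap.ext fun c => ?_)
        rw [Matrix.toLin'_apply, Matrix.toLin'_apply, ← mulVec_mulVec, ← mulVec_mulVec,
          (hmemV (Q *ᵥ c)).mp (by rw [hQ]; exact Submodule.coe_mem _) w, mulVec_smul, mulVec_mulVec c P Q, hPQ,
          one_mulVec, smul_mulVec, one_mulVec]
      rw [hd, e, det_smul, det_one, _root_.mul_one, Fintype.card_fin]
    -- the character on the Borel subgroup
    let di : Fn G := ev (𝟙 G)⁻¹ d
    have hdi : ∀ g : Pt G, evPt g di = evPt g⁻¹ d := fun g => by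
      rw [evPt_comp, GrpObj.comp_inv, Category.comp_id]
    have hdne : ∀ g : Pt G, evPt g di * evPt g d = 1 := fun g => by
      rw [hdi, ← hdmul, inv_mul_cancel, hd1]
    let χf : Fn H := ∑ p, ev iH (M l p) * algebraMap k (Fn H) (v p / v l)
    have hχf : ∀ b : Pt H, evPt b χf = χ b := fun b => by
      show evPt b (∑ p, _) = (∑ p, matPtOf M (b ≫ iH) l p * v p) / v l
      rw [map_sum, Finset.sum_div]
      refine Finset.sum_congr rfl fun p _ => ?_
      rw [map_mul, AlgHom.commutes, evPt_comp]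
      show evPt (b ≫ iH) (M l p) * (v p / v l) = evPt (b ≫ iH) (M l p) * v p / v l
      rw [mul_div_assoc]
    let f : Fn H := χf ^ m * ev iH di
    have hfe : ∀ b : Pt H, evPt b f = χ b ^ m * evPt (b ≫ iH) di := fun b => by
      rw [map_mul, map_pow, hχf, evPt_comp]
    have hf : ∀ b b' : Pt H, evPt (b * b') f = evPt b f * evPt b' f := fun b b' => by
      rw [hfe, hfe, hfe, hχmul, hdi, hdi, hdi, MonObj.mul_comp, _root_.mul_inv_rev, hdmul, mul_pow]
      ring
    have hf1 : evPt (1 : Pt H) f = 1 := by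
      rw [hfe, hχ1, hdi, MonObj.one_comp, inv_one, hd1, one_pow, _root_.one_mul]
    have hfall : ∀ b : Pt H, evPt b f = 1 := fun b => by
      have hu : (π b ≫ ib)⁻¹ * b ∈ π.ker := by
        rw [MonoidHom.mem_ker, map_mul, map_inv, hπ, inv_mul_cancel]
      rw [← mul_inv_cancel_left (π b ≫ ib) b, hf, hπchar f hf hf1 _ hu, _root_.mul_one, hfe, ← hdt, mul_comm]
      exact hdne _
    have hχd : ∀ b : Pt H, χ b ^ m = evPt (b ≫ iH) d := fun b => by
      have h := hfall b
      rw [hfe] at h
      calc χ b ^ m = χ b ^ m * (evPt (b ≫ iH) di * evPt (b ≫ iH) d) := by rw [hdne, _root_.mul_one]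
        _ = evPt (b ≫ iH) d := by rw [← _root_.mul_assoc, h, _root_.one_mul]
    -- invariant functions
    let fc : Fin (n + 1) → Fn G := fun p => ∑ q, M p q * algebraMap k (Fn G) (v q)
    have hfc : ∀ (g : Pt G) p, evPt g (fc p) = (matPtOf M g *ᵥ v) p := fun g p => by
      show evPt g (∑ q, _) = ∑ q, matPtOf M g p q * v q
      rw [map_sum]
      refine Finset.sum_congr rfl fun q _ => ?_
      rw [map_mul, AlgHom.commutes]
      rfl
    have hfcb : ∀ (g : Pt G) (b : Pt H) p, evPt (g * (b ≫ iH)) (fc p) = χ b * evPt g (fc p) := fun g b p => by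
      rw [hfc, hfc, matPtOf_mul hM, ← mulVec_mulVec, heig, mulVec_smul, Pi.smul_apply, smul_eq_mul]
    have hm : m ≠ 0 := fun h0 => by
      haveI : Subsingleton V := Module.finrank_zero_iff.mp h0
      exact hv.ne_zero (congrArg Subtype.val (Subsingleton.elim (⟨v, hvV⟩ : V) 0))
    obtain ⟨m', hm'⟩ := Nat.exists_eq_succ_of_ne_zero hm
    have hconst : ∀ (F : Fn G), (∀ (g : Pt G) (b : Pt H), evPt (g * (b ≫ iH)) F = χ b ^ m * evPt g F) →
        ∀ g : Pt G, evPt g F * evPt g di = evPt (1 : Pt G) F := fun F hF g => by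
      have key := const_fn_of_closedImg himg (F * di) (fun g b => by
        rw [map_mul, map_mul, hF, hdi, hdi, _root_.mul_inv_rev, hdmul, hχd]
        have := hdne (b ≫ iH)
        rw [hdi] at this
        calc _ = evPt (g : Pt G) F * evPt g⁻¹ d * (evPt (b ≫ iH)⁻¹ d * evPt (b ≫ iH) d) := by ring
          _ = _ := by rw [this, _root_.mul_one]) g
      rw [map_mul, map_mul, hdi 1, inv_one, hd1, _root_.mul_one] at key
      exact key
    obtain ⟨g, hg⟩ := hnoeig v hv.ne_zero
    refine hg ((matPtOf M g *ᵥ v) l / v l) (funext fun p => ?_)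
    have h1 := hconst (fc l ^ m) (fun g b => by rw [map_pow, map_pow, hfcb, mul_pow]) g
    have h2 := hconst (fc p * fc l ^ m') (fun g b => by
      rw [map_mul, map_pow, map_mul, map_pow, hfcb, hfcb, hm', pow_succ, mul_pow]; ring) g
    simp only [map_mul, map_pow, hfc, matPtOf_one hM, one_mulVec] at h1 h2
    rw [Pi.smul_apply, smul_eq_mul, div_mul_eq_mul_div, eq_div_iff hl]
    rw [hm', pow_succ] at h1
    have hne' : v l ^ m' ≠ 0 := pow_ne_zero _ hl
    have hdi0 : evPt g di ≠ 0 := fun h0 => by simpa [h0] using hdne g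
    have hy : (matPtOf M g *ᵥ v) l ^ m' ≠ 0 := fun h0 => by
      rw [h0, zero_mul, zero_mul, Nat.succ_eq_add_one, pow_succ] at h1
      exact mul_ne_zero hne' hl h1.symm
    refine mul_right_cancel₀ (mul_ne_zero hy hdi0) ?_
    calc (matPtOf M g *ᵥ v) p * v l * ((matPtOf M g *ᵥ v) l ^ m' * evPt g di)
        = (matPtOf M g *ᵥ v) p * (matPtOf M g *ᵥ v) l ^ m' * evPt g di * v l := by ring
      _ = v p * v l ^ m' * v l := by rw [h2]
      _ = v p * ((matPtOf M g *ᵥ v) l ^ m' * (matPtOf M g *ᵥ v) l * evPt g di) := by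
        rw [h1, Nat.succ_eq_add_one, pow_succ]; ring
      _ = (matPtOf M g *ᵥ v) l * v p * ((matPtOf M g *ᵥ v) l ^ m' * evPt g di) := by ring
  -- transport
  let φ : Pt H →* Pt G :=
    { toFun := fun x => x ≫ iH
      map_one' := MonObj.one_comp _
      map_mul' := fun a b => MonObj.mul_comp a b _ }
  have hφ : Function.Bijective φ := ⟨fun a b h => (cancel_mono iH).mp h, fun x => exists_lift_pt iH (hall x)⟩
  let e : Pt H ≃* Pt G := MulEquiv.ofBijective φ hφ
  haveI := hπnil
  have hTbcomm : ∀ a b : Pt Tb, a * b = b * a := fun a b => by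
    rw [← cancel_mono ib, MonObj.mul_comp, MonObj.mul_comp, hcenH]
  letI : CommGroup (Pt Tb) := { (inferInstance : Group (Pt Tb)) with mul_comm := hTbcomm }
  let mult : Pt Tb × π.ker →* Pt H :=
    { toFun := fun z => (z.1 ≫ ib) * (z.2 : Pt H)
      map_one' := by show ((1 : Pt Tb) ≫ ib) * 1 = 1; rw [MonObj.one_comp, _root_.mul_one]
      map_mul' := fun a b => by
        show ((a.1 * b.1) ≫ ib) * ((a.2 : Pt H) * b.2) = _
        rw [MonObj.mul_comp, _root_.mul_assoc, ← _root_.mul_assoc (b.1 ≫ ib), ← hcenH (a.2 : Pt H) b.1]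
        simp only [_root_.mul_assoc] }
  haveI : Group.IsNilpotent (Pt H) := Group.nilpotent_of_surjective mult fun x =>
    ⟨(π x, ⟨(π x ≫ ib)⁻¹ * x, by rw [MonoidHom.mem_ker, map_mul, map_inv, hπ, inv_mul_cancel]⟩),
      mul_inv_cancel_left _ _⟩
  haveI : IsMonHom (inv s) := Deform.isMonHom_of_comp (inv s) s (i := 𝟙 Tb) (IsIso.inv_hom_id s)
  let σ : Pt Tb →* Pt T :=
    { toFun := fun w => w ≫ inv s
      map_one' := MonObj.one_comp _
      map_mul' := fun a b => MonObj.mul_comp a b _ }
  refine ⟨Group.nilpotent_of_mulEquiv e, σ.comp (π.comp e.symm.toMonoidHom), fun w => ?_, fun u hu N hN huN => ?_⟩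
  · have h1 : e.symm (w ≫ i) = (w ≫ s) ≫ ib := by
      rw [MulEquiv.symm_apply_eq]
      show w ≫ i = ((w ≫ s) ≫ ib) ≫ iH
      simp only [Category.assoc, reassoc_of% hts, hti]
    show π (e.symm (w ≫ i)) ≫ inv s = w
    rw [h1, hπ, Category.assoc, IsIso.hom_inv_id, Category.comp_id]
  · have h1 : e.symm u ∈ π.ker := by
      rw [MonoidHom.mem_ker]
      have : π (e.symm u) ≫ inv s = (1 : Pt Tb) ≫ inv s := by rw [MonObj.one_comp]; exact hu
      exact (cancel_mono (inv s)).mp this
    have h2 := hπtor _ h1 N hN (by rw [← map_pow, huN, map_one])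
    rwa [map_eq_one_iff _ e.symm.injective] at h2

end

end Groth.Agent.Deform.Borel
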