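import Groth.Agent.Deform.Borel.ImageTorus
import Groth.Agent.Deform.Borel.Centre
import Groth.Agent.Deform.Borel.Nilpotent

/-!
# Unipotent radicals of solvable groups and maximal subgroups without subtori
-/

universe u

open CategoryTheory CategoryTheory.Limits MonoidalCategory CartesianMonoidalCategory MonObj GrpObj AlgebraicGeometry

attribute [local instance] CategoryTheory.Hom.monoid CategoryTheory.Hom.group
set_option linter.style.haveILetI false
set_option linter.unusedSectionVars false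

namespace Groth.Agent.Deform.Borel

open Chev (Pt pimg pimg_comp)
open Agent.GrpSchLib.Kunneth (Fn ev evPt evPt_comp ev_ev)

noncomputable section

variable {k : Type u} [Field k] [IsAlgClosed k]

/-- A reduced group whose points are trivial is trivial. -/
theorem isTrivialGrp_of_pts {H : Over (Spec (CommRingCat.of k))} [GrpObj H] [LocallyOfFiniteType H.hom]
    [IsSeparated H.hom] [IsReduced H.left] (h : ∀ x : Pt H, x = 1) : Red.IsTrivialGrp H := by
  haveI : IsClosedImmersion η[H].left := by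
    haveI : IsClosedImmersion (η[H].left ≫ H.hom) := by rw [Over.w η[H]]; exact inferInstanceAs (IsClosedImmersion (𝟙 _))
    exact IsClosedImmersion.of_comp η[H].left H.hom
  obtain ⟨r, hr⟩ := Chev.exists_lift_range η[H] (𝟙 H)
    (Chev.mem_of_pts _ η[H].left.isClosedEmbedding.isClosed_range fun w => by
      refine ⟨pimg (𝟙 (𝟙_ (Over (Spec (CommRingCat.of k))))), ?_⟩
      rw [← pimg_comp, Category.id_comp, Category.comp_id, h w, MonObj.one_eq_one])
  haveI : IsIso (toUnit H) := ⟨η[H], by rw [← toUnit_unique r (toUnit H), hr], toUnit_unique _ _⟩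
  show IsIso H.hom
  rw [← Over.w (toUnit H)]
  haveI : IsIso (toUnit H).left := ((Over.forget _).mapIso (asIso (toUnit H))).isIso_hom
  exact IsIso.comp_isIso' inferInstance (inferInstanceAs (IsIso (𝟙 _)))

/-- A trivial group has trivial points. -/
theorem pts_eq_one_of_isTrivialGrp {H : Over (Spec (CommRingCat.of k))} [GrpObj H] (h : Red.IsTrivialGrp H)
    (x : Pt H) : x = 1 := by
  haveI : IsIso H.hom := h
  exact Over.OverMorphism.ext ((cancel_mono H.hom).mp ((Over.w x).trans (Over.w (1 : Pt H)).symm))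

/-- A group without subtori has solvable points. -/
theorem isNilpotent_pts_of_noSubtorus (U : Over (Spec (CommRingCat.of k))) [GrpObj U] [IsAffine U.left]
    [Smooth U.hom] [ConnectedSpace U.left] (hU : Red.HasNoSubtorus k U) : Group.IsNilpotent (Pt U) := by
  haveI : IsAffineHom U.hom := isAffineHom_of_isAffine _
  obtain ⟨T, gT, t, ht⟩ := exists_univTorus U
  obtain ⟨htm, htc, hT, -⟩ := id ht
  haveI := htm; haveI := htc
  haveI : Mono t := (Over.forget _).mono_of_mono_map (inferInstanceAs (Mono t.left))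
  have h1 := pts_eq_one_of_isTrivialGrp (hU T t hT)
  exact (nilpotent_of_central_maxTorus U t
    ⟨htm, inferInstance, hT, fun T' _ j _ _ f h1 h2 => ht.maximal T' j f h1 h2⟩
    fun g w => by rw [h1 w, MonObj.one_comp, _root_.one_mul, _root_.mul_one]).1

/-- Homomorphisms from groups without subtori into tori are trivial. -/
theorem hom_torus_trivial {U T : Over (Spec (CommRingCat.of k))} [GrpObj U] [GrpObj T] [IsAffine U.left]
    [Smooth U.hom] [ConnectedSpace U.left] (hU : Red.HasNoSubtorus k U) (hT : Red.IsTorus T) (φ : U ⟶ T)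
    [IsMonHom φ] (x : Pt U) : x ≫ φ = 1 := by
  haveI := isNilpotent_pts_of_noSubtorus U hU
  haveI : Group.IsSolvable (Pt U) := inferInstance
  obtain ⟨T₁, gT₁, i₁, hu, π, hπ, -, hchar, -⟩ := exists_levi U
  obtain ⟨him, hic, hT₁, -⟩ := id hu
  haveI := him; haveI := hic
  haveI : Mono i₁ := (Over.forget _).mono_of_mono_map (inferInstanceAs (Mono i₁.left))
  refine pt_torus_ext hT fun c hc hc1 => ?_
  have h1 := hchar (ev φ c) (fun x y => by rw [evPt_comp, evPt_comp, evPt_comp, MonObj.mul_comp]; exact hc _ _)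
    (by rw [evPt_comp, MonObj.one_comp]; exact hc1) x (pts_eq_one_of_isTrivialGrp (hU T₁ i₁ hT₁) _)
  rw [evPt_comp] at h1
  rw [h1, hc1]

set_option maxHeartbeats 1000000 in
/-- **The largest subgroup without subtori of a connected solvable group.** -/
theorem exists_rad (S : Over (Spec (CommRingCat.of k))) [GrpObj S] [IsAffine S.left] [Smooth S.hom]
    [ConnectedSpace S.left] [Group.IsSolvable (Pt S)] :
    ∃ (T : Over (Spec (CommRingCat.of k))) (_ : GrpObj T) (i : T ⟶ S) (ρ : S ⟶ T)
      (K : Over (Spec (CommRingCat.of k))) (_ : GrpObj K) (κ : K ⟶ S),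
      Red.IsTorus T ∧ IsMonHom ρ ∧ IsMonHom i ∧ i ≫ ρ = 𝟙 T ∧ IsMonHom κ ∧ IsClosedImmersion κ.left ∧
        Smooth K.hom ∧ ConnectedSpace K.left ∧ (∀ x : Pt S, (∃ y : Pt K, y ≫ κ = x) ↔ x ≫ ρ = 1) ∧
        Red.HasNoSubtorus k K := by
  haveI : IsAffineHom S.hom := isAffineHom_of_isAffine _
  haveI : QuasiCompact S.hom := inferInstance
  haveI := Agent.GrpSchLib.AntiAffine.isSeparated_grp S
  obtain ⟨T, gT, i, hu, π, ⟨hπi, -⟩, ρ, hρ, hρπ⟩ := exists_levi_hom S
  obtain ⟨him, hic, hT, huniv⟩ := id hu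
  haveI := him; haveI := hic; haveI := hρ
  obtain ⟨hTa, hTl, hTs, hTc⟩ := Deform.TorusBasic.props hT
  haveI := hTa; haveI := hTl; haveI := hTs; haveI := hTc
  haveI : IsAffineHom T.hom := isAffineHom_of_isAffine _
  haveI : IsSeparated T.hom := inferInstance
  have hiρ : i ≫ ρ = 𝟙 T := comp_inj_pt _ _ fun w => by
    rw [← Category.assoc, hρπ, hπi, Category.comp_id]
  -- the retraction onto the kernel
  let β : S ⟶ S := 𝟙 S * (ρ ≫ i)⁻¹
  have hβ : ∀ x : Pt S, x ≫ β = x * ((x ≫ ρ) ≫ i)⁻¹ := fun x => by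
    rw [MonObj.comp_mul, Category.comp_id, GrpObj.comp_inv, ← Category.assoc]
  have hβρ : ∀ x : Pt S, (x ≫ β) ≫ ρ = 1 := fun x => by
    rw [hβ, MonObj.mul_comp, GrpObj.inv_comp, Category.assoc, Category.assoc, hiρ, Category.comp_id, mul_inv_cancel]
  let H : Subgroup (Pt S) := (ptsMap ρ).ker
  haveI : IsClosedImmersion η[T].left := by
    haveI : IsClosedImmersion (η[T].left ≫ T.hom) := by rw [Over.w η[T]]; exact inferInstanceAs (IsClosedImmersion (𝟙 _))
    exact IsClosedImmersion.of_comp η[T].left T.hom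
  let C : Set S.left := ρ.left ⁻¹' {pimg (1 : Pt T)}
  have hC : IsClosed C := (((pointEquivClosedPoint T.hom) ⟨(1 : Pt T).left, Over.w _⟩).2).preimage ρ.left.continuous
  have hCH : ∀ x : Pt S, pimg x ∈ C ↔ x ∈ H := fun x =>
    ⟨fun h => Chev.pimg_injective ((pimg_comp x ρ).trans h),
      fun h => (pimg_comp x ρ).symm.trans (congrArg pimg h)⟩
  obtain ⟨K, gK, κ, hκ, hκc, hKr, hKl, hKq, hKH, hHK⟩ := Chev.exists_subgroup H hC hCH
  haveI := hκ; haveI := hκc; haveI := hKr; haveI := hKl; haveI := hKq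
  haveI : Smooth K.hom := GrpSchLib.smooth_of_isReduced_of_isAlgClosed K
  haveI : IsReduced S.left := GrpSchLib.isReduced_of_smooth_field S.hom
  obtain ⟨r, hr⟩ := Chev.exists_lift_range κ β (Chev.mem_of_pts _ κ.left.isClosedEmbedding.isClosed_range fun x => by
    obtain ⟨y, hy⟩ := hHK (x ≫ β) (hβρ x)
    exact ⟨pimg y, by rw [← pimg_comp, hy]⟩)
  haveI : Mono κ := (Over.forget _).mono_of_mono_map (inferInstanceAs (Mono κ.left))
  haveI : ConnectedSpace K.left := by
    haveI := Agent.GrpSchLib.AntiAffine.isSeparated_grp K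
    have hκr : κ ≫ r = 𝟙 K := (cancel_mono κ).mp (comp_inj_pt _ _ fun y => by
      rw [Category.id_comp, Category.assoc, hr, ← Category.assoc, hβ]
      have h : (y ≫ κ) ≫ ρ = 1 := hKH y
      rw [h, MonObj.one_comp, inv_one, _root_.mul_one])
    refine Function.Surjective.connectedSpace (f := r.left) (fun z => ⟨κ.left z, ?_⟩) r.left.continuous
    exact congrArg (fun m : K ⟶ K => m.left z) hκr
  refine ⟨T, gT, i, ρ, K, gK, κ, hT, hρ, him, hiρ, hκ, hκc, inferInstance, inferInstance,
    fun x => ⟨fun ⟨y, hy⟩ => hy ▸ hKH y, fun h => hHK x h⟩, fun T' _ j _ _ hT' => ?_⟩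
  obtain ⟨hTa', hTl', hTs', hTc'⟩ := Deform.TorusBasic.props hT'
  haveI := hTa'; haveI := hTl'; haveI := hTs'; haveI := hTc'
  haveI : IsAffineHom T'.hom := isAffineHom_of_isAffine _
  haveI : IsReduced T'.left := GrpSchLib.isReduced_of_smooth_field T'.hom
  haveI : Mono (j ≫ κ) := mono_comp j κ
  obtain ⟨g, f', -, hf'⟩ := huniv T' (j ≫ κ) hT'
  refine isTrivialGrp_of_pts fun w => ?_
  have h1 : w ≫ f' = 1 := by
    have h2 : (w ≫ f') ≫ i = g * ((w ≫ j) ≫ κ) * g⁻¹ := by
      rw [Category.assoc, hf', ← comp_conj, ← Category.assoc w, pt_conj, ← Category.assoc]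
    have h3 := congrArg (· ≫ ρ) h2
    rw [Category.assoc, hiρ, Category.comp_id, MonObj.mul_comp, MonObj.mul_comp, GrpObj.inv_comp,
      show ((w ≫ j) ≫ κ) ≫ ρ = 1 from hKH _, _root_.mul_one, mul_inv_cancel] at h3
    exact h3
  have h4 : g * (w ≫ j ≫ κ) * g⁻¹ = 1 := by
    have h5 : (w ≫ f') ≫ i = g * (w ≫ j ≫ κ) * g⁻¹ := by
      rw [Category.assoc, hf', ← comp_conj, ← Category.assoc w, pt_conj]
    rw [← h5, h1, MonObj.one_comp]
  rw [mul_inv_eq_one, mul_eq_left] at h4
  rw [← cancel_mono (j ≫ κ), h4, MonObj.one_comp]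

/-- Connectedness transports along base change by an isomorphism. -/
theorem connectedSpace_bc {S S' : Scheme.{u}} (x : S' ⟶ S) [IsIso x] (U : Over S) [ConnectedSpace U.left] :
    ConnectedSpace (Red.bc x U).left := by
  haveI : IsIso (pullback.fst U.hom x) := inferInstance
  exact Function.Surjective.connectedSpace (f := (inv (pullback.fst U.hom x))) (Surjective.surj)
    (inv (pullback.fst U.hom x)).continuous

/-- Triviality descends along base change by an isomorphism. -/
theorem isTrivialGrp_of_bc {S S' : Scheme.{u}} (x : S' ⟶ S) [IsIso x] (U : Over S)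
    (h : Red.IsTrivialGrp (Red.bc x U)) : Red.IsTrivialGrp U := by
  haveI : IsIso (pullback.snd U.hom x) := h
  haveI : IsIso (pullback.fst U.hom x ≫ U.hom) := by rw [pullback.condition]; infer_instance
  exact IsIso.of_isIso_comp_left (pullback.fst U.hom x) U.hom

/-- Absence of subtori passes to the geometric fibre. -/
theorem hasNoSubtorus_geom {U : Over (Spec (CommRingCat.of k))} [GrpObj U] (hU : Red.HasNoSubtorus k U)
    (s : ↥(Spec (CommRingCat.of k))) :
    Red.HasNoSubtorus (AlgebraicClosure ((Spec (CommRingCat.of k)).residueField s)) (Red.geomFibre s U) := by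
  intro T _ j _ _ hT
  haveI := isIso_geomPt s
  let x := Red.geomPt s
  let y := inv x
  let N : Over.pullback x ⋙ Over.pullback y ≅ 𝟭 (Over (Spec (CommRingCat.of k))) :=
    (Over.pullbackComp y x).symm ≪≫ eqToIso (congrArg (fun g => Over.pullback g) (IsIso.inv_hom_id x)) ≪≫ Over.pullbackId
  let nU : Red.bc y (Red.bc x U) ≅ U := N.app U
  haveI : IsMonHom nU.hom :=
    ((Functor.mapGrpCompIso.symm ≪≫ Functor.mapGrpNatIso N ≪≫ Functor.mapGrpIdIso).hom.app
      (Grp.mk U)).hom.isMonHom_hom
  let F := Over.pullback y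
  haveI : IsMonHom (F.map j) := inferInstance
  haveI : Mono (F.map j) := inferInstance
  exact isTrivialGrp_of_bc y T (hU (Red.bc y T) (F.map j ≫ nU.hom) (Deform.isTorus_bc y hT))

/-- Absence of subtori descends from the geometric fibre. -/
theorem hasNoSubtorus_of_geom {U : Over (Spec (CommRingCat.of k))} [GrpObj U] (s : ↥(Spec (CommRingCat.of k)))
    (h : Red.HasNoSubtorus (AlgebraicClosure ((Spec (CommRingCat.of k)).residueField s)) (Red.geomFibre s U)) :
    Red.HasNoSubtorus k U := by
  intro T _ j _ _ hT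
  haveI := isIso_geomPt s
  let x := Red.geomPt s
  haveI : IsMonHom ((Over.pullback x).map j) := inferInstance
  haveI : Mono ((Over.pullback x).map j) := inferInstance
  exact isTrivialGrp_of_bc x T (h (Red.bc x T) ((Over.pullback x).map j) (Deform.isTorus_bc x hT))

set_option maxHeartbeats 1000000 in
/-- **The kernel of the projection onto the maximal torus is the unipotent radical.** -/
theorem isUnipotentRadical_of_ker {P U T : Over (Spec (CommRingCat.of k))} [GrpObj P] [GrpObj U] [GrpObj T]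
    [IsAffine P.left] [Smooth P.hom] [ConnectedSpace P.left] [Smooth U.hom] [ConnectedSpace U.left]
    (hT : Red.IsTorus T) (ρ : P ⟶ T) [IsMonHom ρ] (u : U ⟶ P) [IsMonHom u] [IsClosedImmersion u.left]
    (hU : Red.HasNoSubtorus k U) (hpts : ∀ x : Pt P, (∃ y : Pt U, y ≫ u = x) ↔ x ≫ ρ = 1) :
    Par.IsUnipotentRadical u := by
  haveI : IsAffineHom P.hom := isAffineHom_of_isAffine _
  haveI : QuasiCompact U.hom := by rw [← Over.w u]; infer_instance
  haveI : IsReduced U.left := GrpSchLib.isReduced_of_smooth_field U.hom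
  haveI : Smooth (P ⊗ U).hom := inferInstanceAs (Smooth (pullback.fst P.hom U.hom ≫ P.hom))
  haveI : IsReduced (P ⊗ U).left := GrpSchLib.isReduced_of_smooth_field (P ⊗ U).hom
  refine ⟨inferInstance, inferInstance, fun X g n => ?_, inferInstance, inferInstance, fun s => ?_,
    fun U' _ u' _ hc' hn' hs' hq' hgeo => ?_⟩
  · obtain ⟨c, hc⟩ := Chev.exists_lift_range u (fst P U * (snd P U ≫ u) * (fst P U)⁻¹)
      (Chev.mem_of_pts _ u.left.isClosedEmbedding.isClosed_range fun w => by
        obtain ⟨y, hy⟩ := (hpts (w ≫ (fst P U * (snd P U ≫ u) * (fst P U)⁻¹))).mpr (by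
          have h : (w ≫ snd P U ≫ u) ≫ ρ = 1 := (hpts _).mp ⟨w ≫ snd P U, Category.assoc _ _ _⟩
          rw [MonObj.comp_mul, MonObj.comp_mul, GrpObj.comp_inv, MonObj.mul_comp, MonObj.mul_comp, GrpObj.inv_comp, h,
            _root_.mul_one, mul_inv_cancel])
        exact ⟨pimg y, by rw [← pimg_comp, hy]⟩)
    refine ⟨lift g n ≫ c, ?_⟩
    rw [Category.assoc, hc, MonObj.comp_mul, MonObj.comp_mul, GrpObj.comp_inv, lift_fst, lift_snd_assoc]
  · haveI := isIso_geomPt s
    exact ⟨connectedSpace_bc (Red.geomPt s) U, hasNoSubtorus_geom hU s⟩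
  haveI := hc'; haveI := hs'
  obtain ⟨hcn, hno⟩ := hgeo (IsLocalRing.closedPoint k)
  haveI : ConnectedSpace U'.left := by
    haveI := isIso_geomPt (IsLocalRing.closedPoint k : ↥(Spec (CommRingCat.of k)))
    haveI : ConnectedSpace ↥(pullback U'.hom (Red.geomPt (IsLocalRing.closedPoint k : ↥(Spec (CommRingCat.of k))))) := hcn
    exact Function.Surjective.connectedSpace (f := (pullback.fst U'.hom (Red.geomPt (IsLocalRing.closedPoint k))))
      Surjective.surj (pullback.fst U'.hom _).continuous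
  haveI : IsAffine U'.left := isAffine_of_isAffineHom u'.left
  haveI : IsReduced U'.left := GrpSchLib.isReduced_of_smooth_field U'.hom
  exact Chev.exists_lift_range u u' (Chev.mem_of_pts _ u.left.isClosedEmbedding.isClosed_range fun w => by
    obtain ⟨y, hy⟩ := (hpts (w ≫ u')).mpr (by
      rw [Category.assoc]
      exact hom_torus_trivial (hasNoSubtorus_of_geom _ hno) hT (u' ≫ ρ) w)
    exact ⟨pimg y, by rw [← pimg_comp, hy]⟩)

end

end Groth.Agent.Deform.Borel
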