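import Groth.Agent.Deform.Borel.Rigid
import Groth.Agent.VarDim.FibreDim
import Groth.Agent.FibDim.BaseField

/-!
# Cartan subgroups and the density of their conjugates
-/

universe u

open CategoryTheory CategoryTheory.Limits MonoidalCategory CartesianMonoidalCategory MonObj GrpObj AlgebraicGeometry

attribute [local instance] CategoryTheory.Hom.monoid CategoryTheory.Hom.group
set_option linter.style.haveILetI false
set_option linter.unusedSectionVars false

namespace Groth.Agent.Deform.Borel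

open Chev (Pt pimg)
open Agent.VarDim (deg fdeg deg_eq_add deg_map_le exists_fdeg_ge deg_strictMono closedPoint_iff_deg_eq_zero
  exists_deg_eq_topologicalKrullDim)

noncomputable section

variable {k : Type u} [Field k] [IsAlgClosed k]

/-- The neutral component of a closed subgroup of rational points, of finite index on points. -/
theorem exists_neutral_fin {G : Over (Spec (CommRingCat.of k))} [GrpObj G] [LocallyOfFiniteType G.hom]
    [QuasiCompact G.hom] (H : Subgroup (Pt G)) {C : Set G.left} (hC : IsClosed C)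
    (hCH : ∀ h : Pt G, pimg h ∈ C ↔ h ∈ H) :
    ∃ (J : Over (Spec (CommRingCat.of k))) (_ : GrpObj J) (j : J ⟶ G), IsMonHom j ∧ IsClosedImmersion j.left ∧
      Smooth J.hom ∧ QuasiCompact J.hom ∧ ConnectedSpace J.left ∧ (∀ x : Pt J, x ≫ j ∈ H) ∧
      (∃ s : Finset (Pt G), ∀ h ∈ H, ∃ r ∈ s, ∃ x : Pt J, (x ≫ j) * r = h) ∧
      ∀ (T : Over (Spec (CommRingCat.of k))) [GrpObj T] [Smooth T.hom] [ConnectedSpace T.left] (f : T ⟶ G)
        [IsMonHom f], (∀ t : Pt T, t ≫ f ∈ H) → ∃ f' : T ⟶ J, IsMonHom f' ∧ f' ≫ j = f := by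
  classical
  obtain ⟨Y, iY, i, hi, hic, hYr, hYl, hYq, hYH, hHY⟩ := Chev.exists_subgroup H hC hCH
  haveI := hi; haveI := hic; haveI := hYr; haveI := hYl; haveI := hYq
  obtain ⟨N, iN, j, hj, hjc, hjf, hjr, hgi, hNc⟩ := GrpSchLib.exists_identityComponent (G := Y)
  haveI := hj; haveI := hjc; haveI := hjf; haveI := hgi; haveI := hNc
  haveI : IsLocallyNoetherian Y.left := LocallyOfFiniteType.isLocallyNoetherian Y.hom
  haveI : LocallyOfFinitePresentation j.left := inferInstance
  haveI : IsOpenImmersion j.left := IsOpenImmersion.of_flat_of_mono j.left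
  haveI : IsReduced N.left := isReduced_of_isOpenImmersion j.left
  haveI : LocallyOfFiniteType N.hom := by rw [← Over.w j]; infer_instance
  haveI : Smooth N.hom := GrpSchLib.smooth_of_isReduced_of_isAlgClosed N
  haveI : QuasiCompact N.hom := by rw [← Over.w j]; infer_instance
  haveI : IrreducibleSpace N.left := GeometricallyIrreducible.irreducibleSpace N.hom N.hom.isOpenMap
  haveI : ConnectedSpace N.left := inferInstance
  have hd1 : pimg (1 : Pt Y) ∈ Set.range j.left := ⟨pimg (1 : Pt N), by rw [← pimg_comp, MonObj.one_comp]⟩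
  have hpt : ∀ (y r : Pt Y), y ≫ (𝟙 Y * (toUnit Y ≫ r)) = y * r := fun y r => by
    rw [MonObj.comp_mul, Category.comp_id, pt_const]
  obtain ⟨-, s, hs⟩ := exists_finite_cover (fun r : Pt Y => (𝟙 Y * (toUnit Y ≫ r)).left ⁻¹' Set.range j.left)
    (fun r => j.left.isOpenEmbedding.isOpen_range.preimage (Scheme.Hom.continuous _)) fun y => ⟨y⁻¹, by
      show _ ∈ Set.range j.left
      rw [← pimg_comp, hpt, mul_inv_cancel]; exact hd1⟩
  refine ⟨N, iN, j ≫ i, inferInstance, inferInstanceAs (IsClosedImmersion (j.left ≫ i.left)), inferInstance,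
    inferInstance, inferInstance, fun x => by rw [← Category.assoc]; exact hYH _, ⟨s.image fun r => r⁻¹ ≫ i,
      fun h hh => ?_⟩, fun T _ _ _ f _ hf => ?_⟩
  · obtain ⟨y, rfl⟩ := hHY h hh
    obtain ⟨r, hr, hyr⟩ := hs (pimg y)
    change _ ∈ Set.range j.left at hyr
    rw [← pimg_comp, hpt] at hyr
    obtain ⟨x, hx⟩ := exists_lift_pt j hyr
    refine ⟨r⁻¹ ≫ i, Finset.mem_image_of_mem _ hr, x, ?_⟩
    rw [← Category.assoc, hx, ← MonObj.mul_comp, mul_inv_cancel_right]
  haveI : IsReduced T.left := GrpSchLib.isReduced_of_smooth_field T.hom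
  obtain ⟨d, hd⟩ := Chev.exists_lift_range i f (Chev.mem_of_pts f i.left.isClosedEmbedding.isClosed_range fun t => by
    obtain ⟨y, hy⟩ := hHY _ (hf t)
    exact ⟨pimg y, by rw [← pimg_comp, hy]⟩)
  haveI : Mono i := (Over.forget _).mono_of_mono_map (inferInstanceAs (Mono i.left))
  haveI : IsMonHom d := Deform.isMonHom_of_comp d i (i := f) hd
  obtain ⟨e, he⟩ := Chev.exists_lift_neutral j hjr d 1 (MonObj.one_comp d)
  haveI : Mono j := (Over.forget _).mono_of_mono_map (inferInstanceAs (Mono j.left))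
  exact ⟨e, Deform.isMonHom_of_comp e j (i := d) he, by rw [reassoc_of% he, hd]⟩

/-- **The connected centralizer of a maximal torus.** -/
theorem exists_cartan (G : Over (Spec (CommRingCat.of k))) [GrpObj G] [IsAffine G.left] [Smooth G.hom]
    {T : Over (Spec (CommRingCat.of k))} [GrpObj T] (i : T ⟶ G) (hi : AGF.IsMaxTorus i) :
    ∃ (C : Over (Spec (CommRingCat.of k))) (_ : GrpObj C) (c : C ⟶ G) (t₀ : T ⟶ C), IsMonHom c ∧
      IsClosedImmersion c.left ∧ IsAffine C.left ∧ Smooth C.hom ∧ ConnectedSpace C.left ∧ IsMonHom t₀ ∧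
      t₀ ≫ c = i ∧ (∀ (x : Pt C) (w : Pt T), (x ≫ c) * (w ≫ i) = (w ≫ i) * (x ≫ c)) ∧
      (∃ s : Finset (Pt G), ∀ g : Pt G, (∀ w : Pt T, g * (w ≫ i) = (w ≫ i) * g) →
        ∃ r ∈ s, ∃ x : Pt C, (x ≫ c) * r = g) ∧
      Group.IsNilpotent (Pt C) ∧ ∃ π : Pt C →* Pt T, (∀ t : Pt T, π (t ≫ t₀) = t) ∧
        ∀ u ∈ π.ker, ∀ N : ℕ, (N : k) ≠ 0 → u ^ N = 1 → u = 1 := by
  obtain ⟨him, himo, hT, hmax⟩ := hi
  haveI := him; haveI := himo
  haveI : IsAffineHom G.hom := isAffineHom_of_isAffine _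
  haveI : QuasiCompact G.hom := inferInstance
  haveI := Agent.GrpSchLib.AntiAffine.isSeparated_grp G
  obtain ⟨hTa, hTl, hTs, hTc⟩ := Deform.TorusBasic.props hT
  haveI := hTa; haveI := hTl; haveI := hTs; haveI := hTc
  let H : Subgroup (Pt G) :=
    { carrier := {g | ∀ w : Pt T, Commute g (w ≫ i)}
      one_mem' := fun w => Commute.one_left _
      mul_mem' := fun ha hb w => (ha w).mul_left (hb w)
      inv_mem' := fun ha w => (ha w).inv_left }
  let d : Pt T → (G ⟶ G) := fun w => 𝟙 G * (toUnit G ≫ w ≫ i) * (𝟙 G)⁻¹ * (toUnit G ≫ w ≫ i)⁻¹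
  have hd : ∀ (g : Pt G) (w : Pt T), g ≫ d w = g * (w ≫ i) * g⁻¹ * (w ≫ i)⁻¹ := fun g w => by
    simp only [d, MonObj.comp_mul, GrpObj.comp_inv, Category.comp_id, pt_const]
  let Z : Set G.left := ⋂ w : Pt T, (d w).left ⁻¹' {pimg (1 : Pt G)}
  have hZ : IsClosed Z := isClosed_iInter fun w =>
    ((pointEquivClosedPoint G.hom) ⟨(1 : Pt G).left, Over.w (1 : Pt G)⟩).2.preimage (d w).left.continuous
  have hZH : ∀ g : Pt G, pimg g ∈ Z ↔ g ∈ H := fun g => by
    simp only [Z, Set.mem_iInter, Set.mem_preimage, Set.mem_singleton_iff]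
    refine forall_congr' fun w => ?_
    rw [← pimg_comp, Chev.pimg_injective.eq_iff, hd, ← commutatorElement_def,
      commutatorElement_eq_one_iff_mul_comm]
    rfl
  obtain ⟨C, iC, c, hcm, hcc, hCs, hCq, hCc, hCH, hfin, hlift⟩ := exists_neutral_fin H hZ hZH
  haveI := hcm; haveI := hcc; haveI := hCs; haveI := hCc
  have hTcomm : ∀ a b : Pt T, a * b = b * a := fun a b =>
    Agent.GrpSchLib.MultTypeComm.points_comm (Deform.isMultTypeFT_of_isTorus hT) a b
  obtain ⟨t₀, ht₀m, ht₀⟩ := hlift T i fun a w => by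
    show (a ≫ i) * (w ≫ i) = (w ≫ i) * (a ≫ i)
    rw [← MonObj.mul_comp, ← MonObj.mul_comp, hTcomm]
  haveI := ht₀m
  haveI : IsAffine C.left := isAffine_of_isAffineHom c.left
  haveI : Mono c := (Over.forget _).mono_of_mono_map (inferInstanceAs (Mono c.left))
  haveI : Mono (t₀ ≫ c) := by rw [ht₀]; exact himo
  haveI : Mono t₀ := mono_of_mono t₀ c
  have hmax₀ : AGF.IsMaxTorus t₀ := ⟨ht₀m, inferInstance, hT, fun T' _ j _ _ f hT' hf =>
    hmax T' (j ≫ c) f hT' (by rw [← Category.assoc, hf, ht₀])⟩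
  have hcen : ∀ (x : Pt C) (t : Pt T), x * (t ≫ t₀) = (t ≫ t₀) * x := fun x t => by
    rw [← cancel_mono c, MonObj.mul_comp, MonObj.mul_comp, Category.assoc, ht₀]
    exact hCH x t
  obtain ⟨hnil, π, hπ, hπtor⟩ := nilpotent_of_central_maxTorus C t₀ hmax₀ hcen
  exact ⟨C, iC, c, t₀, hcm, hcc, inferInstance, hCs, hCc, ht₀m, ht₀, fun x w => hCH x w, hfin, hnil, π, hπ, hπtor⟩

/-- The dimension of an irreducible variety is the degree of its generic point. -/
theorem dim_eq_deg_generic {X : Over (Spec (CommRingCat.of k))} [LocallyOfFiniteType X.hom] [CompactSpace X.left]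
    [IrreducibleSpace X.left] :
    topologicalKrullDim X.left = ((deg X.hom (genericPoint X.left) : ℕ∞) : WithBot ℕ∞) := by
  obtain ⟨ξ, hξ, -, hd⟩ := exists_deg_eq_topologicalKrullDim X.hom
  rw [hd, hξ _ (genericPoint_specializes ξ)]

theorem deg_le_generic {X : Over (Spec (CommRingCat.of k))} [LocallyOfFiniteType X.hom] [IrreducibleSpace X.left]
    (x : X.left) : deg X.hom x ≤ deg X.hom (genericPoint X.left) :=
  not_lt.mp fun h => absurd (VarDim.eq_of_specializes_of_deg_le X.hom (genericPoint_specializes x) h.le)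
    fun e => h.ne (by rw [e])

set_option maxHeartbeats 2000000 in
/-- **The conjugates of a Cartan subgroup are dense.** -/
theorem denseRange_conj (G : Over (Spec (CommRingCat.of k))) [GrpObj G] [IsAffine G.left] [Smooth G.hom]
    [ConnectedSpace G.left] {T : Over (Spec (CommRingCat.of k))} [GrpObj T] (i : T ⟶ G) (hi : AGF.IsMaxTorus i)
    {C : Over (Spec (CommRingCat.of k))} [GrpObj C] [IsAffine C.left] [Smooth C.hom] [ConnectedSpace C.left]
    (c : C ⟶ G) [IsMonHom c] [IsClosedImmersion c.left] (t₀ : T ⟶ C) [IsMonHom t₀] (ht₀ : t₀ ≫ c = i)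
    (hcen : ∀ (x : Pt C) (w : Pt T), (x ≫ c) * (w ≫ i) = (w ≫ i) * (x ≫ c))
    (hfin : ∃ s : Finset (Pt G), ∀ g : Pt G, (∀ w : Pt T, g * (w ≫ i) = (w ≫ i) * g) →
      ∃ r ∈ s, ∃ x : Pt C, (x ≫ c) * r = g)
    (π : Pt C →* Pt T) (hπ : ∀ t : Pt T, π (t ≫ t₀) = t)
    (hπtor : ∀ u ∈ π.ker, ∀ N : ℕ, (N : k) ≠ 0 → u ^ N = 1 → u = 1) :
    DenseRange (fst G C * (snd G C ≫ c) * (fst G C)⁻¹).left := by
  classical
  obtain ⟨him, himo, hT, -⟩ := hi
  haveI := him; haveI := himo
  haveI : IsAffineHom G.hom := isAffineHom_of_isAffine _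
  haveI : IsAffineHom C.hom := isAffineHom_of_isAffine _
  haveI : QuasiCompact G.hom := inferInstance
  haveI := Agent.GrpSchLib.AntiAffine.isSeparated_grp G
  haveI := Agent.GrpSchLib.AntiAffine.isSeparated_grp C
  haveI : Mono c := (Over.forget _).mono_of_mono_map (inferInstanceAs (Mono c.left))
  haveI : IsAffine (G ⊗ C).left := inferInstanceAs (IsAffine (pullback G.hom C.hom))
  haveI : Smooth (G ⊗ C).hom := inferInstanceAs (Smooth (pullback.fst G.hom C.hom ≫ G.hom))
  haveI : IsIntegral G.left := Agent.GrpSchLib.Kunneth.isIntegral_grp G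
  haveI : IsIntegral C.left := Agent.GrpSchLib.Kunneth.isIntegral_grp C
  haveI : ConnectedSpace (G ⊗ C).left := Chev.connectedSpace_tensor G C
  haveI : IsAffineHom (G ⊗ C).hom := isAffineHom_of_isAffine _
  haveI : IsIntegral (G ⊗ C).left := Agent.GrpSchLib.Kunneth.isIntegral_grp (G ⊗ C)
  haveI : CompactSpace G.left := inferInstance
  haveI : CompactSpace C.left := inferInstance
  haveI : CompactSpace (G ⊗ C).left := inferInstance
  haveI : JacobsonSpace (G ⊗ C).left := LocallyOfFiniteType.jacobsonSpace (G ⊗ C).hom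
  set Φ : G ⊗ C ⟶ G := fst G C * (snd G C ≫ c) * (fst G C)⁻¹ with hΦ
  haveI : LocallyOfFiniteType (Φ.left ≫ G.hom) := by rw [Over.w Φ]; infer_instance
  haveI : LocallyOfFiniteType Φ.left := locallyOfFiniteType_of_comp Φ.left G.hom
  have hΦpt : ∀ (g : Pt G) (x : Pt C), lift g x ≫ Φ = g * (x ≫ c) * g⁻¹ := fun g x => by
    simp only [hΦ, MonObj.comp_mul, GrpObj.comp_inv, lift_fst, ← Category.assoc, lift_snd]
  let η' := genericPoint (G ⊗ C).left
  let ξ := genericPoint G.left
  let ζ := genericPoint C.left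
  suffices h : Φ.left η' = ξ by
    refine dense_iff_closure_eq.mpr (Set.univ_subset_iff.mp ?_)
    rw [← genericPoint_closure (α := G.left)]
    exact closure_mono (Set.singleton_subset_iff.mpr ⟨η', h⟩)
  by_contra hne
  -- the dimension of the product
  have hdim : deg (G ⊗ C).hom η' = deg G.hom ξ + deg C.hom ζ := by
    haveI : Subsingleton ↥(Spec (CommRingCat.of k)) := inferInstanceAs (Subsingleton (PrimeSpectrum k))
    have h := FibDim.topologicalKrullDim_pullback (f := G.hom) (g := C.hom)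
    change topologicalKrullDim (G ⊗ C).left = topologicalKrullDim G.left + topologicalKrullDim C.left at h
    rw [dim_eq_deg_generic, dim_eq_deg_generic, dim_eq_deg_generic] at h
    exact_mod_cast h
  have hlt : deg G.hom (Φ.left η') < deg G.hom ξ :=
    not_le.mp fun h => hne
      (VarDim.eq_of_specializes_of_deg_le G.hom (genericPoint_specializes _) h).symm
  have hadd := deg_eq_add Φ.left G.hom (Over.w Φ) η'
  -- a regular torsion point
  obtain ⟨N, t, hN, htN, hreg⟩ := exists_regular G hT i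
  let y : Pt G := t ≫ i
  let x₀ : Pt (G ⊗ C) := lift 1 (t ≫ t₀)
  have hx₀ : Φ.left (pimg x₀) = pimg y := by
    rw [← pimg_comp, hΦpt, _root_.one_mul, inv_one, _root_.mul_one, Category.assoc, ht₀]
  obtain ⟨x', -, -, hx', hge⟩ := exists_fdeg_ge Φ.left G.hom (genericPoint_specializes (pimg x₀) : η' ⤳ pimg x₀)
  have hdy : deg G.hom (pimg y) = 0 :=
    (closedPoint_iff_deg_eq_zero G.hom _).1 ((pointEquivClosedPoint G.hom) ⟨y.left, Over.w y⟩).2
  have hadd' := deg_eq_add Φ.left G.hom (Over.w Φ) x'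
  rw [hx', hx₀, hdy] at hadd'
  -- the fibre is contained in finitely many translates
  obtain ⟨s, hs⟩ := hfin
  let F := (finite_torsion T hT N (fun h => hN (by simp [h]))).toFinset
  let cj : Pt T → Pt G := fun w => if h : ∃ g : Pt G, g * (w ≫ i) * g⁻¹ = y then h.choose else 1
  let σ : Pt G × Pt T → (C ⟶ G ⊗ C) := fun p =>
    lift (c * (toUnit C ≫ (p.1 * cj p.2))) (toUnit C ≫ p.2 ≫ t₀)
  have hσ : ∀ p, IsClosedImmersion (σ p).left := fun p => by
    let r : Pt G := p.1 * cj p.2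
    let R : G ⟶ G := 𝟙 G * (toUnit G ≫ r)
    let R' : G ⟶ G := 𝟙 G * (toUnit G ≫ r⁻¹)
    have e : c * (toUnit C ≫ r) = c ≫ R := by
      refine Eq.symm ((MonObj.comp_mul c (𝟙 G) (toUnit G ≫ r)).trans ?_)
      rw [Category.comp_id, ← Category.assoc, toUnit_unique (c ≫ toUnit G) (toUnit C)]
    haveI : IsIso R := ⟨R', by
        rw [MonObj.comp_mul, Category.comp_id, ← Category.assoc, toUnit_unique (R ≫ toUnit G) (toUnit G),
          _root_.mul_assoc, ← MonObj.comp_mul, mul_inv_cancel, MonObj.comp_one, _root_.mul_one], by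
        rw [MonObj.comp_mul, Category.comp_id, ← Category.assoc, toUnit_unique (R' ≫ toUnit G) (toUnit G),
          _root_.mul_assoc, ← MonObj.comp_mul, inv_mul_cancel, MonObj.comp_one, _root_.mul_one]⟩
    haveI : IsIso R.left := ((Over.forget _).mapIso (asIso R)).isIso_hom
    haveI : IsClosedImmersion ((σ p).left ≫ (fst G C).left) := by
      rw [← Over.comp_left, lift_fst, e]
      exact inferInstanceAs (IsClosedImmersion (c.left ≫ R.left))
    haveI : IsSeparated (fst G C).left := inferInstanceAs (IsSeparated (pullback.fst G.hom C.hom))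
    exact IsClosedImmersion.of_comp (σ p).left (fst G C).left
  have hfib : Φ.left ⁻¹' {pimg y} ⊆ ⋃ p ∈ s ×ˢ F, Set.range (σ p).left := by
    have hclosed : IsClosed (Φ.left ⁻¹' {pimg y}) :=
      ((pointEquivClosedPoint G.hom) ⟨y.left, Over.w y⟩).2.preimage Φ.left.continuous
    rw [← closure_inter_closedPoints hclosed]
    refine closure_minimal ?_ (isClosed_biUnion_finset fun p _ => by
      haveI := hσ p
      exact (σ p).left.isClosedEmbedding.isClosed_range)
    rintro z ⟨hz, hzc⟩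
    obtain ⟨q, rfl⟩ := Chev.exists_pimg_eq hzc
    obtain ⟨g, x, rfl⟩ : ∃ g x, q = lift g x := ⟨q ≫ fst G C, q ≫ snd G C, by
      rw [← comp_lift, lift_fst_snd, Category.comp_id]⟩
    have hgx : g * (x ≫ c) * g⁻¹ = y := by rw [← hΦpt]; exact Chev.pimg_injective hz
    have hxc : x ≫ c = g⁻¹ * y * g := by rw [← hgx]; group
    have hy : y ^ N = 1 := by
      have e : (t ≫ i) ^ N = (t ^ N) ≫ i := (map_pow ({ toFun := fun w => w ≫ i, map_one' := MonObj.one_comp _, map_mul' := fun a b => MonObj.mul_comp a b _ } : Pt T →* Pt G) t N).symm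
      rw [e, htN, MonObj.one_comp]
    have hxN : x ^ N = 1 := by
      have e : (x ^ N) ≫ c = (x ≫ c) ^ N := map_pow ({ toFun := fun w => w ≫ c, map_one' := MonObj.one_comp _, map_mul' := fun a b => MonObj.mul_comp a b _ } : Pt C →* Pt G) x N
      rw [← cancel_mono c, e, hxc, MonObj.one_comp]
      have h2 : (g⁻¹ * y * g⁻¹⁻¹) ^ N = g⁻¹ * y ^ N * g⁻¹⁻¹ := conj_pow
      rw [_root_.inv_inv, hy, _root_.mul_one, inv_mul_cancel] at h2
      exact h2
    let w := π x
    have hwN : w ^ N = 1 := by rw [← map_pow, hxN, map_one]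
    have hxw : x = w ≫ t₀ := by
      have hu : (w ≫ t₀)⁻¹ * x ∈ π.ker := by rw [MonoidHom.mem_ker, map_mul, map_inv, hπ, inv_mul_cancel]
      have hcomm : Commute (w ≫ t₀)⁻¹ x := by
        refine Commute.inv_left ?_
        show (w ≫ t₀) * x = x * (w ≫ t₀)
        rw [← cancel_mono c, MonObj.mul_comp, MonObj.mul_comp, Category.assoc, ht₀, hcen]
      have hwt : (w ≫ t₀) ^ N = 1 := by
        have e : (w ≫ t₀) ^ N = (w ^ N) ≫ t₀ := (map_pow ({ toFun := fun w => w ≫ t₀, map_one' := MonObj.one_comp _, map_mul' := fun a b => MonObj.mul_comp a b _ } : Pt T →* Pt C) w N).symm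
        rw [e, hwN, MonObj.one_comp]
      exact (inv_mul_eq_one.mp (hπtor _ hu N hN (by rw [hcomm.mul_pow, inv_pow, hwt, hxN, inv_one, _root_.one_mul]))).symm
    have hgw : g * (w ≫ i) * g⁻¹ = y := by rw [← ht₀, ← Category.assoc, ← hxw, hgx]
    have hex : ∃ g : Pt G, g * (w ≫ i) * g⁻¹ = y := ⟨g, hgw⟩
    have hcw : cj w * (w ≫ i) * (cj w)⁻¹ = y := by simp only [cj, dif_pos hex]; exact hex.choose_spec
    have hcomm : (g * (cj w)⁻¹) * y = y * (g * (cj w)⁻¹) := by
      conv_lhs => rw [← hcw]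
      conv_rhs => rw [← hgw]
      group
    obtain ⟨r, hr, z', hz'⟩ := hs _ (hreg _ hcomm)
    refine Set.mem_biUnion (x := (r, w)) (Finset.mem_product.mpr ⟨hr, ?_⟩) ⟨pimg z', ?_⟩
    · exact (Set.Finite.mem_toFinset _).mpr hwN
    · rw [← pimg_comp]
      congr 1
      show z' ≫ lift (c * (toUnit C ≫ (r * cj w))) (toUnit C ≫ w ≫ t₀) = lift g x
      rw [comp_lift, MonObj.comp_mul, ← Category.assoc z' (toUnit C), ← Category.assoc z' (toUnit C),
        toUnit_unique (z' ≫ toUnit C) (𝟙 _), Category.id_comp, Category.id_comp, ← _root_.mul_assoc, hz', inv_mul_cancel_right, hxw]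
  obtain ⟨p, -, hp⟩ := Set.mem_iUnion₂.mp (hfib (show x' ∈ Φ.left ⁻¹' {pimg y} from hx'.trans hx₀))
  obtain ⟨z, hz⟩ := hp
  have h1 : deg (G ⊗ C).hom x' ≤ deg C.hom z := hz ▸ deg_map_le (σ p).left (G ⊗ C).hom (Over.w (σ p)) z
  have h2 : deg C.hom z ≤ deg C.hom ζ := deg_le_generic z
  have h3 : fdeg Φ.left η' ≤ fdeg Φ.left x' := hge
  omega

end

end Groth.Agent.Deform.Borel
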