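import Groth.Agent.Deform.Borel.CentBase
import Groth.Agent.Deform.Borel.Tori

/-!
# Cartan subgroups and Borel subgroups containing a maximal torus
-/

universe u

open CategoryTheory CategoryTheory.Limits MonoidalCategory CartesianMonoidalCategory MonObj GrpObj AlgebraicGeometry

attribute [local instance] CategoryTheory.Hom.monoid CategoryTheory.Hom.group
set_option linter.style.haveILetI false
set_option linter.unusedSectionVars false

namespace Groth.Agent.Deform.Borel

open Chev (Pt pimg)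

noncomputable section

/-- A maximal torus becomes a maximal subtorus on the geometric fibres. -/
theorem isMaxTorus_geom {S : Scheme.{u}} {T G : Over S} [GrpObj T] [GrpObj G] {i : T ⟶ G}
    (h : Red.IsMaximalTorus i) (s : S) : AGF.IsMaxTorus ((Over.pullback (Red.geomPt s)).map i) := by
  obtain ⟨hm, hmo, hT, hmax⟩ := h
  haveI := hm; haveI := hmo
  exact ⟨inferInstance, inferInstance, Deform.isTorus_bc _ hT, fun T' _ j _ _ f h1 h2 => hmax s T' j f h1 h2⟩

variable {k : Type u} [Field k] [IsAlgClosed k]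
variable {G T : Over (Spec (CommRingCat.of k))} [GrpObj G] [GrpObj T]

set_option maxHeartbeats 1000000 in
/-- **A Cartan subgroup is smooth, connected and nilpotent.** -/
theorem cartan_props [IsAffine G.left] [Smooth G.hom] [ConnectedSpace G.left] {i : T ⟶ G} (hi : AGF.IsMaxTorus i)
    {C : Over (Spec (CommRingCat.of k))} [GrpObj C] {c : C ⟶ G} (hc : Red.IsCentralizerOf i c) :
    IsClosedImmersion c.left ∧ Smooth C.hom ∧ ConnectedSpace C.left ∧ Group.IsNilpotent (Pt C) ∧
      AGF.IsNilpotentGrp C := by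
  haveI : IsAffineHom G.hom := isAffineHom_of_isAffine _
  haveI := Agent.GrpSchLib.AntiAffine.isSeparated_grp G
  obtain ⟨him, himo, hT, hmax⟩ := hi
  haveI := him; haveI := himo
  obtain ⟨hcc, hCs⟩ := centralizer_smooth hT hc
  have hCc := centralizer_connected G hT hc
  obtain ⟨hcm, hcmo, hcu⟩ := id hc
  haveI := hcm; haveI := hcmo; haveI := hcc; haveI := hCs; haveI := hCc
  obtain ⟨t₀, ht₀⟩ := (hcu T i).mpr fun X x h => by
    rw [← MonObj.mul_comp, ← MonObj.mul_comp,
      Agent.GrpSchLib.MultTypeComm.points_comm (Deform.isMultTypeFT_of_isTorus hT) x h]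
  haveI : IsMonHom t₀ := Deform.isMonHom_of_comp t₀ c (i := i) ht₀
  haveI : IsAffine C.left := isAffine_of_isAffineHom c.left
  haveI : IsAffineHom C.hom := isAffineHom_of_isAffine _
  haveI : Mono (t₀ ≫ c) := by rw [ht₀]; exact himo
  haveI : Mono t₀ := mono_of_mono t₀ c
  have hmax₀ : AGF.IsMaxTorus t₀ := ⟨inferInstance, inferInstance, hT, fun T' _ j _ _ f hT' hf =>
    hmax T' (j ≫ c) f hT' (by rw [← Category.assoc, hf, ht₀])⟩
  obtain ⟨hnil, -⟩ := nilpotent_of_central_maxTorus C t₀ hmax₀ fun x t => by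
    rw [← cancel_mono c, MonObj.mul_comp, MonObj.mul_comp, Category.assoc, ht₀]
    exact centralizer_comm hc x t
  haveI := hnil
  exact ⟨hcc, hCs, hCc, hnil, isNilpotentGrp_of_pts C⟩

set_option maxHeartbeats 1000000 in
/-- **The normaliser of a maximal torus permutes the Borel subgroups containing it transitively.** -/
theorem exists_norm_conj [IsAffine G.left] [Smooth G.hom] [ConnectedSpace G.left] {i : T ⟶ G} (hi : AGF.IsMaxTorus i)
    {B B' : Over (Spec (CommRingCat.of k))} [GrpObj B] [GrpObj B'] {iB : B ⟶ G} {iB' : B' ⟶ G}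
    (hB : Red.IsBorelOver k iB) (hB' : Red.IsBorelOver k iB') {t : T ⟶ B} (ht : t ≫ iB = i) {t' : T ⟶ B'}
    (ht' : t' ≫ iB' = i) :
    ∃ (n : Pt G) (τ : T ≅ T) (σ : B ≅ B'), τ.hom ≫ i = i ≫ conj n ∧ σ.hom ≫ iB' = iB ≫ conj n := by
  obtain ⟨him, himo, hT, hmax⟩ := hi
  haveI := him; haveI := himo
  obtain ⟨g, σ, hσ, hσg⟩ := borel_conj iB iB' hB hB'
  rw [← comp_conj] at hσg
  haveI := hσ
  obtain ⟨hbm, hbc, hbs, hbcn, -, -⟩ := hB
  obtain ⟨hbm', hbc', hbs', hbcn', -, -⟩ := hB'
  haveI := hbm; haveI := hbc; haveI := hbm'; haveI := hbc'; haveI := hbs'; haveI := hbcn'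
  haveI : Mono iB := (Over.forget _).mono_of_mono_map (inferInstanceAs (Mono iB.left))
  haveI : Mono iB' := (Over.forget _).mono_of_mono_map (inferInstanceAs (Mono iB'.left))
  haveI : IsAffine B'.left := isAffine_of_isAffineHom iB'.left
  haveI : IsAffineHom B'.hom := isAffineHom_of_isAffine _
  haveI : Mono (t ≫ iB) := by rw [ht]; exact himo
  haveI : Mono t := mono_of_mono t iB
  haveI : Mono (t' ≫ iB') := by rw [ht']; exact himo
  haveI : Mono t' := mono_of_mono t' iB'
  haveI : IsMonHom t := Deform.isMonHom_of_comp t iB (i := i) ht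
  haveI : IsMonHom t' := Deform.isMonHom_of_comp t' iB' (i := i) ht'
  let t₁ : T ⟶ B' := t ≫ σ.hom
  have ht₁ : t₁ ≫ iB' = i ≫ conj g := by rw [Category.assoc, hσg, reassoc_of% ht]
  have h₁ : AGF.IsMaxTorus t₁ := ⟨inferInstance, inferInstance, hT, fun T' _ j _ _ f hT' hf =>
    hmax T' (j ≫ iB' ≫ conj g⁻¹) f hT' (by
      rw [← Category.assoc f, hf, ← Category.assoc, ht₁, Category.assoc, conj_right_inv, Category.comp_id])⟩
  have h₂ : AGF.IsMaxTorus t' := ⟨inferInstance, inferInstance, hT, fun T' _ j _ _ f hT' hf =>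
    hmax T' (j ≫ iB') f hT' (by rw [← Category.assoc, hf, ht'])⟩
  obtain ⟨b, τ, -, hτ⟩ := conj_of_max t₁ t' h₁ h₂
  rw [← comp_conj] at hτ
  have hb : conj b ≫ iB' = iB' ≫ conj (b ≫ iB') := by
    rw [comp_conj]
    simp only [conj, MonObj.mul_comp, GrpObj.inv_comp, Category.id_comp, Category.assoc]
  refine ⟨(b ≫ iB') * g, τ, σ ≪≫ asIso (conj b), ?_, ?_⟩
  · rw [← ht', reassoc_of% hτ, ← Category.assoc, ht', Category.assoc, hb, ← Category.assoc, ht₁, Category.assoc,
      conj_mul]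
  · show (σ.hom ≫ conj b) ≫ iB' = _
    rw [Category.assoc, hb, reassoc_of% hσg, conj_mul]

set_option maxHeartbeats 1000000 in
/-- **The centraliser of a maximal torus lies in every Borel subgroup containing the torus.** -/
theorem centralizer_le_borel [IsAffine G.left] [Smooth G.hom] [ConnectedSpace G.left] {i : T ⟶ G}
    (hi : AGF.IsMaxTorus i) {C : Over (Spec (CommRingCat.of k))} [GrpObj C] {c : C ⟶ G}
    (hc : Red.IsCentralizerOf i c) {B : Over (Spec (CommRingCat.of k))} [GrpObj B] {iB : B ⟶ G}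
    (hB : Red.IsBorelOver k iB) {t : T ⟶ B} (ht : t ≫ iB = i) : ∃ f : C ⟶ B, f ≫ iB = c := by
  obtain ⟨hcc, hCs, hCc, hnil, -⟩ := cartan_props hi hc
  haveI := hcc; haveI := hCs; haveI := hCc; haveI := hnil
  haveI := hc.1
  haveI : IsAffine C.left := isAffine_of_isAffineHom c.left
  haveI : Group.IsSolvable (Pt C) := inferInstance
  obtain ⟨H, iH', iH, hH, -, huH⟩ := exists_borel G
  obtain ⟨g, f, -, hf⟩ := huH C c
  have hH' := isBorelOver_conj iH hH g⁻¹
  have hfc : f ≫ (iH ≫ conj g⁻¹) = c := by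
    rw [reassoc_of% hf, ← comp_conj, Category.assoc, conj_right_inv, Category.comp_id]
  obtain ⟨t₀, ht₀⟩ := (hc.2.2 T i).mpr fun X x h => by
    haveI := hi.1
    rw [← MonObj.mul_comp, ← MonObj.mul_comp,
      Agent.GrpSchLib.MultTypeComm.points_comm (Deform.isMultTypeFT_of_isTorus hi.2.2.1) x h]
  obtain ⟨n, τ, σ, hτ, hσ⟩ := exists_norm_conj hi hH' hB (t := t₀ ≫ f) (by rw [Category.assoc, hfc, ht₀]) ht
  have hτ' : τ.inv ≫ i = i ≫ conj n⁻¹ := by
    rw [Iso.inv_comp_eq, reassoc_of% hτ, conj_right_inv, Category.comp_id]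
  obtain ⟨d, hd⟩ := exists_centralizer_map hc hc n⁻¹ τ.symm hτ'
  exact ⟨d ≫ f ≫ σ.hom, by rw [Category.assoc, Category.assoc, hσ, ← Category.assoc f, hfc, reassoc_of% hd,
    conj_left_inv, Category.comp_id]⟩

end

end Groth.Agent.Deform.Borel
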