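import Groth.Agent.Deform.Borel.Conj
import Groth.Prelude.Def_AGF

/-!
# Elementary facts on centralisers
-/

universe u

open CategoryTheory CategoryTheory.Limits MonoidalCategory CartesianMonoidalCategory MonObj GrpObj AlgebraicGeometry

attribute [local instance] CategoryTheory.Hom.monoid CategoryTheory.Hom.group
set_option linter.style.haveILetI false
set_option linter.unusedSectionVars false

namespace Groth.Agent.Deform.Borel

open Chev (Pt pimg)

noncomputable section

variable {k : Type u} [Field k] [IsAlgClosed k]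
variable {G T C : Over (Spec (CommRingCat.of k))} [GrpObj G] [GrpObj T] [GrpObj C]

theorem centralizer_comm {i : T ⟶ G} {c : C ⟶ G} (hc : Red.IsCentralizerOf i c)
    {X : Over (Spec (CommRingCat.of k))} (y : X ⟶ C) (w : X ⟶ T) :
    (y ≫ c) * (w ≫ i) = (w ≫ i) * (y ≫ c) :=
  ((hc.2.2 C c).mp ⟨𝟙 _, Category.id_comp _⟩) X y w

/-- Centralisers of conjugate subgroups are conjugate. -/
theorem exists_centralizer_map {T' C' : Over (Spec (CommRingCat.of k))} [GrpObj T'] [GrpObj C'] {i : T ⟶ G}
    {i' : T' ⟶ G} {c : C ⟶ G} {c' : C' ⟶ G} (hc : Red.IsCentralizerOf i c) (hc' : Red.IsCentralizerOf i' c')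
    (g : Pt G) (e : T ≅ T') (he : e.hom ≫ i' = i ≫ conj g) : ∃ f : C ⟶ C', f ≫ c' = c ≫ conj g := by
  refine (hc'.2.2 C (c ≫ conj g)).mpr fun X x h => ?_
  have e' : h ≫ i' = ((h ≫ e.inv) ≫ i) ≫ conj g := by rw [Category.assoc, Category.assoc, ← he, e.inv_hom_id_assoc]
  rw [e', ← Category.assoc, ← MonObj.mul_comp, ← MonObj.mul_comp, centralizer_comm hc]

end

end Groth.Agent.Deform.Borel
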