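import Groth.Agent.Deform.Borel.CentTorus
import Groth.Agent.Deform.Borel.Centralizer
import Groth.Agent.Deform.Transporter
import Groth.Agent.GrpSchLib.RankOneBase
import Groth.Prelude.Def_AGF

/-!
# Centralisers of tori under change of the base field
-/

universe u

open CategoryTheory CategoryTheory.Limits MonoidalCategory CartesianMonoidalCategory MonObj GrpObj AlgebraicGeometry

attribute [local instance] CategoryTheory.Hom.monoid CategoryTheory.Hom.group
set_option linter.style.haveILetI false
set_option linter.unusedSectionVars false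

namespace Groth.Agent.Deform.Borel

open Chev (Pt pimg)

noncomputable section

/-- Centralisers commute with base change. -/
theorem isCentralizerOf_bc {S T : Scheme.{u}} (b : T ⟶ S) {H G Z : Over S} [GrpObj H] [GrpObj G] [GrpObj Z]
    {i : H ⟶ G} {j : Z ⟶ G} (hj : Red.IsCentralizerOf i j) :
    Red.IsCentralizerOf ((Over.pullback b).map i) ((Over.pullback b).map j) := by
  obtain ⟨hm, hmo, hu⟩ := hj
  haveI := hm; haveI := hmo
  refine ⟨inferInstance, inferInstance, fun X g => ?_⟩
  have h1 : (∃ z : X ⟶ Red.bc b Z, z ≫ (Over.pullback b).map j = g) ↔ ∃ z, z ≫ j = DSPtsLib.theta b g := by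
    constructor
    · rintro ⟨z, rfl⟩
      exact ⟨DSPtsLib.theta b z, (theta_map' b z j).symm⟩
    · rintro ⟨z, hz⟩
      obtain ⟨z', rfl⟩ := (DSPtsLib.theta_bijective b).surjective z
      exact ⟨z', (DSPtsLib.theta_bijective b).injective ((theta_map' b z' j).trans hz)⟩
  refine h1.trans ((hu _ _).trans ⟨fun h X' x w => ?_, fun h X' x w => ?_⟩)
  · refine (DSPtsLib.theta_bijective b).injective ?_
    have := h _ ((Over.map b).map x) (DSPtsLib.theta b w)
    rw [DSPtsLib.theta_mul, DSPtsLib.theta_mul, theta_map', DSPtsLib.theta_comp]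
    exact this
  · obtain ⟨Y, y, e, rfl⟩ := exists_pullPoint b X' x
    obtain ⟨w', hw'⟩ := (DSPtsLib.theta_bijective b).surjective (e.inv ≫ w)
    have hw : w = e.hom ≫ DSPtsLib.theta b w' := by rw [hw', Iso.hom_inv_id_assoc]
    have h1 := congrArg (fun m => e.hom ≫ DSPtsLib.theta b m) (h Y y w')
    simp only [DSPtsLib.theta_mul, theta_map'] at h1
    simp only [DSPtsLib.theta_comp, MonObj.comp_mul] at h1
    rw [hw, Category.assoc, Category.assoc]
    exact h1

/-- Two centralisers are isomorphic. -/
theorem exists_iso_centralizer {S : Scheme.{u}} {H G Z Z' : Over S} [GrpObj H] [GrpObj G] [GrpObj Z] [GrpObj Z']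
    {i : H ⟶ G} {j : Z ⟶ G} {j' : Z' ⟶ G} (hj : Red.IsCentralizerOf i j) (hj' : Red.IsCentralizerOf i j') :
    ∃ e : Z ≅ Z', e.hom ≫ j' = j := by
  haveI := hj.2.1; haveI := hj'.2.1
  obtain ⟨f, hf⟩ := (hj'.2.2 Z j).mpr ((hj.2.2 Z j).mp ⟨𝟙 _, Category.id_comp _⟩)
  obtain ⟨f', hf'⟩ := (hj.2.2 Z' j').mpr ((hj'.2.2 Z' j').mp ⟨𝟙 _, Category.id_comp _⟩)
  exact ⟨⟨f, f', by rw [← cancel_mono j, Category.assoc, hf', hf, Category.id_comp],
    by rw [← cancel_mono j', Category.assoc, hf, hf', Category.id_comp]⟩, hf⟩

/-- Centralisers of tori are smooth closed subgroups. -/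
theorem centralizer_smooth {S : Scheme.{u}} {T G C : Over S} [GrpObj T] [GrpObj G] [GrpObj C] [Smooth G.hom]
    [IsSeparated G.hom] (hT : Red.IsTorus T) {i : T ⟶ G} [IsMonHom i] {c : C ⟶ G} (hc : Red.IsCentralizerOf i c) :
    IsClosedImmersion c.left ∧ Smooth C.hom := by
  obtain ⟨Z, iZ, z, hz, hzc, hZs⟩ :=
    Deform.exists_centralizer (Deform.isMultType_of_ft (Deform.isMultTypeFT_of_isTorus hT)) i
  obtain ⟨e, he⟩ := exists_iso_centralizer hc hz
  haveI := hzc; haveI := hZs
  haveI : IsIso e.hom.left := ((Over.forget _).mapIso e).isIso_hom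
  refine ⟨?_, ?_⟩
  · rw [← he, Over.comp_left]; infer_instance
  · rw [← Over.w e.hom]; infer_instance

section Field

variable {k K : Type u} [Field k] [Field K] (y : Spec (CommRingCat.of K) ⟶ Spec (CommRingCat.of k))

instance surjective_toSpec : Surjective y :=
  ⟨fun z => ⟨IsLocalRing.closedPoint K, Subsingleton.elim (α := PrimeSpectrum k) _ _⟩⟩

instance flat_toSpec : Flat y := by
  obtain ⟨f, rfl⟩ := Spec.map_surjective y
  refine (HasRingHomProperty.Spec_iff (P := @Flat)).mpr ?_
  letI := f.hom.toAlgebra
  exact (inferInstance : Module.Flat k K)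

instance quasiCompact_toSpec : QuasiCompact y := inferInstance

/-- Connectedness descends along field extensions. -/
theorem connectedSpace_of_bc (X : Over (Spec (CommRingCat.of k))) [ConnectedSpace (Red.bc y X).left] :
    ConnectedSpace X.left := by
  haveI : Surjective (pullback.fst X.hom y) :=
    MorphismProperty.of_isPullback (P := @Surjective) (IsPullback.of_hasPullback X.hom y).flip (surjective_toSpec y)
  haveI : ConnectedSpace ↥(pullback X.hom y) := ‹ConnectedSpace (Red.bc y X).left›
  exact (pullback.fst X.hom y).surjective.connectedSpace (pullback.fst X.hom y).continuous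

/-- Base change to a field extension is faithful. -/
theorem bc_map_injective {X G : Over (Spec (CommRingCat.of k))} {g g' : X ⟶ G}
    (h : (Over.pullback y).map g = (Over.pullback y).map g') : g = g' := by
  haveI : Surjective (pullback.fst X.hom y) :=
    MorphismProperty.of_isPullback (P := @Surjective) (IsPullback.of_hasPullback X.hom y).flip (surjective_toSpec y)
  haveI : Flat (pullback.fst X.hom y) :=
    MorphismProperty.of_isPullback (P := @Flat) (IsPullback.of_hasPullback X.hom y).flip (flat_toSpec y)
  haveI : QuasiCompact (pullback.fst X.hom y) :=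
    MorphismProperty.of_isPullback (P := @QuasiCompact) (IsPullback.of_hasPullback X.hom y).flip
      (quasiCompact_toSpec y)
  haveI : Epi (pullback.fst X.hom y) := Flat.epi_of_flat_of_surjective _
  refine Over.OverMorphism.ext ((cancel_epi (pullback.fst X.hom y)).mp ?_)
  have e : ∀ g : X ⟶ G, ((Over.pullback y).map g).left ≫ pullback.fst G.hom y = pullback.fst X.hom y ≫ g.left :=
    fun g => pullback.lift_fst _ _ _
  rw [← e, ← e, h]

/-- Nilpotency descends along field extensions. -/
theorem isNilpotentGrp_of_bc (C : Over (Spec (CommRingCat.of k))) [GrpObj C]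
    (h : AGF.IsNilpotentGrp (Red.bc y C)) : AGF.IsNilpotentGrp C := by
  obtain ⟨n, hn⟩ := h
  refine ⟨n, fun X => ?_⟩
  let ψ : (X ⟶ C) →* (Red.bc y X ⟶ Red.bc y C) :=
    { toFun := fun g => (Over.pullback y).map g
      map_one' := Functor.map_one (F := Over.pullback y) (M := C)
      map_mul' := fun a b => Functor.map_mul (Over.pullback y) a b }
  have key : ∀ m, (Subgroup.upperCentralSeries (Red.bc y X ⟶ Red.bc y C) m).comap ψ ≤
      Subgroup.upperCentralSeries (X ⟶ C) m := by
    intro m
    induction m with
    | zero =>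
      intro g hg
      rw [Subgroup.upperCentralSeries_zero, Subgroup.mem_bot]
      rw [Subgroup.mem_comap, Subgroup.upperCentralSeries_zero, Subgroup.mem_bot] at hg
      exact bc_map_injective y (hg.trans (map_one ψ).symm)
    | succ m ih =>
      intro g hg
      rw [Subgroup.mem_upperCentralSeries_succ_iff]
      intro g'
      refine ih ?_
      rw [Subgroup.mem_comap] at hg ⊢
      have := Subgroup.mem_upperCentralSeries_succ_iff.mp hg (ψ g')
      rw [map_commutatorElement]
      exact this
  refine top_le_iff.mp ((le_of_eq ?_).trans (key n))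
  rw [hn, Subgroup.comap_top]

end Field

variable {k : Type u} [Field k] [IsAlgClosed k]

/-- **Centralisers of tori in connected affine groups are connected.** -/
theorem centralizer_connected (G : Over (Spec (CommRingCat.of k))) [GrpObj G] [IsAffine G.left] [Smooth G.hom]
    [ConnectedSpace G.left] {T C : Over (Spec (CommRingCat.of k))} [GrpObj T] [GrpObj C] (hT : Red.IsTorus T)
    {i : T ⟶ G} [IsMonHom i] {c : C ⟶ G} (hc : Red.IsCentralizerOf i c) : ConnectedSpace C.left := by
  haveI : IsAffineHom G.hom := isAffineHom_of_isAffine _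
  haveI : QuasiCompact G.hom := inferInstance
  haveI := Agent.GrpSchLib.AntiAffine.isSeparated_grp G
  obtain ⟨hTa, hTl, hTs, hTc⟩ := Deform.TorusBasic.props hT
  haveI := hTs
  obtain ⟨hcc, hCs⟩ := centralizer_smooth hT hc
  haveI := hcc; haveI := hCs
  haveI : Mono c := hc.2.1
  obtain ⟨J, iJ, j, hj, hjc, hJs, hJc, hJH, hall⟩ := exists_connected_cent_torus G hT i
  haveI := hj; haveI := hjc; haveI := hJs; haveI := hJc
  haveI : Smooth (J ⊗ T).hom := inferInstanceAs (Smooth (pullback.fst J.hom T.hom ≫ J.hom))
  obtain ⟨f, hf⟩ := (hc.2.2 J j).mpr fun X x h => by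
    have key : (fst J T ≫ j) * (snd J T ≫ i) = (snd J T ≫ i) * (fst J T ≫ j) := comp_inj_pt _ _ fun z => by
      rw [MonObj.comp_mul, MonObj.comp_mul, ← Category.assoc, ← Category.assoc]
      exact hJH _ _
    have h1 := congrArg (lift x h ≫ ·) key
    simpa only [MonObj.comp_mul, ← Category.assoc, lift_fst, lift_snd] using h1
  haveI : JacobsonSpace C.left := LocallyOfFiniteType.jacobsonSpace C.hom
  haveI : Nonempty C.left := ⟨f.left (Classical.arbitrary _)⟩
  have hd : closure (Set.range f.left) = Set.univ := by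
    refine Set.univ_subset_iff.mp ?_
    rw [← closure_closedPoints (X := C.left)]
    refine closure_minimal (fun z hz => subset_closure ?_) isClosed_closure
    obtain ⟨q, rfl⟩ := Chev.exists_pimg_eq hz
    obtain ⟨x, hx⟩ := hall (q ≫ c) fun w => centralizer_comm hc q w
    exact ⟨pimg x, by rw [← pimg_comp, show x ≫ f = q from (cancel_mono c).mp (by rw [Category.assoc, hf, hx])]⟩
  haveI : PreconnectedSpace C.left := ⟨hd ▸ (isPreconnected_range f.left.continuous).closure⟩
  exact ⟨inferInstance⟩

end

end Groth.Agent.Deform.Borel
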