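import Groth.Agent.Deform.Borel.CartanFacts
import Groth.Agent.GrpSchLib.AntiAffineHom

/-!
# The geometric fibre of a connected group over a field
-/

universe u

open CategoryTheory CategoryTheory.Limits MonoidalCategory CartesianMonoidalCategory MonObj GrpObj AlgebraicGeometry

attribute [local instance] CategoryTheory.Hom.monoid CategoryTheory.Hom.group
set_option linter.style.haveILetI false
set_option linter.unusedSectionVars false

namespace Groth.Agent.Deform.Borel

noncomputable section

variable {k K : Type u} [Field k] [Field K]

/-- Affineness, smoothness and connectedness on a geometric fibre. -/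
theorem bc_props (y : Spec (CommRingCat.of K) ⟶ Spec (CommRingCat.of k)) (G : Over (Spec (CommRingCat.of k)))
    [GrpObj G] [IsAffine G.left] [Smooth G.hom] [ConnectedSpace G.left] :
    IsAffine (Red.bc y G).left ∧ Smooth (Red.bc y G).hom ∧ ConnectedSpace (Red.bc y G).left := by
  refine ⟨inferInstanceAs (IsAffine (pullback G.hom y)), inferInstanceAs (Smooth (pullback.snd G.hom y)), ?_⟩
  obtain ⟨f, rfl⟩ := Spec.map_surjective y
  exact GrpSchLib.AntiAffine.connectedSpace_bc G f.hom

/-- A closed subscheme contains a morphism as soon as it does after a field extension. -/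
theorem exists_lift_of_bc (y : Spec (CommRingCat.of K) ⟶ Spec (CommRingCat.of k))
    {C B G : Over (Spec (CommRingCat.of k))} (iB : B ⟶ G) [IsClosedImmersion iB.left] (c : C ⟶ G)
    (h : ∃ f : Red.bc y C ⟶ Red.bc y B, f ≫ (Over.pullback y).map iB = (Over.pullback y).map c) :
    ∃ f : C ⟶ B, f ≫ iB = c := by
  obtain ⟨f, hf⟩ := h
  let P := pullback c iB
  let p : P ⟶ C := pullback.fst c iB
  haveI : IsClosedImmersion p.left :=
    MorphismProperty.of_isPullback (P := @IsClosedImmersion)
      ((IsPullback.of_hasPullback c iB).map (Over.forget _)).flip ‹IsClosedImmersion iB.left›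
  haveI : Mono p := (Over.forget _).mono_of_mono_map (inferInstanceAs (Mono p.left))
  have sq := (IsPullback.of_hasPullback c iB).map (Over.pullback y)
  haveI : Mono ((Over.pullback y).map p) := inferInstance
  haveI : IsIso ((Over.pullback y).map p) := by
    refine ⟨sq.lift (𝟙 _) f (by rw [Category.id_comp, hf]), ?_, sq.lift_fst _ _ _⟩
    rw [← cancel_mono ((Over.pullback y).map p), Category.assoc, sq.lift_fst, Category.id_comp, Category.comp_id]
  haveI : IsIso p.left :=
    MorphismProperty.of_isPullback_of_descendsAlong (P := MorphismProperty.isomorphisms Scheme)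
      (Q := @Surjective ⊓ @Flat ⊓ @QuasiCompact) (Deform.Extension.isPullback_map_left y p)
      ⟨⟨inferInstance, inferInstance⟩, inferInstance⟩ ((Over.forget _).map_isIso ((Over.pullback y).map p))
  haveI : IsIso ((Over.forget _).map p) := ‹IsIso p.left›
  haveI : IsIso p := isIso_of_reflects_iso p (Over.forget _)
  exact ⟨inv p ≫ pullback.snd c iB, by rw [Category.assoc, ← pullback.condition, IsIso.inv_hom_id_assoc]⟩

end

end Groth.Agent.Deform.Borel
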