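import Groth.Agent.Deform.Borel.CentBorel
import Groth.Agent.Deform.Borel.CentBase
import Groth.Agent.Deform.Borel.FieldFibre

/-!
# Borel subgroups of centralisers of tori, over any field
-/

universe u

open CategoryTheory CategoryTheory.Limits MonoidalCategory CartesianMonoidalCategory MonObj GrpObj AlgebraicGeometry

attribute [local instance] CategoryTheory.Hom.monoid CategoryTheory.Hom.group
set_option linter.style.haveILetI false
set_option linter.unusedSectionVars false

namespace Groth.Agent.Deform.Borel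

open Chev (Pt pimg)

noncomputable section

variable {k : Type u} [Field k]

/-- Being a Borel subgroup is invariant under isomorphism. -/
theorem isBorelOver_of_iso {D D' G : Over (Spec (CommRingCat.of k))} [GrpObj D] [GrpObj D'] [GrpObj G] {d : D ⟶ G}
    [IsMonHom d] {d' : D' ⟶ G} (h' : Red.IsBorelOver k d') (e : D ≅ D') (he : e.hom ≫ d' = d) :
    Red.IsBorelOver k d := by
  obtain ⟨hm, hc, hs, hcn, ⟨n, hn⟩, hmax⟩ := h'
  haveI := hm; haveI := hc; haveI := hs; haveI := hcn
  haveI : IsPreimmersion d'.left := inferInstance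
  haveI : Mono d'.left := @IsPreimmersion.instMonoScheme _ _ _ this
  haveI : Mono d' := (Over.forget _).mono_of_mono_map ‹Mono d'.left›
  haveI : IsMonHom e.hom := Deform.isMonHom_of_comp e.hom d' (i := d) he
  haveI : IsIso e.hom.left := ((Over.forget _).mapIso e).isIso_hom
  refine ⟨inferInstance, ?_, ?_, ?_, ⟨n, fun X => ?_⟩, fun B' _ i' _ f hc' hs' hcn' hsol' hf => ?_⟩
  · rw [← he, Over.comp_left]; infer_instance
  · rw [← Over.w e.hom]; infer_instance
  · haveI : IsIso e.inv.left := ((Over.forget _).mapIso e).isIso_inv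
    exact e.inv.left.surjective.connectedSpace e.inv.left.continuous
  · let φ : (X ⟶ D) →* (X ⟶ D') :=
      { toFun := fun x => x ≫ e.hom
        map_one' := MonObj.one_comp _
        map_mul' := fun a b => MonObj.mul_comp a b _ }
    have hφ : Function.Injective φ := fun a b h => (cancel_mono e.hom).mp h
    refine (Subgroup.map_eq_bot_iff_of_injective _ hφ).mp (le_bot_iff.mp ?_)
    exact (map_derivedSeries_le_derivedSeries φ n).trans (hn X).le
  · haveI := hmax B' i' (e.inv ≫ f) hc' hs' hcn' hsol' (by rw [Category.assoc, hf, Iso.inv_comp_eq, he])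
    haveI : IsIso e.inv := Iso.isIso_inv e
    exact IsIso.of_isIso_comp_left e.inv f

variable [IsAlgClosed k] {G T C : Over (Spec (CommRingCat.of k))} [GrpObj G] [GrpObj T] [GrpObj C]

/-- Points of a centraliser. -/
theorem pts_centralizer [Smooth T.hom] [IsSeparated G.hom] {i : T ⟶ G} {c : C ⟶ G}
    (hc : Red.IsCentralizerOf i c) (g : Pt G) :
    (∃ x : Pt C, x ≫ c = g) ↔ ∀ w : Pt T, g * (w ≫ i) = (w ≫ i) * g := by
  refine ⟨fun ⟨x, hx⟩ w => hx ▸ centralizer_comm hc x w, fun hg => (hc.2.2 (𝟙_ _) g).mpr fun X x h => ?_⟩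
  have key : (toUnit T ≫ g) * i = i * (toUnit T ≫ g) := comp_inj_pt _ _ fun w => by
    rw [MonObj.comp_mul, MonObj.comp_mul, ← Category.assoc, toUnit_unique (w ≫ toUnit T) (𝟙 _), Category.id_comp]
    exact hg w
  have h1 := congrArg (h ≫ ·) key
  simp only [MonObj.comp_mul, ← Category.assoc, comp_toUnit] at h1
  rwa [toUnit_unique x (toUnit X)]

end

noncomputable section

variable {k : Type u} [Field k] {G T B C D : Over (Spec (CommRingCat.of k))}
  [GrpObj G] [GrpObj T] [GrpObj B] [GrpObj C] [GrpObj D]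

/-- The part of a subgroup centralising a torus of it is its centraliser there. -/
theorem isCentralizerOf_inter {iT : T ⟶ G} {iB : B ⟶ G} [IsMonHom iB] [Mono iB] {t : T ⟶ B} (ht : t ≫ iB = iT)
    {c : C ⟶ G} (hc : Red.IsCentralizerOf iT c) {dC : D ⟶ C} [IsMonHom dC] {dB : D ⟶ B}
    (hD : IsPullback dC dB c iB) : Red.IsCentralizerOf t dB := by
  obtain ⟨hcm, hcmo, hcu⟩ := id hc
  haveI := hcm; haveI := hcmo
  haveI : Mono dB := MorphismProperty.of_isPullback (P := MorphismProperty.monomorphisms _) hD hcmo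
  refine ⟨Deform.isMonHom_of_comp dB iB (i := dC ≫ c) hD.w.symm, inferInstance, fun X g => ⟨?_, fun hg => ?_⟩⟩
  · rintro ⟨z, rfl⟩ X' x h
    refine (cancel_mono iB).mp ?_
    simp only [MonObj.mul_comp, Category.assoc, ht, ← hD.w]
    have h1 := ((hcu D (dC ≫ c)).mp ⟨dC, rfl⟩) X' (x ≫ z) h
    simpa only [Category.assoc] using h1
  · obtain ⟨v, hv⟩ := (hcu X (g ≫ iB)).mpr fun X' x h => by
      rw [← ht, ← Category.assoc, ← Category.assoc h, ← MonObj.mul_comp, ← MonObj.mul_comp, hg X' x h]
    exact ⟨hD.lift v g hv, hD.lift_snd _ _ _⟩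

set_option maxHeartbeats 1000000 in
/-- **The part of a Borel subgroup centralising one of its tori is a Borel subgroup of the centraliser.** -/
theorem isBorel_inter [IsAffine G.left] [Smooth G.hom] [ConnectedSpace G.left] {iT : T ⟶ G} [IsMonHom iT]
    (hT : Red.IsTorus T) {iB : B ⟶ G} (hB : Red.IsBorel iB) {t : T ⟶ B} (ht : t ≫ iB = iT)
    {c : C ⟶ G} (hc : Red.IsCentralizerOf iT c) {dC : D ⟶ C} [IsMonHom dC] {dB : D ⟶ B}
    (hD : IsPullback dC dB c iB) : Red.IsBorel dC := by
  obtain ⟨hbm, hbc, hBs, hfib⟩ := hB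
  haveI := hbm; haveI := hbc; haveI := hBs
  haveI : Mono iB := (Over.forget _).mono_of_mono_map (inferInstanceAs (Mono iB.left))
  haveI : IsAffineHom G.hom := isAffineHom_of_isAffine _
  haveI := Agent.GrpSchLib.AntiAffine.isSeparated_grp G
  haveI := Agent.GrpSchLib.AntiAffine.isSeparated_grp B
  haveI : IsMonHom t := Deform.isMonHom_of_comp t iB (i := iT) ht
  have hcd : IsClosedImmersion dC.left :=
    MorphismProperty.of_isPullback (P := @IsClosedImmersion) (hD.map (Over.forget _)).flip hbc
  have hDcent : Red.IsCentralizerOf t dB := isCentralizerOf_inter ht hc hD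
  obtain ⟨hdBc, hDs⟩ := centralizer_smooth hT hDcent
  haveI := hDs
  refine ⟨inferInstance, hcd, hDs, fun s => ?_⟩
  set y := Red.geomPt s
  obtain ⟨hGa, hGs, hGc⟩ := bc_props y G
  haveI := hGa; haveI := hGs; haveI := hGc
  haveI := Agent.GrpSchLib.AntiAffine.isSeparated_grp (Red.bc y G)
  have hTK := Deform.isTorus_bc y hT
  obtain ⟨hTa, hTl, hTs, hTc⟩ := Deform.TorusBasic.props hTK
  haveI := hTs
  have hcK := isCentralizerOf_bc y hc
  obtain ⟨hccK, hCsK⟩ := centralizer_smooth hTK hcK
  haveI := hccK; haveI := hCsK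
  haveI := centralizer_connected (Red.bc y G) hTK hcK
  haveI := hcK.1
  obtain ⟨D', iD', d, dB', hDB, -, -, hdc, hpts⟩ := exists_cent_borel (Red.bc y G) hTK ((Over.pullback y).map iT)
    ((Over.pullback y).map iB) (hfib s) ((Over.pullback y).map t) (by rw [← Functor.map_comp, ht])
    ((Over.pullback y).map c) (pts_centralizer hcK)
  haveI := hDB.1; haveI := hDB.2.1
  haveI : Smooth (Red.bc y D).hom := inferInstanceAs (Smooth (pullback.snd D.hom y))
  haveI : IsReduced (Red.bc y D).left := GrpSchLib.isReduced_of_smooth_field (Red.bc y D).hom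
  have sq := hD.map (Over.pullback y)
  obtain ⟨f, hf⟩ := Chev.exists_lift_range d ((Over.pullback y).map dC)
    (Chev.mem_of_pts _ d.left.isClosedEmbedding.isClosed_range fun z => by
      obtain ⟨w, hw⟩ := hpts (z ≫ (Over.pullback y).map dC)
        ⟨z ≫ (Over.pullback y).map dB, by rw [Category.assoc, Category.assoc, sq.w]⟩
      exact ⟨pimg w, by rw [← pimg_comp, hw]⟩)
  let g := sq.lift d dB' hdc
  haveI : IsMonHom ((Over.pullback y).map dC) := inferInstance
  haveI : Mono ((Over.pullback y).map dC) :=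
    MorphismProperty.of_isPullback (P := MorphismProperty.monomorphisms _) sq.flip
      (inferInstanceAs (Mono ((Over.pullback y).map iB)))
  haveI : Mono d := (Over.forget _).mono_of_mono_map (inferInstanceAs (Mono d.left))
  refine isBorelOver_of_iso hDB ⟨f, g, ?_, ?_⟩ hf
  · rw [← cancel_mono ((Over.pullback y).map dC), Category.assoc, sq.lift_fst, hf, Category.id_comp]
  · rw [← cancel_mono d, Category.assoc, hf, sq.lift_fst, Category.id_comp]

end

end Groth.Agent.Deform.Borel
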