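import Groth.Agent.Deform.Borel.NonAffine
import Groth.Agent.Deform.Borel.CentField
import Groth.Agent.GrpSchLib.HomFlat
import Mathlib.AlgebraicGeometry.Sites.Fpqc

/-!
# A Cartan subgroup of a solvable group is its own normaliser
-/

universe u

open CategoryTheory CategoryTheory.Limits MonoidalCategory CartesianMonoidalCategory MonObj GrpObj AlgebraicGeometry

attribute [local instance] CategoryTheory.Hom.monoid CategoryTheory.Hom.group
set_option linter.style.haveILetI false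
set_option linter.unusedSectionVars false

namespace Groth.Agent.Deform.Borel

open Chev (Pt pimg pimg_comp)
open Agent.GrpSchLib (act_mul act_one)

noncomputable section

variable {k : Type u} [Field k] [IsAlgClosed k]

/-- Factorisation through a monomorphism descends along an fpqc cover. -/
theorem exists_lift_of_cover {P X B C : Over (Spec (CommRingCat.of k))} (e : P ⟶ X) [Flat e.left] [Surjective e.left]
    [QuasiCompact e.left] (x : X ⟶ B) (c : C ⟶ B) [Mono c.left] (u : P ⟶ C) (h : u ≫ c = e ≫ x) :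
    ∃ f : X ⟶ C, f ≫ c = x := by
  have h' : u.left ≫ c.left = e.left ≫ x.left := congrArg (fun m => Over.Hom.left m) h
  let l : X.left ⟶ C.left := EffectiveEpi.desc e.left u.left fun g₁ g₂ he => by
    rw [← cancel_mono c.left, Category.assoc, Category.assoc, h', reassoc_of% he]
  have hl : l ≫ c.left = x.left := by
    rw [← cancel_epi e.left, ← Category.assoc, EffectiveEpi.fac, h']
  exact ⟨Over.homMk l (by rw [← Over.w c, ← Category.assoc, hl, Over.w x]), Over.OverMorphism.ext hl⟩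

set_option maxHeartbeats 1000000 in
/-- **A point of a connected solvable group normalising a torus centralises it.** -/
theorem pt_norm_torus {B T : Over (Spec (CommRingCat.of k))} [GrpObj B] [GrpObj T] [Smooth B.hom]
    [QuasiCompact B.hom] [ConnectedSpace B.left] [Group.IsSolvable (Pt B)] (hT : Red.IsTorus T) (t : T ⟶ B)
    [IsMonHom t] [Mono t] (b : Pt B) (hb : ∀ w : Pt T, ∃ w' : Pt T, w' ≫ t = b * (w ≫ t) * b⁻¹) (w : Pt T) :
    b * (w ≫ t) = (w ≫ t) * b := by
  obtain ⟨N, gN, i, K, gK, κ, hi, hic, hNs, hNc, hNa, hκ, hKs, hKq, hKc, -, hcen, hmul, hlift, -⟩ :=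
    exists_affine_mul_central (G := B)
  haveI := hi; haveI := hic; haveI := hNs; haveI := hNc; haveI := hNa
  haveI : Mono i := (Over.forget _).mono_of_mono_map (inferInstanceAs (Mono i.left))
  haveI : IsAffineHom N.hom := isAffineHom_of_isAffine _
  obtain ⟨hTa, hTl, hTs, hTc⟩ := Deform.TorusBasic.props hT
  haveI := hTa; haveI := hTs; haveI := hTc
  haveI : Group.IsSolvable (Pt N) :=
    Group.isSolvable_of_isSolvable_injective (f := ptsMap i) fun u v h => (cancel_mono i).mp h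
  obtain ⟨tN, htN⟩ := hlift T t
  haveI : IsMonHom tN := Deform.isMonHom_of_comp tN i (i := t) htN
  haveI : Mono (tN ≫ i) := by rw [htN]; infer_instance
  haveI : Mono tN := mono_of_mono tN i
  obtain ⟨n, z, hnz⟩ := hmul b
  obtain ⟨T₀, gT₀, t₀, ⟨ht₀m, ht₀c, hT₀, huniv⟩, π, hπ, -⟩ := exists_levi N
  haveI := ht₀m
  haveI : Mono t₀ := (Over.forget _).mono_of_mono_map (inferInstanceAs (Mono t₀.left))
  obtain ⟨g, φ, hφ, hφt⟩ := huniv T tN hT
  haveI : Mono φ := by
    haveI : Mono (conj g) := IsSplitMono.mono _ (hf := IsSplitMono.mk' ⟨conj g⁻¹, conj_right_inv g⟩)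
    haveI : Mono (φ ≫ t₀) := by rw [hφt, ← comp_conj]; exact mono_comp tN (conj g)
    exact mono_of_mono φ t₀
  have hcomm : ∀ a c : Pt T₀, a * c = c * a := fun a c =>
    Agent.GrpSchLib.MultTypeComm.points_comm (Deform.isMultTypeFT_of_isTorus hT₀) a c
  have hπc : ∀ a c : Pt N, π (a * c * a⁻¹) = π c := fun a c => by
    rw [map_mul, map_mul, map_inv, hcomm (π a), mul_inv_cancel_right]
  have hval : ∀ w : Pt T, π (g * (w ≫ tN) * g⁻¹) = w ≫ φ := fun w => by
    rw [← pt_conj, Category.assoc, comp_conj, ← hφt, ← Category.assoc, hπ]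
  obtain ⟨w', hw'⟩ := hb w
  have hn : w' ≫ tN = n * (w ≫ tN) * n⁻¹ := (cancel_mono i).mp (by
    rw [MonObj.mul_comp, MonObj.mul_comp, GrpObj.inv_comp, Category.assoc w' tN i, htN, Category.assoc w tN i, htN,
      hw', ← hnz, _root_.mul_inv_rev, _root_.mul_assoc (n ≫ i) (z ≫ κ), hcen z (w ≫ t)]
    group)
  have hww : w' = w := (cancel_mono φ).mp (by rw [← hval, ← hval, hn, hπc, hπc, hπc])
  rw [hww] at hw'
  rw [eq_mul_inv_iff_mul_eq] at hw'
  exact hw'.symm

set_option maxHeartbeats 1000000 in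
/-- **A Cartan subgroup of a connected solvable affine group is its own normaliser.** -/
theorem norm_cartan_affine {B T C : Over (Spec (CommRingCat.of k))} [GrpObj B] [GrpObj T] [GrpObj C]
    [IsAffine B.left] [Smooth B.hom] [ConnectedSpace B.left] [Group.IsSolvable (Pt B)] {t : T ⟶ B}
    (hi : AGF.IsMaxTorus t) {c : C ⟶ B} (hc : Red.IsCentralizerOf t c) {Y : Over (Spec (CommRingCat.of k))}
    (n : Y ⟶ B)
    (h₂ : ∀ (X' : Over (Spec (CommRingCat.of k))) (x : X' ⟶ Y) (h : X' ⟶ C),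
      ∃ h' : X' ⟶ C, (x ≫ n)⁻¹ * (h ≫ c) * (x ≫ n) = h' ≫ c) : ∃ f : Y ⟶ C, f ≫ c = n := by
  haveI : IsAffineHom B.hom := isAffineHom_of_isAffine _
  haveI : QuasiCompact B.hom := inferInstance
  haveI := Agent.GrpSchLib.AntiAffine.isSeparated_grp B
  obtain ⟨hcc, hCs, hCc, -, -⟩ := cartan_props hi hc
  obtain ⟨htm, htmo, hT, hmax⟩ := id hi
  haveI := hcc; haveI := hCs; haveI := hCc; haveI := htm; haveI := htmo; haveI := hc.1
  haveI : Mono c := hc.2.1
  haveI : QuasiCompact C.hom := by rw [← Over.w c]; infer_instance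
  obtain ⟨hTa, hTl, hTs, hTc⟩ := Deform.TorusBasic.props hT
  haveI := hTa; haveI := hTs; haveI := hTc
  obtain ⟨X, a, o, hl, hq, hfl, hsu, sq⟩ := Agent.GrpSchLib.HomogeneousQuot.exists_quot B C c
  haveI := hl; haveI := hfl; haveI := hsu
  haveI := smooth_quot a o
  haveI := isSeparated_quot c a o ⟨hl, hfl, hsu, sq⟩
  obtain ⟨F, j, hjc, hFs, hF⟩ := Deform.exists_fixedPoints
    (Deform.isMultType_of_ft (Deform.isMultTypeFT_of_isTorus hT)) (restrictAct a t)
  haveI := hjc; haveI := hFs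
  haveI : Mono j := (Over.forget _).mono_of_mono_map (inferInstanceAs (Mono j.left))
  have hfix : ∀ {X' : Over (Spec (CommRingCat.of k))} (h' : X' ⟶ C), lift (h' ≫ c) (toUnit X' ≫ o) ≫ a.act =
      toUnit X' ≫ o := fun {X'} h' => by
    have hh : (fst B C) ≫ a.orbitMap o = ((B ◁ c) ≫ μ[B]) ≫ a.orbitMap o := sq.w
    have h1 := congrArg (lift (1 : X' ⟶ B) h' ≫ ·) hh
    have e1 : ∀ g : X' ⟶ B, g ≫ a.orbitMap o = lift g (toUnit X' ≫ o) ≫ a.act := fun g => by
      show g ≫ lift (𝟙 B) (toUnit B ≫ o) ≫ a.act = _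
      rw [← Category.assoc, comp_lift, Category.comp_id, ← Category.assoc, comp_toUnit]
    simp only [← Category.assoc, lift_fst, lift_whiskerLeft, ← Hom.mul_def, _root_.one_mul, e1, act_one] at h1
    exact h1.symm
  have he1 : ∀ {X' : Over (Spec (CommRingCat.of k))} (g : X' ⟶ B), g ≫ a.orbitMap o =
      lift g (toUnit X' ≫ o) ≫ a.act := fun {X'} g => by
    show g ≫ lift (𝟙 B) (toUnit B ≫ o) ≫ a.act = _
    rw [← Category.assoc, comp_lift, Category.comp_id, ← Category.assoc, comp_toUnit]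
  obtain ⟨t₀, ht₀⟩ := (hc.2.2 T t).mpr fun X' x h => by
    rw [← MonObj.mul_comp, ← MonObj.mul_comp,
      Agent.GrpSchLib.MultTypeComm.points_comm (Deform.isMultTypeFT_of_isTorus hT) x h]
  haveI : IsMonHom t₀ := Deform.isMonHom_of_comp t₀ c (i := t) ht₀
  obtain ⟨z, hz⟩ := (hF Y (n ≫ a.orbitMap o)).mpr fun Y' y h => by
    obtain ⟨h', hh'⟩ := h₂ Y' y (h ≫ t₀)
    rw [lift_restrictAct, ← Category.assoc y, he1, act_mul,
      show (h ≫ t) * (y ≫ n) = (y ≫ n) * (h' ≫ c) by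
        rw [← hh', Category.assoc h t₀ c, ht₀]; simp only [_root_.mul_assoc, mul_inv_cancel_left],
      ← act_mul, hfix]
  obtain ⟨o', ho'⟩ := (hF (𝟙_ _) o).mpr fun Y' y h => by
    rw [lift_restrictAct, toUnit_unique y (toUnit Y'), ← ht₀, ← Category.assoc h t₀ c]
    exact hfix _
  -- the base point is the only fixed one
  have honly : ∀ v : Pt F, v ≫ j = o := fun v => by
    obtain ⟨b, hb⟩ := exists_pt_over (a.orbitMap o) (v ≫ j)
    rw [pt_orbitMap] at hb
    have hbT : ∀ w : Pt T, ∃ x : Pt C, x ≫ c = b⁻¹ * (w ≫ t) * b := fun w => by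
      refine pt_of_quot sq ?_
      have h1 := (hF _ (v ≫ j)).mp ⟨v, rfl⟩ _ (𝟙 _) w
      rw [lift_restrictAct, Category.id_comp, ← hb] at h1
      rw [← act_mul, ← act_mul, h1, act_mul, inv_mul_cancel, act_one]
    haveI : IsReduced T.left := GrpSchLib.isReduced_of_smooth_field T.hom
    obtain ⟨t₁, ht₁⟩ := Chev.exists_lift_range c (t ≫ conj b⁻¹)
      (Chev.mem_of_pts _ c.left.isClosedEmbedding.isClosed_range fun w => by
        obtain ⟨x, hx⟩ := hbT w
        exact ⟨pimg x, by rw [← pimg_comp, hx, ← Category.assoc, pt_conj, _root_.inv_inv]⟩)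
    haveI : Mono (conj b⁻¹) := IsSplitMono.mono _ (hf := IsSplitMono.mk' ⟨conj b⁻¹⁻¹, conj_right_inv b⁻¹⟩)
    haveI : IsMonHom t₁ := Deform.isMonHom_of_comp t₁ c (i := t ≫ conj b⁻¹) ht₁
    haveI : Mono (t₀ ≫ c) := by rw [ht₀]; infer_instance
    haveI : Mono t₀ := mono_of_mono t₀ c
    haveI : Mono (t₁ ≫ c) := by rw [ht₁]; exact mono_comp t _
    haveI : Mono t₁ := mono_of_mono t₁ c
    have hm₀ : AGF.IsMaxTorus t₀ := ⟨inferInstance, inferInstance, hT, fun T₀ _ j _ _ d hT₀ hd =>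
      hmax T₀ (j ≫ c) d hT₀ (by rw [← Category.assoc, hd, ht₀])⟩
    have hm₁ : AGF.IsMaxTorus t₁ := ⟨inferInstance, inferInstance, hT, fun T₀ _ j _ _ d hT₀ hd => by
      haveI : Mono (conj b) := IsSplitMono.mono _ (hf := IsSplitMono.mk' ⟨conj b⁻¹, conj_right_inv b⟩)
      exact hmax T₀ (j ≫ c ≫ conj b) d hT₀ (by
        rw [← Category.assoc, hd, ← Category.assoc, ht₁, Category.assoc, conj_left_inv, Category.comp_id])⟩
    obtain ⟨x, e, -, he⟩ := conj_of_max t₀ t₁ hm₀ hm₁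
    have key : ∀ w : Pt T, ∃ w' : Pt T, w' ≫ t = b * (w ≫ t) * b⁻¹ := fun w => by
      refine ⟨w ≫ e.hom, ?_⟩
      have h1 : (((w ≫ e.hom) ≫ t₁) ≫ c) = w ≫ t := by
        rw [Category.assoc w e.hom t₁, he, ← comp_conj, ← Category.assoc w t₀, pt_conj, MonObj.mul_comp, MonObj.mul_comp,
          GrpObj.inv_comp, Category.assoc w t₀ c, ht₀, centralizer_comm hc x w, mul_inv_cancel_right]
      rw [Category.assoc _ t₁ c, ht₁, ← Category.assoc, pt_conj, _root_.inv_inv] at h1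
      rw [← h1]
      group
    obtain ⟨b', hb'⟩ := (pts_centralizer hc b).mpr fun w => pt_norm_torus hT t b key w
    rw [← hb, ← hb']
    have h2 := hfix b'
    rwa [toUnit_unique (toUnit _) (𝟙 _), Category.id_comp] at h2
  haveI : IsSeparated F.hom := by rw [← Over.w j]; infer_instance
  have hF1 : toUnit F ≫ o' = 𝟙 F := comp_inj_pt _ _ fun v => by
    rw [← cancel_mono j, Category.comp_id, ← Category.assoc, toUnit_unique (v ≫ toUnit F) (𝟙 _), Category.id_comp,
      ho', honly v]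
  have hno : (1 : Y ⟶ B) ≫ a.orbitMap o = n ≫ a.orbitMap o := by
    rw [← hz, ← Category.comp_id z, ← hF1, ← Category.assoc z, comp_toUnit, Category.assoc, ho', he1, act_one]
  let w := sq.lift (1 : Y ⟶ B) n hno
  refine ⟨w ≫ snd B C, ?_⟩
  have hw : (w ≫ fst B C) * ((w ≫ snd B C) ≫ c) = n := by
    have e : w ≫ (B ◁ c) = lift (w ≫ fst B C) ((w ≫ snd B C) ≫ c) := by
      apply CartesianMonoidalCategory.hom_ext <;> simp
    rw [Hom.mul_def, ← e, Category.assoc, sq.lift_snd]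
  rwa [sq.lift_fst, _root_.one_mul] at hw

set_option maxHeartbeats 2000000 in
/-- **A Cartan subgroup of a connected solvable group is its own normaliser.** -/
theorem norm_cartan {B T C : Over (Spec (CommRingCat.of k))} [GrpObj B] [GrpObj T] [GrpObj C]
    [Smooth B.hom] [QuasiCompact B.hom] [ConnectedSpace B.left] [Group.IsSolvable (Pt B)] {t : T ⟶ B}
    (hi : AGF.IsMaxTorus t) {c : C ⟶ B} (hc : Red.IsCentralizerOf t c) {Y : Over (Spec (CommRingCat.of k))}
    (n : Y ⟶ B)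
    (h₂ : ∀ (X' : Over (Spec (CommRingCat.of k))) (x : X' ⟶ Y) (h : X' ⟶ C),
      ∃ h' : X' ⟶ C, (x ≫ n)⁻¹ * (h ≫ c) * (x ≫ n) = h' ≫ c) : ∃ f : Y ⟶ C, f ≫ c = n := by
  haveI := Agent.GrpSchLib.AntiAffine.isSeparated_grp B
  obtain ⟨htm, htmo, hT, hmax⟩ := id hi
  haveI := htm; haveI := htmo
  obtain ⟨hTa, hTl, hTs, hTc⟩ := Deform.TorusBasic.props hT
  haveI := hTa; haveI := hTs; haveI := hTc
  obtain ⟨N, gN, i, K, gK, κ, hi', hic, hNs, hNc, hNa, hκ, hKs, hKq, hKc, -, hcen, hmul, hlift, -⟩ :=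
    exists_affine_mul_central (G := B)
  haveI := hi'; haveI := hic; haveI := hNs; haveI := hNc; haveI := hNa; haveI := hκ; haveI := hKs; haveI := hKq
  haveI : Mono i := (Over.forget _).mono_of_mono_map (inferInstanceAs (Mono i.left))
  haveI : IsAffineHom N.hom := isAffineHom_of_isAffine _
  haveI : Group.IsSolvable (Pt N) :=
    Group.isSolvable_of_isSolvable_injective (f := ptsMap i) fun u v h => (cancel_mono i).mp h
  obtain ⟨hcc, hCs⟩ := centralizer_smooth hT hc
  haveI := hcc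
  haveI : Mono c := hc.2.1
  obtain ⟨tN, htN⟩ := hlift T t
  haveI : IsMonHom tN := Deform.isMonHom_of_comp tN i (i := t) htN
  haveI : Mono (tN ≫ i) := by rw [htN]; infer_instance
  haveI : Mono tN := mono_of_mono tN i
  have hiN : AGF.IsMaxTorus tN := ⟨inferInstance, inferInstance, hT, fun T' _ j _ _ f hT' hf =>
    hmax T' (j ≫ i) f hT' (by rw [← Category.assoc, hf, htN])⟩
  obtain ⟨CN, gCN, cN, hcN, -, -⟩ :=
    Deform.exists_centralizer (Deform.isMultType_of_ft (Deform.isMultTypeFT_of_isTorus hT)) tN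
  -- the multiplication map is an fpqc cover
  let m : N ⊗ K ⟶ B := (fst N K ≫ i) * (snd N K ≫ κ)
  have hm : ∀ {S : Over (Spec (CommRingCat.of k))} (u : S ⟶ N ⊗ K),
      u ≫ m = ((u ≫ fst N K) ≫ i) * ((u ≫ snd N K) ≫ κ) := fun u => by
    simp only [m, MonObj.comp_mul, Category.assoc]
  haveI : IsMonHom m :=
    { one_hom := by
        rw [MonObj.one_eq_one, MonObj.one_eq_one, hm, MonObj.one_comp, MonObj.one_comp, MonObj.one_comp,
          MonObj.one_comp, _root_.one_mul]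
      mul_hom := by
        have e : μ[N ⊗ K] = fst (N ⊗ K) (N ⊗ K) * snd (N ⊗ K) (N ⊗ K) := by
          rw [Hom.mul_def, lift_fst_snd, Category.id_comp]
        have e' : (m ⊗ₘ m) ≫ μ[B] = (fst _ _ ≫ m) * (snd _ _ ≫ m) := by
          rw [Hom.mul_def]
          congr 1
        rw [e, e', hm, hm, hm, MonObj.mul_comp, MonObj.mul_comp, MonObj.mul_comp, MonObj.mul_comp]
        generalize ((fst (N ⊗ K) (N ⊗ K) ≫ fst N K) ≫ i) = p₁
        generalize ((snd (N ⊗ K) (N ⊗ K) ≫ fst N K) ≫ i) = p₂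
        rw [_root_.mul_assoc p₁, ← _root_.mul_assoc p₂, ← hcen (fst (N ⊗ K) (N ⊗ K) ≫ snd N K) p₂]
        group }
  haveI : LocallyOfFiniteType (N ⊗ K).hom :=
    inferInstanceAs (LocallyOfFiniteType (pullback.fst N.hom K.hom ≫ N.hom))
  haveI : QuasiCompact (N ⊗ K).hom := inferInstanceAs (QuasiCompact (pullback.fst N.hom K.hom ≫ N.hom))
  haveI : Surjective m.left := by
    obtain ⟨I, gI, p₁, j, -, -, hpj, hjc, -, hsu, hIl, -⟩ := Agent.GrpSchLib.ImageFactor.exists_image m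
    haveI := hjc; haveI := hIl
    constructor
    intro z
    obtain ⟨x, hx⟩ := Chev.mem_of_pts (𝟙 B) j.left.isClosedEmbedding.isClosed_range (fun w => by
      obtain ⟨u, v, huv⟩ := hmul w
      refine ⟨pimg (lift u v ≫ p₁), ?_⟩
      rw [← pimg_comp, Category.assoc, hpj, Category.comp_id, hm, lift_fst, lift_snd, huv]) ⟨z, rfl⟩
    obtain ⟨x', rfl⟩ := hsu.surj x
    refine ⟨x', ?_⟩
    rw [← hpj]
    exact hx
  haveI : IsReduced B.left := GrpSchLib.isReduced_of_smooth_field B.hom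
  haveI : QuasiCompact (m.left ≫ B.hom) := by rw [Over.w m]; infer_instance
  haveI : QuasiCompact m.left := QuasiCompact.of_comp m.left B.hom
  haveI : Flat m.left := Agent.GrpSchLib.flat_of_surjective_hom m
  let P : Over (Spec (CommRingCat.of k)) := Over.mk (pullback.fst n.left m.left ≫ Y.hom)
  let e : P ⟶ Y := Over.homMk (pullback.fst n.left m.left) rfl
  let q : P ⟶ N ⊗ K := Over.homMk (pullback.snd n.left m.left) (by
    show pullback.snd _ _ ≫ (N ⊗ K).hom = pullback.fst _ _ ≫ Y.hom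
    rw [← Over.w m, ← Over.w n, ← Category.assoc, ← pullback.condition, Category.assoc])
  have heq : e ≫ n = q ≫ m := Over.OverMorphism.ext pullback.condition
  haveI : Flat e.left := inferInstanceAs (Flat (pullback.fst n.left m.left))
  haveI : Surjective e.left := inferInstanceAs (Surjective (pullback.fst n.left m.left))
  haveI : QuasiCompact e.left := inferInstanceAs (QuasiCompact (pullback.fst n.left m.left))
  obtain ⟨vK, hvK⟩ := (hc.2.2 K κ).mpr fun X' x h => hcen x (h ≫ t)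
  have hCN : ∀ {S : Over (Spec (CommRingCat.of k))} (x : S ⟶ CN), ∃ y : S ⟶ C, y ≫ c = x ≫ cN ≫ i :=
    fun {S} x => (hc.2.2 S (x ≫ cN ≫ i)).mpr fun X' x' h => by
      rw [← htN, ← Category.assoc h, ← Category.assoc x', ← Category.assoc (x' ≫ x), ← MonObj.mul_comp,
        ← MonObj.mul_comp, ((hcN.2.2 CN cN).mp ⟨𝟙 _, Category.id_comp _⟩) X' (x' ≫ x) h]
  obtain ⟨f, hf⟩ := norm_cartan_affine hiN hcN (q ≫ fst N K) fun X' x h => by
    obtain ⟨y, hy⟩ := hCN h
    obtain ⟨h', hh'⟩ := h₂ X' (x ≫ e) y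
    rw [hy, Category.assoc x e n, heq, ← Category.assoc x q m, hm] at hh'
    have e1 : ((x ≫ q ≫ fst N K)⁻¹ * (h ≫ cN) * (x ≫ q ≫ fst N K)) ≫ i = h' ≫ c := by
      rw [← hh', MonObj.mul_comp, MonObj.mul_comp, GrpObj.inv_comp]
      simp only [Category.assoc]
      rw [_root_.mul_inv_rev]
      have hz := hcen (x ≫ q ≫ snd N K) ((x ≫ q ≫ fst N K ≫ i)⁻¹ * (h ≫ cN ≫ i) * (x ≫ q ≫ fst N K ≫ i))
      simp only [Category.assoc] at hz
      calc (x ≫ q ≫ fst N K ≫ i)⁻¹ * (h ≫ cN ≫ i) * (x ≫ q ≫ fst N K ≫ i)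
          = (x ≫ q ≫ snd N K ≫ κ)⁻¹ * ((x ≫ q ≫ snd N K ≫ κ) *
              ((x ≫ q ≫ fst N K ≫ i)⁻¹ * (h ≫ cN ≫ i) * (x ≫ q ≫ fst N K ≫ i))) := by group
        _ = _ := by rw [hz]; group
    obtain ⟨h'', hh''⟩ := (hcN.2.2 X' ((x ≫ q ≫ fst N K)⁻¹ * (h ≫ cN) * (x ≫ q ≫ fst N K))).mpr fun X'' x' w =>
      (cancel_mono i).mp (by
        rw [MonObj.mul_comp, MonObj.mul_comp, Category.assoc x' _ i, e1, Category.assoc w tN i, htN, ← Category.assoc]
        exact centralizer_comm' hc (x' ≫ h') w)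
    exact ⟨h'', hh''.symm⟩
  obtain ⟨y, hy⟩ := hCN f
  haveI : Mono c.left := inferInstance
  haveI := hc.1
  refine exists_lift_of_cover e n c (y * ((q ≫ snd N K) ≫ vK)) ?_
  rw [MonObj.mul_comp, hy, Category.assoc (q ≫ snd N K), hvK, heq, hm, ← Category.assoc f, hf]
where
  centralizer_comm' {T G C X : Over (Spec (CommRingCat.of k))} [GrpObj T] [GrpObj G] [GrpObj C] {t : T ⟶ G}
      {z : C ⟶ G} (hz : Red.IsCentralizerOf t z) (x : X ⟶ C) (h : X ⟶ T) :
      (x ≫ z) * (h ≫ t) = (h ≫ t) * (x ≫ z) :=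
    ((hz.2.2 C z).mp ⟨𝟙 _, Category.id_comp _⟩) X x h

end

end Groth.Agent.Deform.Borel
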