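import Groth.Agent.Deform.Borel.Conj

/-!
# Borel subgroups and proper quotients
-/

universe u

open CategoryTheory CategoryTheory.Limits MonoidalCategory CartesianMonoidalCategory MonObj GrpObj AlgebraicGeometry

attribute [local instance] CategoryTheory.Hom.monoid CategoryTheory.Hom.group
set_option linter.style.haveILetI false
set_option linter.unusedSectionVars false

namespace Groth.Agent.Deform.Borel

open Chev (Pt pimg)
open Agent.GrpSchLib (act_one act_mul comp_orbitMap)

noncomputable section

variable {k : Type u} [Field k] [IsAlgClosed k]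
variable {G : Over (Spec (CommRingCat.of k))} [GrpObj G]

/-- Borel subgroups have closed images, i.e. `G/B` is proper. -/
theorem closedImg_of_isBorelOver [IsAffine G.left] [Smooth G.hom] [ConnectedSpace G.left]
    {B : Over (Spec (CommRingCat.of k))} [GrpObj B] (iB : B ⟶ G) (hB : Red.IsBorelOver k iB) : ClosedImg iB := by
  obtain ⟨H, iH', iH, hH, himg, -⟩ := exists_borel G
  obtain ⟨g, f, -, hf⟩ := borel_conj iH iB hH hB
  exact himg.of_conj g f.hom hf

/-- Closed images pass to larger subgroups. -/
theorem ClosedImg.of_comp {B P : Over (Spec (CommRingCat.of k))} {iP : P ⟶ G} (b : B ⟶ P)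
    (h : ClosedImg (b ≫ iP)) : ClosedImg iP :=
  fun X C hC hst => h X C hC fun T g u x t ht => by
    rw [← Category.assoc]
    exact hst T g (u ≫ b) x t ht

/-- Conjugates of Borel subgroups are Borel subgroups. -/
theorem isBorelOver_conj {B : Over (Spec (CommRingCat.of k))} [GrpObj B] (iB : B ⟶ G)
    (hB : Red.IsBorelOver k iB) (g : Pt G) : Red.IsBorelOver k (iB ≫ conj g) := by
  obtain ⟨hm, hc, hs, hcn, hsol, hmax⟩ := hB
  haveI := hm; haveI := hc
  refine ⟨inferInstance, inferInstanceAs (IsClosedImmersion (iB.left ≫ (conj g).left)), hs, hcn, hsol,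
    fun B' _ i' _ f hic hBs hBc hBsol hf => ?_⟩
  haveI := hic
  exact hmax B' (i' ≫ conj g⁻¹) f (inferInstanceAs (IsClosedImmersion (i'.left ≫ (conj g⁻¹).left))) hBs hBc hBsol
    (by rw [reassoc_of% hf, conj_right_inv, Category.comp_id])

/-- A closed subgroup with proper quotient contains a Borel subgroup. -/
theorem exists_borel_le [IsAffine G.left] [Smooth G.hom] [ConnectedSpace G.left]
    {P X : Over (Spec (CommRingCat.of k))} [GrpObj P] (iP : P ⟶ G) [IsMonHom iP] [IsClosedImmersion iP.left]
    (a : AlgGrp.Action G X) (o : Pt X) (hX : AGF.IsQuotient iP X a o) [IsProper X.hom] :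
    ∃ (B : Over (Spec (CommRingCat.of k))) (_ : GrpObj B) (b : B ⟶ P), IsMonHom b ∧
      Red.IsBorelOver k (b ≫ iP) := by
  obtain ⟨B, iB', iB, hB, -, -⟩ := exists_borel G
  obtain ⟨hm, hc, hs, hcn, hsol, -⟩ := id hB
  haveI := hm; haveI := hc; haveI := hs; haveI := hcn
  haveI : IsAffine B.left := isAffine_of_isAffineHom iB.left
  haveI : Group.IsSolvable (Pt B) := isSolvable_pts_of_grp hsol
  haveI : Nonempty X.left := ⟨o.left (IsLocalRing.closedPoint k)⟩
  obtain ⟨x, hx⟩ := exists_fixedPt B X (restrictAct a iB)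
  obtain ⟨-, -, hsurj, sq⟩ := hX
  haveI := hsurj
  haveI : JacobsonSpace G.left := LocallyOfFiniteType.jacobsonSpace G.hom
  obtain ⟨g, hg⟩ := Chev.exists_pt (G := G) (S := (a.orbitMap o).left ⁻¹' {pimg x})
    (by obtain ⟨z, hz⟩ := (a.orbitMap o).left.surjective (pimg x); exact ⟨z, hz⟩)
    ((((pointEquivClosedPoint X.hom) ⟨x.left, Over.w x⟩).2).preimage
      (a.orbitMap o).left.continuous).isLocallyClosed
  have hgx : lift g o ≫ a.act = x := by rw [← pt_orbitMap]; exact Chev.pimg_injective hg
  have hBg := isBorelOver_conj iB hB g⁻¹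
  haveI : IsClosedImmersion (iB ≫ conj g⁻¹).left := hBg.2.1
  haveI : IsReduced B.left := GrpSchLib.isReduced_of_smooth_field B.hom
  obtain ⟨b, hb⟩ := Chev.exists_lift_range iP (iB ≫ conj g⁻¹)
    (Chev.mem_of_pts (iB ≫ conj g⁻¹) iP.left.isClosedEmbedding.isClosed_range fun t => by
      have hs := hx (𝟙_ _) t
      rw [toUnit_unique (toUnit (𝟙_ _)) (𝟙 _), Category.id_comp, lift_restrictAct, ← hgx, act_mul] at hs
      set c : Pt G := t ≫ iB ≫ conj g⁻¹ with hc'
      have hco : lift c o ≫ a.act = o := by
        rw [hc', ← Category.assoc, pt_conj, _root_.inv_inv, _root_.mul_assoc, ← act_mul, hs, act_mul,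
          inv_mul_cancel, act_one]
      let w := sq.lift (1 : Pt G) c (by rw [pt_orbitMap, pt_orbitMap, act_one, hco])
      have hw : (w ≫ fst G P) * ((w ≫ snd G P) ≫ iP) = c := by
        have e : w ≫ (G ◁ iP) = lift (w ≫ fst G P) ((w ≫ snd G P) ≫ iP) := by
          apply CartesianMonoidalCategory.hom_ext <;> simp
        rw [Hom.mul_def, ← e, Category.assoc, sq.lift_snd]
      rw [sq.lift_fst, _root_.one_mul] at hw
      exact ⟨pimg (w ≫ snd G P), by rw [← pimg_comp, hw]⟩)
  haveI : Mono iP := (Over.forget _).mono_of_mono_map (inferInstanceAs (Mono iP.left))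
  haveI : IsMonHom (b ≫ iP) := by rw [hb]; exact hBg.1
  exact ⟨B, iB', b, Deform.isMonHom_of_comp b iP (i := iB ≫ conj g⁻¹) hb, hb.symm ▸ hBg⟩

/-- A connected solvable subgroup with proper quotient is a Borel subgroup. -/
theorem isBorelOver_of_proper [IsAffine G.left] [Smooth G.hom] [ConnectedSpace G.left]
    {H X : Over (Spec (CommRingCat.of k))} [GrpObj H] (iH : H ⟶ G) [IsMonHom iH] [IsClosedImmersion iH.left]
    [Smooth H.hom] [ConnectedSpace H.left] (hsolv : Red.IsSolvableGrp H) (a : AlgGrp.Action G X) (o : Pt X)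
    (hX : AGF.IsQuotient iH X a o) [IsProper X.hom] : Red.IsBorelOver k iH := by
  obtain ⟨B, iB, b, hb, hB⟩ := exists_borel_le iH a o hX
  haveI := hb
  haveI : IsIso b := hB.2.2.2.2.2 H iH b inferInstance inferInstance inferInstance hsolv rfl
  refine ⟨inferInstance, inferInstance, inferInstance, inferInstance, hsolv, fun B' _ i' _ f hic hBs hBc hBsol hf => ?_⟩
  haveI := hB.2.2.2.2.2 B' i' (b ≫ f) hic hBs hBc hBsol (by rw [Category.assoc, hf])
  exact IsIso.of_isIso_comp_left b f

/-- A parabolic subgroup has closed images. -/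
theorem closedImg_of_isParabolicOver [IsAffine G.left] [Smooth G.hom] [ConnectedSpace G.left]
    {P : Over (Spec (CommRingCat.of k))} [GrpObj P] (iP : P ⟶ G) (hP : Red.IsParabolicOver k iP) : ClosedImg iP := by
  obtain ⟨-, -, -, B, iB, b, hb⟩ := hP
  exact (closedImg_of_isBorelOver (b ≫ iP) hb).of_comp b

/-- A map to an affine variety invariant under a subgroup with closed images is constant. -/
theorem const_of_closedImg [Smooth G.hom] [QuasiCompact G.hom] [ConnectedSpace G.left]
    {H A : Over (Spec (CommRingCat.of k))} {i : H ⟶ G} (hi : ClosedImg i) [IsAffine A.left]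
    [LocallyOfFiniteType A.hom] (ψ : G ⟶ A)
    (hψ : ∀ {T : Over (Spec (CommRingCat.of k))} (g : T ⟶ G) (h : T ⟶ H), (g * (h ≫ i)) ≫ ψ = g ≫ ψ) :
    ψ = toUnit G ≫ (1 : Pt G) ≫ ψ := by
  haveI : IsAffineHom A.hom := isAffineHom_of_isAffine _
  -- the image is closed
  let γ' : G ⟶ G ⊗ A := lift (𝟙 G) ψ
  haveI : IsClosedImmersion γ'.left := by
    haveI : IsClosedImmersion (γ'.left ≫ (fst G A).left) := by
      rw [← Over.comp_left, lift_fst]; exact inferInstanceAs (IsClosedImmersion (𝟙 G.left))
    haveI : IsSeparated (fst G A).left := inferInstanceAs (IsSeparated (pullback.fst G.hom A.hom))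
    exact IsClosedImmersion.of_comp γ'.left (fst G A).left
  have hclosed : IsClosed (Set.range ψ.left) := by
    have e : Set.range ψ.left = (snd G A).left '' Set.range γ'.left := by
      rw [← Set.range_comp]
      refine congrArg Set.range (funext fun z => ?_)
      show ψ.left z = (snd G A).left (γ'.left z)
      rw [← left_comp, lift_snd]
    rw [e]
    refine hi A _ γ'.left.isClosedEmbedding.isClosed_range (stable_of_reduced fun T _ g u x t ht => ?_)
    obtain ⟨T', hT', r, ⟨s⟩, hr⟩ := exists_pointScheme T t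
    haveI := hT'
    obtain ⟨v, hv⟩ := Chev.exists_lift_range γ' (r ≫ lift g x) (by
      rintro _ ⟨s', rfl⟩; rw [left_comp, hr]; exact ht)
    have h1 := congrArg (· ≫ fst G A) hv
    have h2 := congrArg (· ≫ snd G A) hv
    simp only [γ', Category.assoc, lift_fst, lift_snd, Category.comp_id] at h1 h2
    refine ⟨(r ≫ (g * (u ≫ i))).left s, ?_⟩
    have e2 : (r ≫ (g * (u ≫ i))) ≫ γ' = r ≫ lift (g * (u ≫ i)) x := by
      apply CartesianMonoidalCategory.hom_ext
      · simp [γ']
      · simp only [γ', Category.assoc, lift_snd]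
        rw [MonObj.comp_mul_assoc, ← Category.assoc r u, hψ, ← h2, h1, Category.assoc]
    rw [← left_comp, e2, left_comp, hr]
  -- it is a proper affine variety
  let I := Scheme.IdealSheafData.vanishingIdeal (⟨_, hclosed⟩ : TopologicalSpace.Closeds A.left)
  let W : Over (Spec (CommRingCat.of k)) := Over.mk (I.subschemeι ≫ A.hom)
  let w : W ⟶ A := Over.homMk I.subschemeι rfl
  haveI : IsClosedImmersion w.left := inferInstanceAs (IsClosedImmersion I.subschemeι)
  haveI : IsReduced G.left := GrpSchLib.isReduced_of_smooth_field G.hom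
  have hr : Set.range w.left = Set.range ψ.left := H23.RedSub.range_vanishingIdeal ⟨_, hclosed⟩
  obtain ⟨p, hp⟩ := Chev.exists_lift_range w ψ hr.ge
  haveI : Mono w := (Over.forget _).mono_of_mono_map (inferInstanceAs (Mono w.left))
  haveI : Surjective p.left := ⟨fun z => by
    obtain ⟨y, hy⟩ : w.left z ∈ Set.range ψ.left := hr ▸ ⟨z, rfl⟩
    refine ⟨y, w.left.isClosedEmbedding.injective ?_⟩
    rw [← left_comp, hp]; exact hy⟩
  haveI : LocallyOfFiniteType W.hom := inferInstanceAs (LocallyOfFiniteType (I.subschemeι ≫ A.hom))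
  haveI : IsAffineHom W.hom := inferInstanceAs (IsAffineHom (I.subschemeι ≫ A.hom))
  haveI : IsProper W.hom := isProper_of_closedImg hi p fun g u => by
    rw [← cancel_mono w, Category.assoc, Category.assoc, hp, hψ]
  haveI : IsFinite W.hom := IsFinite.iff_isProper_and_isAffineHom.mpr ⟨inferInstance, inferInstance⟩
  haveI : Finite W.left := by
    have h := W.hom.finite_preimage_singleton (IsLocalRing.closedPoint k)
    exact Set.finite_univ_iff.mp (h.subset fun x _ => Subsingleton.elim (α := PrimeSpectrum k) _ _)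
  haveI : JacobsonSpace W.left := LocallyOfFiniteType.jacobsonSpace W.hom
  haveI : DiscreteTopology W.left := inferInstance
  haveI : ConnectedSpace W.left := p.left.surjective.connectedSpace p.left.continuous
  haveI : Subsingleton W.left := PreconnectedSpace.trivial_of_discrete
  refine Chev.SemiAbExt.ext_points _ _ fun g => ?_
  rw [← hp, ← Category.assoc g (toUnit G), toUnit_unique (g ≫ toUnit G) (𝟙 _), Category.id_comp,
    ← Category.assoc g p, ← Category.assoc (1 : Pt G) p]
  congr 1
  exact Chev.pimg_injective (Subsingleton.elim _ _)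

/-- Homomorphisms to affine groups agreeing on a Borel subgroup are equal. -/
theorem hom_eq_of_borel [IsAffine G.left] [Smooth G.hom] [ConnectedSpace G.left]
    {G' B : Over (Spec (CommRingCat.of k))} [GrpObj G'] [GrpObj B] [IsAffine G'.left] [LocallyOfFiniteType G'.hom]
    (iB : B ⟶ G) (hB : Red.IsBorelOver k iB) (φ₁ φ₂ : G ⟶ G') [IsMonHom φ₁] [IsMonHom φ₂]
    (h : iB ≫ φ₁ = iB ≫ φ₂) : φ₁ = φ₂ := by
  haveI : QuasiCompact G.hom := (quasiCompact_iff_compactSpace _).mpr inferInstance
  have key := const_of_closedImg (closedImg_of_isBorelOver iB hB) (φ₁ * φ₂⁻¹) fun g u => by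
    simp only [MonObj.comp_mul, GrpObj.comp_inv, MonObj.mul_comp, Category.assoc, h]
    group
  simp only [MonObj.comp_mul, GrpObj.comp_inv, MonObj.one_comp, inv_one, _root_.mul_one, MonObj.comp_one] at key
  exact mul_inv_eq_one.mp key

end

end Groth.Agent.Deform.Borel
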