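import Groth.Agent.Deform.Borel.CentTorus
import Groth.Agent.Deform.Borel.GB

/-!
# Borel subgroups of centralisers of tori
-/

universe u

open CategoryTheory CategoryTheory.Limits MonoidalCategory CartesianMonoidalCategory MonObj GrpObj AlgebraicGeometry
open scoped commutatorElement

attribute [local instance] CategoryTheory.Hom.monoid CategoryTheory.Hom.group
set_option linter.style.haveILetI false
set_option linter.unusedSectionVars false

namespace Groth.Agent.Deform.Borel

open Chev (Pt pimg)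
open Agent.GrpSchLib (act_mul act_one)

noncomputable section

variable {k : Type u} [Field k] [IsAlgClosed k]

set_option maxHeartbeats 2000000 in
/-- **The part of a Borel subgroup centralising one of its tori is a Borel subgroup of the centraliser.** -/
theorem exists_cent_borel (G : Over (Spec (CommRingCat.of k))) [GrpObj G] [IsAffine G.left] [Smooth G.hom]
    [ConnectedSpace G.left] {T : Over (Spec (CommRingCat.of k))} [GrpObj T] (hT : Red.IsTorus T) (i : T ⟶ G)
    [IsMonHom i] {B : Over (Spec (CommRingCat.of k))} [GrpObj B] (iB : B ⟶ G) (hB : Red.IsBorelOver k iB)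
    (t : T ⟶ B) (ht : t ≫ iB = i) {J : Over (Spec (CommRingCat.of k))} [GrpObj J] (c : J ⟶ G) [IsMonHom c]
    [IsClosedImmersion c.left] [Smooth J.hom] [ConnectedSpace J.left]
    (hJ : ∀ g : Pt G, (∃ x : Pt J, x ≫ c = g) ↔ ∀ w : Pt T, g * (w ≫ i) = (w ≫ i) * g) :
    ∃ (D : Over (Spec (CommRingCat.of k))) (_ : GrpObj D) (d : D ⟶ J) (dB : D ⟶ B), Red.IsBorelOver k d ∧
      IsMonHom dB ∧ IsClosedImmersion dB.left ∧ d ≫ c = dB ≫ iB ∧
      ∀ x : Pt J, (∃ b : Pt B, b ≫ iB = x ≫ c) → ∃ z : Pt D, z ≫ d = x := by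
  haveI : IsAffineHom G.hom := isAffineHom_of_isAffine _
  haveI : QuasiCompact G.hom := inferInstance
  haveI := Agent.GrpSchLib.AntiAffine.isSeparated_grp G
  obtain ⟨hbm, hbc, hBs, hBcn, hBsol, -⟩ := id hB
  haveI := hbm; haveI := hbc; haveI := hBs; haveI := hBcn
  haveI : IsAffine B.left := isAffine_of_isAffineHom iB.left
  haveI : IsAffineHom B.hom := isAffineHom_of_isAffine _
  haveI : Group.IsSolvable (Pt B) := isSolvable_pts_of_grp hBsol
  haveI : Mono iB := (Over.forget _).mono_of_mono_map (inferInstanceAs (Mono iB.left))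
  haveI : IsAffine J.left := isAffine_of_isAffineHom c.left
  haveI : IsAffineHom J.hom := isAffineHom_of_isAffine _
  haveI : Mono c := (Over.forget _).mono_of_mono_map (inferInstanceAs (Mono c.left))
  haveI : IsMonHom t := Deform.isMonHom_of_comp t iB (i := i) ht
  obtain ⟨N, w₀, hN, hw₀, hreg⟩ := exists_regular G hT i
  set s := w₀ ≫ t with hs_def
  have hsiB : s ≫ iB = w₀ ≫ i := by rw [hs_def, Category.assoc, ht]
  have hsN : s ^ N = 1 := by
    rw [show s ^ N = (w₀ ^ N) ≫ t from (map_pow (ptsMap t) w₀ N).symm, hw₀, MonObj.one_comp]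
  obtain ⟨D, iD, dB, hdm, hdc, hDs, hDc, hDcomm, hDall, K, hKcl, hKder, hsplit⟩ :=
    exists_connected_centralizer B s N hN hsN
  haveI := hdm; haveI := hdc; haveI := hDs; haveI := hDc
  haveI : IsReduced D.left := GrpSchLib.isReduced_of_smooth_field D.hom
  have hreg' : ∀ g : Pt G, g * (s ≫ iB) = (s ≫ iB) * g → ∃ x : Pt J, x ≫ c = g := fun g hg =>
    (hJ g).mpr fun w => hreg g (by rwa [hsiB] at hg) w
  obtain ⟨d, hd⟩ := Chev.exists_lift_range c (dB ≫ iB) (Chev.mem_of_pts _ c.left.isClosedEmbedding.isClosed_range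
    fun z => by
      obtain ⟨x, hx⟩ := hreg' (z ≫ dB ≫ iB) (by rw [← Category.assoc, ← MonObj.mul_comp, ← MonObj.mul_comp, hDcomm])
      exact ⟨pimg x, by rw [← pimg_comp, hx]⟩)
  haveI : IsMonHom d := Deform.isMonHom_of_comp d c (i := dB ≫ iB) hd
  haveI : IsClosedImmersion (d.left ≫ c.left) := by
    rw [← Over.comp_left, hd]; exact inferInstanceAs (IsClosedImmersion (dB.left ≫ iB.left))
  haveI : IsClosedImmersion d.left := IsClosedImmersion.of_comp d.left c.left
  haveI : Mono d := (Over.forget _).mono_of_mono_map (inferInstanceAs (Mono d.left))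
  haveI : Mono dB := (Over.forget _).mono_of_mono_map (inferInstanceAs (Mono dB.left))
  have hpts : ∀ x : Pt J, (∃ b : Pt B, b ≫ iB = x ≫ c) → ∃ z : Pt D, z ≫ d = x := by
    rintro x ⟨b, hb⟩
    obtain ⟨z, hz⟩ := hDall b ((cancel_mono iB).mp (by
      rw [MonObj.mul_comp, MonObj.mul_comp, hb, hsiB]
      exact (hJ _).mp ⟨x, rfl⟩ w₀))
    exact ⟨z, (cancel_mono c).mp (by rw [Category.assoc, hd, ← Category.assoc, hz, hb])⟩
  -- the orbit of the centraliser on `G/B`
  have himg := closedImg_of_isBorelOver iB hB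
  haveI : QuasiCompact B.hom := inferInstance
  obtain ⟨X, a, o, hl, -, hfl, hsu, sq⟩ := Agent.GrpSchLib.HomogeneousQuot.exists_quot G B iB
  haveI := isProper_quot iB himg a o ⟨hl, hfl, hsu, sq⟩
  haveI := hl; haveI := hfl; haveI := hsu
  set p := a.orbitMap o with hp
  haveI : IsLocallyNoetherian X.left := LocallyOfFiniteType.isLocallyNoetherian X.hom
  haveI : LocallyOfFiniteType (p.left ≫ X.hom) := by rw [Over.w p]; infer_instance
  haveI : LocallyOfFiniteType p.left := locallyOfFiniteType_of_comp p.left X.hom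
  haveI : LocallyOfFinitePresentation p.left := inferInstance
  have hopen : IsOpenMap p.left := p.left.isOpenMap
  have hfix : ∀ b : Pt B, lift (b ≫ iB) o ≫ a.act = o := fun b => by
    have h := mul_comp_orbitMap sq (1 : Pt G) b
    rw [_root_.one_mul, pt_orbitMap, pt_orbitMap, act_one] at h
    exact h
  let aJ := restrictAct a c
  have horb : ∀ x : Pt J, x ≫ aJ.orbitMap o = (x ≫ c) ≫ p := fun x => by
    rw [pt_orbitMap, lift_restrictAct, hp, pt_orbitMap]
  -- a closed set containing the preimage of the orbit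
  let φ : G ⟶ G := (𝟙 G)⁻¹ * (toUnit G ≫ (s ≫ iB)) * 𝟙 G * (toUnit G ≫ (s ≫ iB))⁻¹
  have hφ : ∀ y : Pt G, y ≫ φ = y⁻¹ * (s ≫ iB) * y * (s ≫ iB)⁻¹ := fun y => by
    simp only [φ, MonObj.comp_mul, GrpObj.comp_inv, Category.comp_id, pt_const]
  let Z : Set G.left := φ.left ⁻¹' (iB.left '' closure (pimg '' (K : Set (Pt B))))
  have hZ : IsClosed Z :=
    (iB.left.isClosedEmbedding.isClosedMap _ isClosed_closure).preimage φ.left.continuous
  have hZpts : ∀ y : Pt G, pimg y ∈ Z → ∃ (x : Pt J) (b : Pt B), (x ≫ c) * (b ≫ iB) = y := by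
    rintro y ⟨z, hz, hzy⟩
    rw [← pimg_comp, hφ] at hzy
    obtain ⟨b, hb⟩ := exists_lift_pt iB (p := y⁻¹ * (s ≫ iB) * y * (s ≫ iB)⁻¹) ⟨z, hzy⟩
    have hbK : b ∈ K := hKcl (show pimg b ∈ closure (pimg '' (K : Set (Pt B))) from by
      have hzb : pimg b = z := iB.left.isClosedEmbedding.injective (by rw [hzy, ← hb]; rfl)
      rw [hzb]; exact hz)
    have e : (b * s) ≫ iB = y⁻¹ * (s ≫ iB) * y := by rw [MonObj.mul_comp, hb]; group
    have hbs : (b * s) ^ N = 1 := (cancel_mono iB).mp (by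
      rw [show ((b * s) ^ N) ≫ iB = ((b * s) ≫ iB) ^ N from map_pow (ptsMap iB) _ N, e, MonObj.one_comp]
      have h2 : (y⁻¹ * (s ≫ iB) * y⁻¹⁻¹) ^ N = y⁻¹ * (s ≫ iB) ^ N * y⁻¹⁻¹ := conj_pow
      rw [_root_.inv_inv, show (s ≫ iB) ^ N = (s ^ N) ≫ iB from (map_pow (ptsMap iB) s N).symm, hsN,
        MonObj.one_comp, _root_.mul_one, inv_mul_cancel] at h2
      exact h2)
    obtain ⟨v, hv⟩ := hsplit b hbK hbs
    have e2 : (v ≫ iB) * (s ≫ iB) * (v ≫ iB)⁻¹ = y⁻¹ * (s ≫ iB) * y := by
      rw [← e, ← hv, MonObj.mul_comp, MonObj.mul_comp, GrpObj.inv_comp]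
    obtain ⟨x, hx⟩ := hreg' (y * (v ≫ iB)) (by
      calc y * (v ≫ iB) * (s ≫ iB) = y * ((v ≫ iB) * (s ≫ iB) * (v ≫ iB)⁻¹) * (v ≫ iB) := by group
        _ = _ := by rw [e2]; group)
    exact ⟨x, v⁻¹, by rw [hx, GrpObj.inv_comp, mul_inv_cancel_right]⟩
  have hJBZ : ∀ (x : Pt J) (b : Pt B), pimg ((x ≫ c) * (b ≫ iB)) ∈ Z := fun x b => by
    refine ⟨pimg ⁅b⁻¹, s⁆, subset_closure ⟨_, hKder ?_, rfl⟩, ?_⟩
    · rw [derivedSeries_succ, derivedSeries_zero]
      exact Subgroup.commutator_mem_commutator (Subgroup.mem_top _) (Subgroup.mem_top _)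
    · rw [← pimg_comp, ← pimg_comp, hφ]
      congr 1
      have hc' : (x ≫ c)⁻¹ * (s ≫ iB) * (x ≫ c) = s ≫ iB := by
        rw [hsiB, _root_.mul_assoc, ← (hJ _).mp ⟨x, rfl⟩ w₀, inv_mul_cancel_left]
      simp only [commutatorElement_def, MonObj.mul_comp, GrpObj.inv_comp, _root_.inv_inv, _root_.mul_inv_rev]
      calc (b ≫ iB)⁻¹ * (s ≫ iB) * (b ≫ iB) * (s ≫ iB)⁻¹ =
          (b ≫ iB)⁻¹ * ((x ≫ c)⁻¹ * (s ≫ iB) * (x ≫ c)) * (b ≫ iB) * (s ≫ iB)⁻¹ := by rw [hc']
        _ = _ := by simp only [_root_.mul_assoc]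
  haveI : JacobsonSpace G.left := LocallyOfFiniteType.jacobsonSpace G.hom
  haveI : JacobsonSpace J.left := LocallyOfFiniteType.jacobsonSpace J.hom
  haveI : JacobsonSpace X.left := LocallyOfFiniteType.jacobsonSpace X.hom
  have hcl : IsClosed (Set.range (aJ.orbitMap o).left) := by
    let P : Set X.left := Set.range fun x : Pt J => pimg ((x ≫ c) ≫ p)
    have hsub : Set.range (aJ.orbitMap o).left ⊆ closure P := by
      rw [← Set.image_univ, ← closure_closedPoints (X := J.left)]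
      refine (image_closure_subset_closure_image (aJ.orbitMap o).left.continuous).trans (closure_mono ?_)
      rintro _ ⟨z, hz, rfl⟩
      obtain ⟨x, rfl⟩ := Chev.exists_pimg_eq hz
      exact ⟨x, by rw [← pimg_comp, horb]⟩
    have hpre : p.left ⁻¹' P ⊆ Z := by
      rintro z ⟨x, hx⟩
      have hclosed : IsClosed (p.left ⁻¹' {pimg ((x ≫ c) ≫ p)}) :=
        ((pointEquivClosedPoint X.hom) ⟨((x ≫ c) ≫ p).left, Over.w _⟩).2.preimage p.left.continuous
      have hz : z ∈ p.left ⁻¹' {pimg ((x ≫ c) ≫ p)} := hx.symm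
      rw [← closure_inter_closedPoints hclosed] at hz
      refine closure_minimal ?_ hZ hz
      rintro u ⟨hu, huc⟩
      obtain ⟨y, rfl⟩ := Chev.exists_pimg_eq huc
      have hy : y ≫ p = (x ≫ c) ≫ p := Chev.pimg_injective hu
      obtain ⟨b, hb⟩ := pt_of_quot sq (c := (x ≫ c)⁻¹ * y) (by
        rw [pt_orbitMap, pt_orbitMap] at hy
        rw [← act_mul, hy, act_mul, inv_mul_cancel, act_one])
      rw [show y = (x ≫ c) * (b ≫ iB) by rw [hb, mul_inv_cancel_left]]
      exact hJBZ x b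
    refine closure_subset_iff_isClosed.mp ?_
    have hRcl : closure (Set.range (aJ.orbitMap o).left) ⊆ closure P := closure_minimal hsub isClosed_closure
    haveI : LocallyOfFiniteType ((aJ.orbitMap o).left ≫ X.hom) := by rw [Over.w]; infer_instance
    haveI : LocallyOfFiniteType (aJ.orbitMap o).left := locallyOfFiniteType_of_comp _ X.hom
    haveI : CompactSpace X.left := p.left.surjective.compactSpace p.left.continuous
    haveI : QuasiCompact (aJ.orbitMap o).left := inferInstance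
    have hcons : Topology.IsConstructible (Set.range (aJ.orbitMap o).left) := by
      rw [← Set.image_univ]
      exact (aJ.orbitMap o).left.isConstructible_image Topology.IsConstructible.univ
    intro z hz
    by_contra hzR
    obtain ⟨q, hqc, hqR, hqP⟩ := exists_closed_point_diff hcons hsub ⟨z, hRcl hz, hzR⟩
    obtain ⟨r, rfl⟩ := Chev.exists_pimg_eq hqc
    obtain ⟨y, hy⟩ := exists_pt_over p r
    have hyZ : pimg y ∈ Z := by
      refine closure_minimal hpre hZ ((hopen.preimage_closure_eq_closure_preimage p.left.continuous P).subset ?_)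
      show p.left (pimg y) ∈ closure P
      rw [← pimg_comp, hy]; exact hqP
    obtain ⟨x, b, rfl⟩ := hZpts y hyZ
    refine hqR ⟨pimg x, ?_⟩
    rw [← pimg_comp, horb, ← hy, hp]
    exact congrArg pimg (mul_comp_orbitMap sq _ b).symm
  have hrange : Set.range d.left = (aJ.orbitMap o).left ⁻¹' {pimg o} := by
    have hclosed : IsClosed ((aJ.orbitMap o).left ⁻¹' {pimg o}) :=
      ((pointEquivClosedPoint X.hom) ⟨o.left, Over.w o⟩).2.preimage (aJ.orbitMap o).left.continuous
    refine Set.Subset.antisymm (Chev.mem_of_pts d hclosed fun z => ?_) ?_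
    · show (aJ.orbitMap o).left (pimg (z ≫ d)) = pimg o
      rw [← pimg_comp, horb, Category.assoc z d c, hd, ← Category.assoc, hp, pt_orbitMap, hfix]
    · rw [← closure_inter_closedPoints hclosed]
      refine closure_minimal ?_ d.left.isClosedEmbedding.isClosed_range
      rintro u ⟨hu, huc⟩
      obtain ⟨x, rfl⟩ := Chev.exists_pimg_eq huc
      have hx : (x ≫ c) ≫ p = o := by rw [← horb]; exact Chev.pimg_injective hu
      obtain ⟨b, hb⟩ := pt_of_quot sq (c := x ≫ c) (by rw [← pt_orbitMap, ← hp, hx])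
      obtain ⟨z, hz⟩ := hpts x ⟨b, hb⟩
      exact ⟨pimg z, by rw [← pimg_comp, hz]⟩
  haveI : IsAffineHom D.hom := by
    haveI : IsAffine D.left := isAffine_of_isAffineHom dB.left
    exact isAffineHom_of_isAffine _
  have himgD : ClosedImg d := closedImg_stabilizer aJ o hcl d hrange
  haveI : Group.IsSolvable (Pt D) := Group.isSolvable_of_isSolvable_injective (f := ptsMap dB)
    fun u v h => (cancel_mono dB).mp h
  obtain ⟨X', a', o', hl', -, hfl', hsu', sq'⟩ := Agent.GrpSchLib.HomogeneousQuot.exists_quot J D d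
  haveI := isProper_quot d himgD a' o' ⟨hl', hfl', hsu', sq'⟩
  exact ⟨D, iD, d, dB, isBorelOver_of_proper d (isSolvableGrp_of_pts D) a' o' ⟨hl', hfl', hsu', sq'⟩, hdm, hdc, hd,
    hpts⟩
where
  exists_closed_point_diff {X : Over (Spec (CommRingCat.of k))} [LocallyOfFiniteType X.hom] {R P : Set X.left}
      (hR : Topology.IsConstructible R) (_ : R ⊆ closure P) (h : (closure P \ R).Nonempty) :
      ∃ q, IsClosed ({q} : Set X.left) ∧ q ∉ R ∧ q ∈ closure P := by
    haveI : JacobsonSpace X.left := LocallyOfFiniteType.jacobsonSpace X.hom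
    obtain ⟨q, hq, hqc⟩ := nonempty_inter_closedPoints' (isClosed_closure.isLocallyClosed) hR h
    exact ⟨q, hqc, hq.2, hq.1⟩
  nonempty_inter_closedPoints' {Y : Type u} [TopologicalSpace Y] [JacobsonSpace Y] {A R : Set Y}
      (hA : IsLocallyClosed A) (hR : Topology.IsConstructible R) (h : (A \ R).Nonempty) :
      ((A \ R) ∩ closedPoints Y).Nonempty := by
    have key : (∀ x ∈ R, ∃ L, IsLocallyClosed L ∧ x ∈ L ∧ L ⊆ R) ∧ ∀ x ∈ Rᶜ, ∃ L, IsLocallyClosed L ∧ x ∈ L ∧ L ⊆ Rᶜ := by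
      clear h
      induction hR using Topology.IsConstructible.empty_union_induction with
      | open_retrocompact U hU hc =>
        exact ⟨fun x hx => ⟨U, hU.isLocallyClosed, hx, subset_rfl⟩,
          fun x hx => ⟨Uᶜ, hU.isClosed_compl.isLocallyClosed, hx, subset_rfl⟩⟩
      | union s hs t ht hs' ht' =>
        refine ⟨?_, fun x hx => ?_⟩
        · rintro x (hx | hx)
          · obtain ⟨L, h1, h2, h3⟩ := hs'.1 x hx
            exact ⟨L, h1, h2, h3.trans Set.subset_union_left⟩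
          · obtain ⟨L, h1, h2, h3⟩ := ht'.1 x hx
            exact ⟨L, h1, h2, h3.trans Set.subset_union_right⟩
        · rw [Set.compl_union] at hx ⊢
          obtain ⟨L, h1, h2, h3⟩ := hs'.2 x hx.1
          obtain ⟨M, h4, h5, h6⟩ := ht'.2 x hx.2
          exact ⟨L ∩ M, h1.inter h4, ⟨h2, h5⟩, Set.inter_subset_inter h3 h6⟩
      | compl s hs hs' => exact ⟨hs'.2, by rw [compl_compl]; exact hs'.1⟩
    obtain ⟨x, hxA, hxR⟩ := h
    obtain ⟨L, hL, hxL, hLR⟩ := key.2 x hxR
    obtain ⟨q, hq, hqc⟩ := nonempty_inter_closedPoints (Z := A ∩ L) ⟨x, hxA, hxL⟩ (hA.inter hL)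
    exact ⟨q, ⟨hq.1, hLR hq.2⟩, hqc⟩

end

end Groth.Agent.Deform.Borel
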