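import Groth.Agent.Deform.Borel.Cartan

/-!
# A group is the union of the conjugates of a Borel subgroup
-/

universe u

open CategoryTheory CategoryTheory.Limits MonoidalCategory CartesianMonoidalCategory MonObj GrpObj AlgebraicGeometry

attribute [local instance] CategoryTheory.Hom.monoid CategoryTheory.Hom.group
set_option linter.style.haveILetI false
set_option linter.unusedSectionVars false

namespace Groth.Agent.Deform.Borel

open Chev (Pt pimg)

noncomputable section

variable {k : Type u} [Field k] [IsAlgClosed k]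

set_option maxHeartbeats 1000000 in
/-- **Every point is conjugate into a given Borel subgroup.** -/
theorem exists_conj_mem (G : Over (Spec (CommRingCat.of k))) [GrpObj G] [IsAffine G.left] [Smooth G.hom]
    [ConnectedSpace G.left] {B : Over (Spec (CommRingCat.of k))} [GrpObj B] (iB : B ⟶ G)
    (hB : Red.IsBorelOver k iB) (g : Pt G) : ∃ (x : Pt G) (b : Pt B), x * (b ≫ iB) * x⁻¹ = g := by
  haveI : IsAffineHom G.hom := isAffineHom_of_isAffine _
  haveI : QuasiCompact G.hom := inferInstance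
  haveI := Agent.GrpSchLib.AntiAffine.isSeparated_grp G
  have himg := closedImg_of_isBorelOver iB hB
  obtain ⟨hm, hc, hBs, hBc, -, -⟩ := id hB
  haveI := hm; haveI := hc; haveI := hBs; haveI := hBc
  obtain ⟨H, iH', iH, hH, -, huH⟩ := exists_borel G
  obtain ⟨g₁, e, -, he⟩ := borel_conj iH iB hH hB
  obtain ⟨T, iT, i, hi⟩ := exists_univTorus G
  obtain ⟨him, hic, hT, -⟩ := id hi
  haveI := him; haveI := hic
  haveI : Mono i := (Over.forget _).mono_of_mono_map (inferInstanceAs (Mono i.left))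
  have hmax : AGF.IsMaxTorus i := ⟨him, inferInstance, hT, fun T' _ j _ _ f h1 h2 => hi.maximal T' j f h1 h2⟩
  obtain ⟨C, iC, c, t₀, hcm, hcc, hCa, hCs, hCc, ht₀m, ht₀, hcen, hfin, hnil, π, hπ, hπtor⟩ :=
    exists_cartan G i hmax
  haveI := hcm; haveI := hcc; haveI := hCa; haveI := hCs; haveI := hCc; haveI := ht₀m; haveI := hnil
  haveI : IsAffineHom C.hom := isAffineHom_of_isAffine _
  haveI : Group.IsSolvable (Pt C) := inferInstance
  obtain ⟨g₀, f, -, hf⟩ := huH C c
  set Φ : G ⊗ C ⟶ G := fst G C * (snd G C ≫ c) * (fst G C)⁻¹ with hΦ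
  have hdense : DenseRange Φ.left := denseRange_conj G i hmax c t₀ ht₀ hcen hfin π hπ hπtor
  -- the closed set of pairs
  let Ψ : G ⊗ G ⟶ G := (fst G G)⁻¹ * snd G G * fst G G
  have hΨ : ∀ {T : Over (Spec (CommRingCat.of k))} (a x : T ⟶ G), lift a x ≫ Ψ = a⁻¹ * x * a := fun a x => by
    simp only [Ψ, MonObj.comp_mul, GrpObj.comp_inv, lift_fst, lift_snd]
  let K : Set (G ⊗ G).left := Ψ.left ⁻¹' Set.range iB.left
  have hK : IsClosed K := iB.left.isClosedEmbedding.isClosed_range.preimage Ψ.left.continuous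
  have hst : Stable iB K := stable_of_reduced fun T _ a u x t ht => by
    obtain ⟨T', hT', r, ⟨s⟩, hr⟩ := exists_pointScheme T t
    haveI := hT'
    obtain ⟨v, hv⟩ := Chev.exists_lift_range iB ((r ≫ lift a x) ≫ Ψ) (by
      rintro _ ⟨s', rfl⟩
      rw [left_comp, left_comp, hr]; exact ht)
    refine ⟨((r ≫ u)⁻¹ * v * (r ≫ u)).left s, ?_⟩
    have e : ((r ≫ u)⁻¹ * v * (r ≫ u)) ≫ iB = (r ≫ lift (a * (u ≫ iB)) x) ≫ Ψ := by
      rw [MonObj.mul_comp, MonObj.mul_comp, GrpObj.inv_comp, hv, comp_lift, comp_lift, hΨ, hΨ, MonObj.comp_mul,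
        Category.assoc, _root_.mul_inv_rev]
      simp only [_root_.mul_assoc]
    rw [← left_comp, e, left_comp, left_comp, hr]
  have hE := himg G K hK hst
  have hall : (snd G G).left '' K = Set.univ := by
    haveI : Smooth (G ⊗ C).hom := inferInstanceAs (Smooth (pullback.fst G.hom C.hom ≫ G.hom))
    haveI : JacobsonSpace (G ⊗ C).left := LocallyOfFiniteType.jacobsonSpace (G ⊗ C).hom
    have h1 : Φ.left ⁻¹' ((snd G G).left '' K) = Set.univ := by
      refine Set.univ_subset_iff.mp ?_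
      rw [← closure_closedPoints (X := (G ⊗ C).left)]
      refine closure_minimal (fun z hz => ?_) (hE.preimage Φ.left.continuous)
      obtain ⟨q, rfl⟩ := Chev.exists_pimg_eq hz
      set a := q ≫ fst G C
      set y := q ≫ snd G C
      have hfB : f ≫ e.hom ≫ iB = c ≫ conj (g₁ * g₀) := by
        rw [he, ← comp_conj, reassoc_of% hf, ← comp_conj, Category.assoc, conj_mul]
      refine ⟨pimg (lift (a * (g₁ * g₀)⁻¹) (a * (y ≫ c) * a⁻¹)), ⟨pimg (y ≫ f ≫ e.hom), ?_⟩, ?_⟩
      · rw [← pimg_comp, ← pimg_comp, hΨ]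
        congr 1
        simp only [y, Category.assoc]
        rw [hfB, ← Category.assoc, ← Category.assoc, pt_conj, Category.assoc]
        group
      · rw [← pimg_comp, ← pimg_comp, lift_snd]
        congr 1
        simp only [hΦ, MonObj.comp_mul, GrpObj.comp_inv, ← Category.assoc, a, y]
    refine Set.univ_subset_iff.mp ?_
    rw [← hdense.closure_range]
    exact closure_minimal (Set.range_subset_iff.mpr fun z => (Set.eq_univ_iff_forall.mp h1 z)) hE
  obtain ⟨z, hzK, hz⟩ := (Set.eq_univ_iff_forall.mp hall (pimg g) : pimg g ∈ _)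
  haveI : Smooth (G ⊗ G).hom := inferInstanceAs (Smooth (pullback.fst G.hom G.hom ≫ G.hom))
  obtain ⟨q, hqK, hq⟩ := Chev.exists_pt (G := G ⊗ G) (S := K ∩ (snd G G).left ⁻¹' {pimg g}) ⟨z, hzK, hz⟩
    (hK.inter (((pointEquivClosedPoint G.hom) ⟨g.left, Over.w g⟩).2.preimage (snd G G).left.continuous)).isLocallyClosed
  change (snd G G).left (pimg q) = pimg g at hq
  change Ψ.left (pimg q) ∈ Set.range iB.left at hqK
  rw [← pimg_comp] at hq hqK
  obtain ⟨b, hb⟩ := exists_lift_pt iB hqK
  refine ⟨q ≫ fst G G, b, ?_⟩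
  have hq' : q ≫ snd G G = g := Chev.pimg_injective hq
  rw [hb, show q ≫ Ψ = (q ≫ fst G G)⁻¹ * g * (q ≫ fst G G) by
    rw [← hq']; simp only [Ψ, MonObj.comp_mul, GrpObj.comp_inv]]
  group

end

end Groth.Agent.Deform.Borel
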