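import Groth.Agent.Deform.Borel.SolvCent
import Groth.Agent.Deform.Borel.Union
import Groth.Agent.GrpSchLib.HomogeneousQuot

/-!
# Centralisers of tori are connected
-/

universe u

open CategoryTheory CategoryTheory.Limits MonoidalCategory CartesianMonoidalCategory MonObj GrpObj AlgebraicGeometry

attribute [local instance] CategoryTheory.Hom.monoid CategoryTheory.Hom.group
set_option linter.style.haveILetI false
set_option linter.unusedSectionVars false

namespace Groth.Agent.Deform.Borel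

open Chev (Pt pimg)
open Agent.GrpSchLib (act_mul act_one)

noncomputable section

variable {k : Type u} [Field k] [IsAlgClosed k]

theorem pt_of_quot {G B X : Over (Spec (CommRingCat.of k))} [GrpObj G] [GrpObj B] {iB : B ⟶ G} {a : AlgGrp.Action G X}
    {o : Pt X} (sq : IsPullback (fst G B) ((G ◁ iB) ≫ μ[G]) (a.orbitMap o) (a.orbitMap o)) {c : Pt G}
    (hco : lift c o ≫ a.act = o) : ∃ b : Pt B, b ≫ iB = c := by
  let w := sq.lift (1 : Pt G) c (by rw [pt_orbitMap, pt_orbitMap, act_one, hco])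
  have hw : (w ≫ fst G B) * ((w ≫ snd G B) ≫ iB) = c := by
    have e : w ≫ (G ◁ iB) = lift (w ≫ fst G B) ((w ≫ snd G B) ≫ iB) := by
      apply CartesianMonoidalCategory.hom_ext <;> simp
    rw [Hom.mul_def, ← e, Category.assoc, sq.lift_snd]
  rw [sq.lift_fst, _root_.one_mul] at hw
  exact ⟨w ≫ snd G B, hw⟩

set_option maxHeartbeats 1000000 in
/-- **A point commuting with a connected solvable subgroup lies in a Borel subgroup with it.** -/
theorem exists_borel_containing (G : Over (Spec (CommRingCat.of k))) [GrpObj G] [IsAffine G.left] [Smooth G.hom]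
    [ConnectedSpace G.left] {S : Over (Spec (CommRingCat.of k))} [GrpObj S] [IsAffine S.left] [Smooth S.hom]
    [ConnectedSpace S.left] [Group.IsSolvable (Pt S)] (iS : S ⟶ G) [IsMonHom iS] (g : Pt G)
    (hg : ∀ s : Pt S, g * (s ≫ iS) = (s ≫ iS) * g) :
    ∃ (B : Over (Spec (CommRingCat.of k))) (_ : GrpObj B) (b : B ⟶ G) (t : S ⟶ B), Red.IsBorelOver k b ∧
      t ≫ b = iS ∧ ∃ g' : Pt B, g' ≫ b = g := by
  haveI : IsAffineHom G.hom := isAffineHom_of_isAffine _
  haveI : QuasiCompact G.hom := inferInstance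
  haveI : IsAffineHom S.hom := isAffineHom_of_isAffine _
  obtain ⟨B, iB', iB, hB, himg, -⟩ := exists_borel G
  obtain ⟨hm, hc, hBs, hBc, -, -⟩ := id hB
  haveI := hm; haveI := hc; haveI := hBs; haveI := hBc
  haveI : QuasiCompact B.hom := by rw [← Over.w iB]; infer_instance
  haveI : Mono iB := (Over.forget _).mono_of_mono_map (inferInstanceAs (Mono iB.left))
  obtain ⟨X, a, o, hl, hq, hfl, hsu, sq⟩ := Agent.GrpSchLib.HomogeneousQuot.exists_quot G B iB
  haveI := isProper_quot iB himg a o ⟨hl, hfl, hsu, sq⟩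
  haveI := hl; haveI := hsu
  -- the fixed points of `g`
  let φ : X ⟶ X := lift (toUnit X ≫ g) (𝟙 X) ≫ a.act
  have hφ : ∀ x : Pt X, x ≫ φ = lift g x ≫ a.act := fun x => by
    rw [← Category.assoc, comp_lift, Category.comp_id, ← Category.assoc, toUnit_unique (x ≫ toUnit X) (𝟙 _),
      Category.id_comp]
  let Δ : X ⟶ X ⊗ X := lift (𝟙 X) (𝟙 X)
  haveI : IsClosedImmersion Δ.left := by
    haveI : IsClosedImmersion (Δ.left ≫ (fst X X).left) := by
      rw [← Over.comp_left, lift_fst]; exact inferInstanceAs (IsClosedImmersion (𝟙 X.left))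
    haveI : IsSeparated (fst X X).left := inferInstanceAs (IsSeparated (pullback.fst X.hom X.hom))
    exact IsClosedImmersion.of_comp Δ.left (fst X X).left
  let E : Set X.left := (lift φ (𝟙 X)).left ⁻¹' Set.range Δ.left
  have hE : IsClosed E := Δ.left.isClosedEmbedding.isClosed_range.preimage (lift φ (𝟙 X)).left.continuous
  haveI : LocallyOfFiniteType (X ⊗ X).hom := inferInstanceAs (LocallyOfFiniteType (pullback.fst X.hom X.hom ≫ X.hom))
  have hEiff : ∀ x : Pt X, pimg x ∈ E ↔ lift g x ≫ a.act = x := fun x => by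
    show (lift φ (𝟙 X)).left (pimg x) ∈ Set.range Δ.left ↔ _
    rw [← pimg_comp, comp_lift, Category.comp_id, hφ]
    constructor
    · intro h
      obtain ⟨y, hy⟩ := exists_lift_pt Δ h
      have h1 := congrArg (· ≫ fst X X) hy
      have h2 := congrArg (· ≫ snd X X) hy
      simp only [Δ, Category.assoc, lift_fst, lift_snd, Category.comp_id] at h1 h2
      exact h1.symm.trans h2
    · intro h
      refine ⟨pimg x, ?_⟩
      rw [← pimg_comp, h]
      congr 1
      rw [comp_lift, Category.comp_id]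
  obtain ⟨c, b₀, hcb⟩ := exists_conj_mem G iB hB g
  let x₀ : Pt X := lift c o ≫ a.act
  have hfix : ∀ b : Pt B, lift (b ≫ iB) o ≫ a.act = o := fun b => by
    have h := mul_comp_orbitMap sq (1 : Pt G) b
    rw [_root_.one_mul, pt_orbitMap, pt_orbitMap, act_one] at h
    exact h
  have hx₀ : pimg x₀ ∈ E := (hEiff x₀).mpr (by
    rw [act_mul, show g * c = c * (b₀ ≫ iB) by rw [← hcb]; group, ← act_mul, hfix])
  obtain ⟨x, hxE, hxfix⟩ := exists_fixedPt_mem S X (restrictAct a iS) hE (fun s x hx => (hEiff _).mpr (by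
    rw [lift_restrictAct, act_mul, hg, ← act_mul, (hEiff x).mp hx])) x₀ hx₀
  obtain ⟨d, hd⟩ := exists_pt_over (a.orbitMap o) x
  rw [pt_orbitMap] at hd
  have hgB : ∃ b : Pt B, b ≫ iB = d⁻¹ * g * d := pt_of_quot sq (by
    rw [← act_mul, ← act_mul, hd, (hEiff x).mp hxE, ← hd, act_mul, inv_mul_cancel, act_one])
  have hSB : ∀ s : Pt S, ∃ b : Pt B, b ≫ iB = s ≫ iS ≫ conj d⁻¹ := fun s => by
    refine pt_of_quot sq ?_
    have h := hxfix (𝟙_ _) s
    rw [toUnit_unique (toUnit (𝟙_ _)) (𝟙 _), Category.id_comp, lift_restrictAct] at h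
    rw [← Category.assoc, pt_conj, _root_.inv_inv, ← act_mul, ← act_mul, hd, h, ← hd, act_mul, inv_mul_cancel,
      act_one]
  haveI : IsReduced S.left := GrpSchLib.isReduced_of_smooth_field S.hom
  obtain ⟨t, ht⟩ := Chev.exists_lift_range iB (iS ≫ conj d⁻¹)
    (Chev.mem_of_pts (iS ≫ conj d⁻¹) iB.left.isClosedEmbedding.isClosed_range fun s => by
      obtain ⟨b, hb⟩ := hSB s
      exact ⟨pimg b, by rw [← pimg_comp, hb]⟩)
  obtain ⟨b, hb⟩ := hgB
  refine ⟨B, iB', iB ≫ conj d, t, isBorelOver_conj iB hB d, ?_, b, ?_⟩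
  · rw [reassoc_of% ht, conj_left_inv, Category.comp_id]
  · rw [← Category.assoc, hb, pt_conj]
    group

set_option maxHeartbeats 1000000 in
/-- **Centralisers of tori are connected.** -/
theorem exists_connected_cent_torus (G : Over (Spec (CommRingCat.of k))) [GrpObj G] [IsAffine G.left] [Smooth G.hom]
    [ConnectedSpace G.left] {T : Over (Spec (CommRingCat.of k))} [GrpObj T] (hT : Red.IsTorus T) (i : T ⟶ G)
    [IsMonHom i] :
    ∃ (J : Over (Spec (CommRingCat.of k))) (_ : GrpObj J) (c : J ⟶ G), IsMonHom c ∧ IsClosedImmersion c.left ∧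
      Smooth J.hom ∧ ConnectedSpace J.left ∧ (∀ (x : Pt J) (w : Pt T), (x ≫ c) * (w ≫ i) = (w ≫ i) * (x ≫ c)) ∧
      ∀ g : Pt G, (∀ w : Pt T, g * (w ≫ i) = (w ≫ i) * g) → ∃ x : Pt J, x ≫ c = g := by
  haveI : IsAffineHom G.hom := isAffineHom_of_isAffine _
  haveI : QuasiCompact G.hom := inferInstance
  haveI := Agent.GrpSchLib.AntiAffine.isSeparated_grp G
  obtain ⟨hTa, hTl, hTs, hTc⟩ := Deform.TorusBasic.props hT
  haveI := hTa; haveI := hTs; haveI := hTc
  haveI := isSolvable_pts_of_torus hT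
  let H : Subgroup (Pt G) :=
    { carrier := {g | ∀ w : Pt T, Commute g (w ≫ i)}
      one_mem' := fun w => Commute.one_left _
      mul_mem' := fun ha hb w => (ha w).mul_left (hb w)
      inv_mem' := fun ha w => (ha w).inv_left }
  let d : Pt T → (G ⟶ G) := fun w => 𝟙 G * (toUnit G ≫ w ≫ i) * (𝟙 G)⁻¹ * (toUnit G ≫ w ≫ i)⁻¹
  have hd : ∀ (g : Pt G) (w : Pt T), g ≫ d w = g * (w ≫ i) * g⁻¹ * (w ≫ i)⁻¹ := fun g w => by
    simp only [d, MonObj.comp_mul, GrpObj.comp_inv, Category.comp_id, pt_const]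
  let Z : Set G.left := ⋂ w : Pt T, (d w).left ⁻¹' {pimg (1 : Pt G)}
  have hZ : IsClosed Z := isClosed_iInter fun w =>
    ((pointEquivClosedPoint G.hom) ⟨(1 : Pt G).left, Over.w (1 : Pt G)⟩).2.preimage (d w).left.continuous
  have hZH : ∀ g : Pt G, pimg g ∈ Z ↔ g ∈ H := fun g => by
    simp only [Z, Set.mem_iInter, Set.mem_preimage, Set.mem_singleton_iff]
    refine forall_congr' fun w => ?_
    rw [← pimg_comp, Chev.pimg_injective.eq_iff, hd, ← commutatorElement_def,
      commutatorElement_eq_one_iff_mul_comm]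
    rfl
  obtain ⟨J, iJ, c, hcm, hcc, hJs, -, hJc, hJH, -, hlift⟩ := exists_neutral_fin H hZ hZH
  haveI := hcm; haveI := hcc
  refine ⟨J, iJ, c, hcm, hcc, hJs, hJc, hJH, fun g hg => ?_⟩
  obtain ⟨B, iB', b, t, hB, ht, g', hg'⟩ := exists_borel_containing G i g hg
  obtain ⟨hbm, hbc, hBs, hBc, hBsol, -⟩ := id hB
  haveI := hbm; haveI := hbc; haveI := hBs; haveI := hBc
  haveI : IsAffine B.left := isAffine_of_isAffineHom b.left
  haveI : Group.IsSolvable (Pt B) := isSolvable_pts_of_grp hBsol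
  haveI : Mono b := (Over.forget _).mono_of_mono_map (inferInstanceAs (Mono b.left))
  haveI : IsMonHom t := Deform.isMonHom_of_comp t b (i := i) ht
  obtain ⟨N, s, hN, hsN, hreg⟩ := exists_regular B hT t
  have hsN' : (s ≫ t) ^ N = 1 := by rw [show (s ≫ t) ^ N = (s ^ N) ≫ t from (map_pow (ptsMap t) s N).symm, hsN, MonObj.one_comp]
  obtain ⟨J₀, iJ₀, j₀, hj₀, hj₀c, hJ₀s, hJ₀c, hJ₀comm, hJ₀all, -⟩ := exists_connected_centralizer B (s ≫ t) N hN hsN'
  haveI := hj₀; haveI := hJ₀s; haveI := hJ₀c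
  obtain ⟨f, -, hf⟩ := hlift J₀ (j₀ ≫ b) fun x w => by
    show (x ≫ j₀ ≫ b) * (w ≫ i) = (w ≫ i) * (x ≫ j₀ ≫ b)
    rw [← ht, ← Category.assoc x, ← Category.assoc w, ← MonObj.mul_comp, ← MonObj.mul_comp,
      hreg (x ≫ j₀) (hJ₀comm x) w]
  obtain ⟨y, hy⟩ := hJ₀all g' ((cancel_mono b).mp (by
    rw [MonObj.mul_comp, MonObj.mul_comp, hg', Category.assoc, ht]
    exact hg s))
  exact ⟨y ≫ f, by rw [Category.assoc, hf, ← Category.assoc, hy, hg']⟩

end

end Groth.Agent.Deform.Borel
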