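import Groth.Agent.Deform.Chev.SemiAbExt

/-!
# Zariski closures of sets of rational points and connected subgroups containing the commutators
-/

universe u

open CategoryTheory CategoryTheory.Limits MonoidalCategory CartesianMonoidalCategory MonObj GrpObj AlgebraicGeometry

attribute [local instance] CategoryTheory.Hom.monoid CategoryTheory.Hom.group
set_option linter.style.haveILetI false
set_option linter.unusedSectionVars false

namespace Groth.Agent.Deform.Borel

open Chev (Pt pimg)
open scoped commutatorElement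

noncomputable section

variable {k : Type u} [Field k] [IsAlgClosed k] {G H : Over (Spec (CommRingCat.of k))}

/-- The rational points in the closure of a set of rational points. -/
def cl (S : Set (Pt G)) : Set (Pt G) := {p | pimg p ∈ closure (pimg '' S)}

theorem subset_cl (S : Set (Pt G)) : S ⊆ cl S := fun p hp => subset_closure ⟨p, hp, rfl⟩

theorem mapsTo_cl (φ : G ⟶ H) {S : Set (Pt G)} {T : Set (Pt H)} (h : ∀ s ∈ S, s ≫ φ ∈ cl T) :
    ∀ p ∈ cl S, p ≫ φ ∈ cl T := fun p hp => by
  show φ.left (pimg p) ∈ closure (pimg '' T)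
  have h1 := image_closure_subset_closure_image φ.left.continuous ⟨pimg p, hp, rfl⟩
  refine closure_minimal ?_ isClosed_closure h1
  rintro _ ⟨_, ⟨s, hs, rfl⟩, rfl⟩
  exact h s hs

theorem cl_mono {S T : Set (Pt G)} (h : S ⊆ T) : cl S ⊆ cl T := fun _ hp =>
  closure_mono (Set.image_mono h) hp

theorem cl_singleton [LocallyOfFiniteType G.hom] (a : Pt G) : cl ({a} : Set (Pt G)) ⊆ {a} := fun p hp => by
  have h : pimg p ∈ closure ({pimg a} : Set G.left) := by simpa [cl] using hp
  rw [IsClosed.closure_eq (s := ({pimg a} : Set G.left)) ((pointEquivClosedPoint G.hom) ⟨a.left, Over.w a⟩).2] at h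
  exact Chev.pimg_injective h

variable [GrpObj G]

theorem pt_const (g : Pt G) (p : Pt G) : p ≫ (toUnit G ≫ g) = g := by
  rw [← Category.assoc, toUnit_unique (p ≫ toUnit G) (𝟙 _), Category.id_comp]

theorem mul_mem_cl (H : Subgroup (Pt G)) {p q : Pt G} (hp : p ∈ cl (H : Set (Pt G)))
    (hq : q ∈ cl (H : Set (Pt G))) : p * q ∈ cl (H : Set (Pt G)) := by
  have h1 : ∀ h ∈ H, p * h ∈ cl (H : Set (Pt G)) := fun h hh => by
    have := mapsTo_cl (𝟙 G * (toUnit G ≫ h)) (S := (H : Set (Pt G))) (T := (H : Set (Pt G)))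
      (fun s hs => subset_cl _ (by
        rw [MonObj.comp_mul, Category.comp_id, pt_const]
        exact H.mul_mem hs hh)) p hp
    rwa [MonObj.comp_mul, Category.comp_id, pt_const] at this
  have := mapsTo_cl ((toUnit G ≫ p) * 𝟙 G) (S := (H : Set (Pt G))) (T := (H : Set (Pt G)))
    (fun s hs => by rw [MonObj.comp_mul, Category.comp_id, pt_const]; exact h1 s hs) q hq
  rwa [MonObj.comp_mul, Category.comp_id, pt_const] at this

/-- The closure of a group of rational points. -/
def clSubgroup (H : Subgroup (Pt G)) : Subgroup (Pt G) where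
  carrier := cl (H : Set (Pt G))
  one_mem' := subset_cl _ H.one_mem
  mul_mem' := mul_mem_cl H
  inv_mem' := fun {p} hp => by
    have := mapsTo_cl ((𝟙 G)⁻¹) (S := (H : Set (Pt G))) (T := (H : Set (Pt G))) (fun s hs => subset_cl _ (by
      rw [GrpObj.comp_inv, Category.comp_id]
      exact H.inv_mem hs)) p hp
    rwa [GrpObj.comp_inv, Category.comp_id] at this

/-- Commutators of closures lie in the closure. -/
theorem commutator_mem_cl {A B T : Set (Pt G)} (h : ∀ a ∈ A, ∀ b ∈ B, ⁅a, b⁆ ∈ cl T) {a b : Pt G}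
    (ha : a ∈ cl A) (hb : b ∈ cl B) : ⁅a, b⁆ ∈ cl T := by
  have h1 : ∀ b ∈ B, ⁅a, b⁆ ∈ cl T := fun b hb => by
    let φ : G ⟶ G := 𝟙 G * (toUnit G ≫ b) * (𝟙 G)⁻¹ * (toUnit G ≫ b)⁻¹
    have e : ∀ x : Pt G, x ≫ φ = ⁅x, b⁆ := fun x => by
      simp only [φ, MonObj.comp_mul, GrpObj.comp_inv, Category.comp_id, pt_const, commutatorElement_def]
    rw [← e]
    exact mapsTo_cl φ (fun s hs => by rw [e]; exact h s hs b hb) a ha
  let φ : G ⟶ G := (toUnit G ≫ a) * 𝟙 G * (toUnit G ≫ a)⁻¹ * (𝟙 G)⁻¹
  have e : ∀ x : Pt G, x ≫ φ = ⁅a, x⁆ := fun x => by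
    simp only [φ, MonObj.comp_mul, GrpObj.comp_inv, Category.comp_id, pt_const, commutatorElement_def]
  rw [← e]
  exact mapsTo_cl φ (fun s hs => by rw [e]; exact h1 s hs) b hb

omit [GrpObj G] in
/-- Rational points of a morphism. -/
theorem exists_lift_pt [LocallyOfFiniteType G.hom] (i : H ⟶ G) [IsClosedImmersion i.left] {p : Pt G}
    (hp : pimg p ∈ Set.range i.left) : ∃ y : Pt H, y ≫ i = p := by
  haveI : IsReduced (𝟙_ (Over (Spec (CommRingCat.of k)))).left :=
    inferInstanceAs (IsReduced (Spec (CommRingCat.of k)))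
  refine Chev.exists_lift_range i p ?_
  rintro _ ⟨x, rfl⟩
  rwa [show x = IsLocalRing.closedPoint k from Subsingleton.elim (α := PrimeSpectrum k) _ _]

omit [GrpObj G] in
/-- Rational points seen on a closed immersion. -/
theorem pimg_comp (w : Pt H) (f : H ⟶ G) : pimg (w ≫ f) = f.left (pimg w) := rfl

set_option maxHeartbeats 1000000 in
/-- A connected smooth group has a smooth connected closed subgroup containing all commutators of rational
points and contained in their closed span. -/
theorem exists_derived (G : Over (Spec (CommRingCat.of k))) [GrpObj G] [Smooth G.hom] [QuasiCompact G.hom]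
    [ConnectedSpace G.left] :
    ∃ (N : Over (Spec (CommRingCat.of k))) (_ : GrpObj N) (i : N ⟶ G), IsMonHom i ∧ IsClosedImmersion i.left ∧
      Smooth N.hom ∧ QuasiCompact N.hom ∧ ConnectedSpace N.left ∧ (∀ a b : Pt G, ∃ n : Pt N, n ≫ i = ⁅a, b⁆) ∧
      ∀ n : Pt N, n ≫ i ∈ cl ((derivedSeries (Pt G) 1 : Subgroup (Pt G)) : Set (Pt G)) := by
  let D : Subgroup (Pt G) := derivedSeries (Pt G) 1
  let C : Set G.left := closure (pimg '' (D : Set (Pt G)))
  obtain ⟨Y, iY, i, hi, hic, hYr, hYl, hYq, hYH, hHY⟩ := Chev.exists_subgroup (clSubgroup D)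
    (C := C) isClosed_closure fun h => Iff.rfl
  haveI := hi; haveI := hic; haveI := hYr; haveI := hYl; haveI := hYq
  obtain ⟨N, iN, j, hj, hjc, hjf, hjr, hgi, hNc⟩ := GrpSchLib.exists_identityComponent (G := Y)
  haveI := hj; haveI := hjc; haveI := hjf; haveI := hgi; haveI := hNc
  haveI : IsLocallyNoetherian Y.left := LocallyOfFiniteType.isLocallyNoetherian Y.hom
  haveI : LocallyOfFinitePresentation j.left := inferInstance
  haveI : IsOpenImmersion j.left := IsOpenImmersion.of_flat_of_mono j.left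
  haveI : IsReduced N.left := isReduced_of_isOpenImmersion j.left
  haveI : LocallyOfFiniteType N.hom := by rw [← Over.w j]; infer_instance
  haveI : Smooth N.hom := GrpSchLib.smooth_of_isReduced_of_isAlgClosed N
  haveI : QuasiCompact N.hom := by rw [← Over.w j]; infer_instance
  haveI : IrreducibleSpace N.left := GeometricallyIrreducible.irreducibleSpace N.hom N.hom.isOpenMap
  haveI : ConnectedSpace N.left := inferInstance
  haveI : IsIntegral G.left := GrpSchLib.Kunneth.isIntegral_grp G
  haveI : ConnectedSpace (G ⊗ G).left := Chev.connectedSpace_tensor G G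
  haveI : Smooth (G ⊗ G).hom := inferInstanceAs (Smooth (pullback.fst G.hom G.hom ≫ G.hom))
  haveI : IsReduced (G ⊗ G).left := GrpSchLib.isReduced_pullback_of_perfectField G.hom G.hom
  let c : G ⊗ G ⟶ G := fst G G * snd G G * (fst G G)⁻¹ * (snd G G)⁻¹
  have hc : ∀ w : Pt (G ⊗ G), w ≫ c = ⁅w ≫ fst G G, w ≫ snd G G⁆ := fun w => by
    simp only [c, MonObj.comp_mul, GrpObj.comp_inv, commutatorElement_def]
  have hcY : Set.range c.left ⊆ Set.range i.left := by
    refine Chev.mem_of_pts c i.left.isClosedEmbedding.isClosed_range fun w => ?_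
    obtain ⟨y, hy⟩ := hHY (w ≫ c) (by
      rw [hc]
      refine subset_cl _ ?_
      show _ ∈ derivedSeries (Pt G) 1
      rw [derivedSeries_succ, derivedSeries_zero]
      exact Subgroup.commutator_mem_commutator (Subgroup.mem_top _) (Subgroup.mem_top _))
    exact ⟨pimg y, by rw [← pimg_comp, hy]⟩
  obtain ⟨d, hd⟩ := Chev.exists_lift_range i c hcY
  have hdj : Set.range d.left ⊆ Set.range j.left := by
    rw [hjr]
    refine (isPreconnected_range d.left.continuous).subset_connectedComponent ⟨pimg (1 : Pt (G ⊗ G)), ?_⟩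
    refine i.left.isClosedEmbedding.injective ?_
    show (d ≫ i).left (pimg (1 : Pt (G ⊗ G))) = (η[Y] ≫ i).left (IsLocalRing.closedPoint k)
    rw [hd, IsMonHom.one_hom i]
    show pimg ((1 : Pt (G ⊗ G)) ≫ c) = pimg (η[G] : Pt G)
    congr 1
    simp only [c, MonObj.comp_mul, GrpObj.comp_inv]
    simp [Hom.one_def]
  refine ⟨N, iN, j ≫ i, inferInstance, inferInstanceAs (IsClosedImmersion (j.left ≫ i.left)), inferInstance,
    inferInstance, inferInstance, fun a b => ?_, fun n => ?_⟩
  · obtain ⟨n, hn⟩ := exists_lift_pt j (p := lift a b ≫ d) (hdj ⟨pimg (lift a b), rfl⟩)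
    refine ⟨n, ?_⟩
    rw [reassoc_of% hn, hd, hc, lift_fst, lift_snd]
  · rw [← Category.assoc]
    exact hYH _

/-- The derived length drops. -/
theorem derivedSeries_eq_bot {G N : Over (Spec (CommRingCat.of k))} [GrpObj G] [GrpObj N]
    [LocallyOfFiniteType G.hom] (i : N ⟶ G) [IsMonHom i] [IsClosedImmersion i.left]
    (hi : ∀ n : Pt N, n ≫ i ∈ cl ((derivedSeries (Pt G) 1 : Subgroup (Pt G)) : Set (Pt G))) {n : ℕ}
    (hn : derivedSeries (Pt G) (n + 1) = ⊥) : derivedSeries (Pt N) n = ⊥ := by
  have key : ∀ m, ∀ x ∈ derivedSeries (Pt N) m,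
      x ≫ i ∈ cl ((derivedSeries (Pt G) (m + 1) : Subgroup (Pt G)) : Set (Pt G)) := by
    intro m
    induction m with
    | zero => exact fun x _ => hi x
    | succ m ih =>
      intro x hx
      refine Subgroup.closure_induction (p := fun x _ => x ≫ i ∈ clSubgroup (derivedSeries (Pt G) (m + 1 + 1)))
        ?_ ?_ ?_ ?_ (by rwa [derivedSeries_succ, Subgroup.commutator_def] at hx)
      · rintro y ⟨p, hp, q, hq, rfl⟩
        show ⁅p, q⁆ ≫ i ∈ cl _
        have e : ⁅p, q⁆ ≫ i = ⁅p ≫ i, q ≫ i⁆ := by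
          simp only [commutatorElement_def, MonObj.mul_comp, GrpObj.inv_comp]
        rw [e]
        exact commutator_mem_cl (fun a ha b hb => subset_cl _ (Subgroup.commutator_mem_commutator ha hb))
          (ih p hp) (ih q hq)
      · rw [MonObj.one_comp]; exact Subgroup.one_mem _
      · intro a b _ _ ha hb; rw [MonObj.mul_comp]; exact Subgroup.mul_mem _ ha hb
      · intro a _ ha; rw [GrpObj.inv_comp]; exact Subgroup.inv_mem _ ha
  refine (Subgroup.eq_bot_iff_forall _).mpr fun x hx => ?_
  have h1 := key n x hx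
  rw [hn, Subgroup.coe_bot] at h1
  have h2 : x ≫ i = 1 := cl_singleton 1 h1
  haveI : Mono i := (Over.forget _).mono_of_mono_map (inferInstanceAs (Mono i.left))
  rw [← cancel_mono i, h2, MonObj.one_comp]

end

end Groth.Agent.Deform.Borel
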