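import Groth.Agent.Deform.Borel.Closure
import Groth.Agent.GrpSchLib.OrbitImmersion
import Groth.Agent.GrpSchLib.OrbitDim
import Groth.Agent.GrpSchLib.NormalQuot
import Groth.Agent.GrpSchLib.MonoSubgroup

/-!
# Borel's fixed point theorem
-/

universe u

open CategoryTheory CategoryTheory.Limits MonoidalCategory CartesianMonoidalCategory MonObj GrpObj AlgebraicGeometry

attribute [local instance] CategoryTheory.Hom.monoid CategoryTheory.Hom.group
set_option linter.style.haveILetI false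
set_option linter.unusedSectionVars false

namespace Groth.Agent.Deform.Borel

open Chev (Pt pimg)
open Agent.GrpSchLib (act_one act_mul comp_orbitMap)
open scoped commutatorElement

noncomputable section

variable {k : Type u} [Field k] [IsAlgClosed k] {G X : Over (Spec (CommRingCat.of k))} [GrpObj G]

theorem pt_orbitMap (a : AlgGrp.Action G X) (x : Pt X) (g : Pt G) : g ≫ a.orbitMap x = lift g x ≫ a.act := by
  rw [comp_orbitMap, toUnit_unique (toUnit (𝟙_ _)) (𝟙 _), Category.id_comp]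

/-- A rational point fixed by all rational points is a fixed point. -/
theorem isFixedPt_of_pts [Smooth G.hom] [IsSeparated X.hom] (a : AlgGrp.Action G X) (x : Pt X)
    (h : ∀ g : Pt G, lift g x ≫ a.act = x) : a.IsFixedPt x := by
  have h1 : a.orbitMap x = toUnit G ≫ x := Chev.SemiAbExt.ext_points _ _ fun g => by
    rw [pt_orbitMap, h, ← Category.assoc, toUnit_unique (g ≫ toUnit G) (𝟙 _), Category.id_comp]
  intro T g
  rw [← comp_orbitMap, h1, ← Category.assoc, toUnit_unique (g ≫ toUnit G) (toUnit T)]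

/-- The points of `X` fixed by some rational points of `G` form a closed set. -/
theorem exists_fixed_closed [LocallyOfFiniteType X.hom] [IsSeparated X.hom] (a : AlgGrp.Action G X)
    (S : Set (Pt G)) :
    ∃ E : Set X.left, IsClosed E ∧ ∀ x : Pt X, pimg x ∈ E ↔ ∀ g ∈ S, lift g x ≫ a.act = x := by
  let T : Pt G → (X ⟶ X ⊗ X) := fun g => lift (lift (toUnit X ≫ g) (𝟙 X) ≫ a.act) (𝟙 X)
  let Δ : X ⟶ X ⊗ X := lift (𝟙 X) (𝟙 X)
  haveI : IsClosedImmersion Δ.left := by
    have e : Δ.left = pullback.diagonal X.hom := by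
      apply pullback.hom_ext
      · rw [pullback.diagonal_fst]
        show Δ.left ≫ (fst X X).left = _
        rw [← Over.comp_left, lift_fst, Over.id_left]
      · rw [pullback.diagonal_snd]
        show Δ.left ≫ (snd X X).left = _
        rw [← Over.comp_left, lift_snd, Over.id_left]
    rw [e]
    exact IsSeparated.isClosedImmersion_diagonal
  refine ⟨⋂ g ∈ S, (T g).left ⁻¹' Set.range Δ.left,
    isClosed_biInter fun g _ => Δ.left.isClosedEmbedding.isClosed_range.preimage (T g).left.continuous,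
    fun x => ?_⟩
  simp only [Set.mem_iInter, Set.mem_preimage]
  refine forall_congr' fun g => forall_congr' fun _ => ?_
  have e : x ≫ T g = lift (lift g x ≫ a.act) x := by
    simp only [T, comp_lift, comp_lift_assoc, Category.comp_id, ← Category.assoc]
    rw [toUnit_unique (x ≫ toUnit X) (𝟙 _), Category.id_comp]
  constructor
  · intro hx
    haveI : LocallyOfFiniteType (X ⊗ X).hom :=
      inferInstanceAs (LocallyOfFiniteType (pullback.fst X.hom X.hom ≫ X.hom))
    obtain ⟨z, hz⟩ := exists_lift_pt Δ (p := x ≫ T g) hx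
    rw [e] at hz
    have h1 := congrArg (· ≫ fst X X) hz
    have h2 := congrArg (· ≫ snd X X) hz
    simp only [Δ, comp_lift, Category.comp_id, lift_fst, lift_snd] at h1 h2
    rw [← h1, h2]
  · intro hx
    refine ⟨pimg x, ?_⟩
    show pimg (x ≫ Δ) = pimg (x ≫ T g)
    rw [e, hx, comp_lift, Category.comp_id]

/-- An action restricted along a homomorphism. -/
def restrictAct {N : Over (Spec (CommRingCat.of k))} [GrpObj N] (a : AlgGrp.Action G X) (i : N ⟶ G) [IsMonHom i] :
    AlgGrp.Action N X where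
  act := (i ▷ X) ≫ a.act
  one_act := by
    rw [← Category.assoc, ← MonoidalCategory.comp_whiskerRight, IsMonHom.one_hom i, a.one_act]
  mul_act := by
    have e1 : μ[N] ▷ X = lift ((fst (N ⊗ N) X ≫ fst N N) * (fst (N ⊗ N) X ≫ snd N N)) (snd (N ⊗ N) X) := by
      apply CartesianMonoidalCategory.hom_ext
      · simp [Hom.mul_def, ← comp_lift_assoc]
      · simp
    have e2 : (α_ N N X).hom ≫ (N ◁ ((i ▷ X) ≫ a.act)) = lift (fst (N ⊗ N) X ≫ fst N N)
        (lift (fst (N ⊗ N) X ≫ snd N N) (snd (N ⊗ N) X) ≫ (i ▷ X) ≫ a.act) := by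
      have e3 : (α_ N N X).hom = lift (fst (N ⊗ N) X ≫ fst N N)
          (lift (fst (N ⊗ N) X ≫ snd N N) (snd (N ⊗ N) X)) := by
        apply CartesianMonoidalCategory.hom_ext
        · simp
        · apply CartesianMonoidalCategory.hom_ext <;> simp
      rw [e3, lift_whiskerLeft]
    rw [reassoc_of% e2, e1, lift_whiskerRight_assoc, lift_whiskerRight_assoc, lift_whiskerRight_assoc, act_mul, MonObj.mul_comp]

theorem lift_restrictAct {N T : Over (Spec (CommRingCat.of k))} [GrpObj N] (a : AlgGrp.Action G X) (i : N ⟶ G)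
    [IsMonHom i] (u : T ⟶ N) (v : T ⟶ X) : lift u v ≫ (restrictAct a i).act = lift (u ≫ i) v ≫ a.act :=
  lift_whiskerRight_assoc _ _ _ _

variable [Smooth G.hom] [QuasiCompact G.hom]

/-- A closed orbit in a stable closed set. -/
theorem exists_closed_orbit [LocallyOfFiniteType X.hom] [QuasiCompact X.hom] [IsSeparated X.hom]
    (a : AlgGrp.Action G X) {E : Set X.left} (hE : IsClosed E)
    (hst : ∀ (g : Pt G) (x : Pt X), pimg x ∈ E → pimg (lift g x ≫ a.act) ∈ E) (x₀ : Pt X) (hx₀ : pimg x₀ ∈ E) :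
    ∃ y : Pt X, pimg y ∈ E ∧ IsClosed (Set.range (a.orbitMap y).left) := by
  haveI : IsLocallyNoetherian X.left := LocallyOfFiniteType.isLocallyNoetherian X.hom
  haveI : CompactSpace X.left := QuasiCompact.compactSpace_of_compactSpace X.hom
  haveI : IsNoetherian X.left := { }
  have horb : ∀ x : Pt X, pimg x ∈ E → Set.range (a.orbitMap x).left ⊆ E := fun x hx =>
    Chev.mem_of_pts (a.orbitMap x) hE fun g => by rw [pt_orbitMap]; exact hst g x hx
  obtain ⟨_, ⟨x, hx, rfl⟩, hmin⟩ := (wellFounded_lt (α := TopologicalSpace.Closeds X.left)).has_min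
    {C | ∃ x : Pt X, pimg x ∈ E ∧ (⟨closure (Set.range (a.orbitMap x).left), isClosed_closure⟩ :
      TopologicalSpace.Closeds X.left) = C} ⟨_, x₀, hx₀, rfl⟩
  refine ⟨x, hx, by_contra fun hnc => ?_⟩
  obtain ⟨y, hy⟩ := Agent.GrpSchLib.OrbitDim.exists_orbit_subset_boundary a x hnc
  have hB : IsClosed (closure (Set.range (a.orbitMap x).left) \ Set.range (a.orbitMap x).left) :=
    ⟨(Agent.GrpSchLib.OrbitDim.isLocallyClosed_orbit a x).isOpen_coborder⟩
  have hyy : pimg y ∈ Set.range (a.orbitMap y).left := ⟨pimg (1 : Pt G), by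
    rw [← pimg_comp, pt_orbitMap, act_one]⟩
  refine hmin _ ⟨y, closure_minimal (horb x hx) hE (hy hyy).1, rfl⟩ (lt_of_le_of_ne
    (closure_minimal (hy.trans Set.diff_subset) isClosed_closure) fun h => ?_)
  obtain ⟨p, hp⟩ := Agent.GrpSchLib.OrbitDim.nonempty_orbit a x
  have h1 : p ∈ closure (Set.range (a.orbitMap x).left) := subset_closure hp
  rw [← congrArg TopologicalSpace.Closeds.carrier h |> fun e => (e : closure _ = closure _)] at h1
  exact (closure_minimal hy hB h1).2 hp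

set_option maxHeartbeats 1000000 in
/-- A point with closed orbit whose isotropy contains all commutators is fixed. -/
theorem fixed_of_closed_orbit [IsAffine G.left] [ConnectedSpace G.left] [IsProper X.hom]
    (a : AlgGrp.Action G X) (y : Pt X) (hcl : IsClosed (Set.range (a.orbitMap y).left))
    (hcomm : ∀ p q : Pt G, lift ⁅p, q⁆ y ≫ a.act = y) : a.IsFixedPt y := by
  haveI : IsIntegral G.left := Agent.GrpSchLib.Kunneth.isIntegral_grp G
  let Gy := pullback (a.orbitMap y) y
  let h : Gy ⟶ G := pullback.fst (a.orbitMap y) y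
  have sq : IsPullback h (toUnit Gy) (a.orbitMap y) y := by
    rw [show toUnit Gy = pullback.snd (a.orbitMap y) y from toUnit_unique _ _]
    exact IsPullback.of_hasPullback _ _
  have hlift : ∀ {T : Over (Spec (CommRingCat.of k))} (f : T ⟶ G),
      lift f (toUnit T ≫ y) ≫ a.act = toUnit T ≫ y → ∃ f' : T ⟶ Gy, f' ≫ h = f := fun f hf =>
    ⟨sq.lift f (toUnit _) (by rw [comp_orbitMap]; exact hf), sq.lift_fst _ _ _⟩
  have hfix : ∀ {T : Over (Spec (CommRingCat.of k))} (f' : T ⟶ Gy),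
      lift (f' ≫ h) (toUnit T ≫ y) ≫ a.act = toUnit T ≫ y := fun {T} f' => by
    rw [← comp_orbitMap, Category.assoc, sq.w, ← Category.assoc, toUnit_unique (f' ≫ toUnit Gy) (toUnit T)]
  haveI : IsClosedImmersion y.left := by
    haveI : IsClosedImmersion (y.left ≫ X.hom) := by
      rw [Over.w y]; exact inferInstanceAs (IsClosedImmersion (𝟙 (Spec (CommRingCat.of k))))
    exact IsClosedImmersion.of_comp y.left X.hom
  haveI : IsClosedImmersion h.left :=
    MorphismProperty.of_isPullback (P := @IsClosedImmersion) (sq.map (Over.forget _)).flip ‹IsClosedImmersion y.left›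
  haveI : Mono h := (Over.forget _).mono_of_mono_map (inferInstanceAs (Mono h.left))
  obtain ⟨e', he'⟩ := hlift (η[G]) (by
    have e : η[G] = (1 : 𝟙_ (Over (Spec (CommRingCat.of k))) ⟶ G) := MonObj.one_eq_one G
    rw [e, act_one])
  obtain ⟨m', hm'⟩ := hlift ((fst Gy Gy ≫ h) * (snd Gy Gy ≫ h)) (by rw [← act_mul, hfix, hfix])
  obtain ⟨v', hv'⟩ := hlift h⁻¹ (by
    have h1 := hfix (𝟙 Gy)
    rw [Category.id_comp] at h1
    conv_lhs => rw [← h1]
    rw [act_mul, inv_mul_cancel, act_one])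
  obtain ⟨str, hh⟩ := Agent.GrpSchLib.exists_grpObj_of_mono h e' he' m' hm' v' hv'
  letI := str
  haveI := hh
  -- the isotropy group is normal
  haveI : Smooth (G ⊗ G).hom := inferInstanceAs (Smooth (pullback.fst G.hom G.hom ≫ G.hom))
  let c : G ⊗ G ⟶ G := fst G G * snd G G * (fst G G)⁻¹ * (snd G G)⁻¹
  obtain ⟨c', hc'⟩ := hlift c (by
    rw [← comp_orbitMap]
    refine Chev.SemiAbExt.ext_points _ _ fun w => ?_
    rw [← Category.assoc, pt_orbitMap, ← Category.assoc, toUnit_unique (w ≫ toUnit (G ⊗ G)) (𝟙 _), Category.id_comp]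
    convert hcomm (w ≫ fst G G) (w ≫ snd G G) using 3
    simp only [c, MonObj.comp_mul, GrpObj.comp_inv, commutatorElement_def])
  have hn : AlgGrp.IsNormalHom h := fun T g n => ⟨(lift g (n ≫ h) ≫ c') * n, by
    rw [MonObj.mul_comp, Category.assoc, hc']
    simp only [c, MonObj.comp_mul, GrpObj.comp_inv, lift_fst, lift_snd]
    group⟩
  obtain ⟨Q, iQ, q, hq, hQa, hQl, hqf, hqs, hk⟩ := Agent.GrpSchLib.NormalQuot.exists_quot G Gy h hn
  haveI := hq; haveI := hQa; haveI := hQl; haveI := hqf; haveI := hqs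
  haveI : LocallyOfFiniteType (q.left ≫ Q.hom) := by rw [Over.w q]; infer_instance
  haveI : LocallyOfFiniteType q.left := locallyOfFiniteType_of_comp q.left Q.hom
  haveI : IsLocallyNoetherian Q.left := LocallyOfFiniteType.isLocallyNoetherian Q.hom
  haveI : LocallyOfFinitePresentation q.left := inferInstance
  obtain ⟨Q₁, q₁, m₁, ⟨hs₁, hf₁, hp₁, sq₁⟩, -, hm₁, hqm⟩ := Agent.GrpSchLib.OrbitImmersion.exists_quot a y h sq
  haveI := hs₁; haveI := hf₁; haveI := hp₁; haveI := hm₁
  have hμ : ∀ {T : Over (Spec (CommRingCat.of k))} (u : T ⟶ G) (v : T ⟶ Gy),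
      lift u v ≫ (G ◁ h) ≫ μ[G] = u * (v ≫ h) := fun u v => by
    rw [lift_whiskerLeft_assoc, Hom.mul_def]
  have w₀ : fst G Gy ≫ q = ((G ◁ h) ≫ μ[G]) ≫ q := by
    have e := hμ (fst G Gy) (snd G Gy)
    rw [lift_fst_snd, Category.id_comp] at e
    rw [e, MonObj.mul_comp, Category.assoc, show h ≫ q = 1 from hk.w, MonObj.comp_one, _root_.mul_one]
  have sqQ : IsPullback (fst G Gy) ((G ◁ h) ≫ μ[G]) q q := by
    refine IsPullback.of_isLimit' ⟨w₀⟩ (PullbackCone.IsLimit.mk _
      (fun s => lift s.fst (hk.lift (s.fst⁻¹ * s.snd) (toUnit _) (by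
        rw [MonObj.mul_comp, GrpObj.inv_comp, s.condition, inv_mul_cancel]
        rfl))) (fun s => lift_fst _ _) (fun s => ?_) (fun s m h1 h2 => ?_))
    · rw [hμ, hk.lift_fst, mul_inv_cancel_left]
    · apply CartesianMonoidalCategory.hom_ext
      · rw [lift_fst, h1]
      · rw [lift_snd, ← cancel_mono h, hk.lift_fst]
        have e : m = lift (m ≫ fst G Gy) (m ≫ snd G Gy) := by rw [← comp_lift, lift_fst_snd, Category.comp_id]
        rw [e, hμ, h1] at h2
        rw [← h2, inv_mul_cancel_left, Category.assoc]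
  obtain ⟨e₁, he₁⟩ := Agent.GrpSchLib.OrbitImmersion.exists_desc sqQ q₁ sq₁.w
  obtain ⟨e₂, he₂⟩ := Agent.GrpSchLib.OrbitImmersion.exists_desc sq₁ q w₀
  haveI : Epi q := Over.epi_of_epi_left _
  have h12 : e₁ ≫ e₂ = 𝟙 Q := by rw [← cancel_epi q, reassoc_of% he₁, he₂, Category.comp_id]
  haveI : IsSplitMono e₁ := IsSplitMono.mk' ⟨e₂, h12⟩
  have hqm' : q ≫ e₁ ≫ m₁ = a.orbitMap y := by rw [reassoc_of% he₁, hqm]
  obtain ⟨him, -, hr⟩ := Agent.GrpSchLib.OrbitImmersion.main a y q (e₁ ≫ m₁) hqm'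
  haveI := him
  haveI : IsClosedImmersion (e₁ ≫ m₁).left := .of_isPreimmersion _ (by rw [hr]; exact hcl)
  haveI : IsProper Q.hom := by rw [← Over.w (e₁ ≫ m₁)]; infer_instance
  haveI : IsAffineHom Q.hom := isAffineHom_of_isAffine _
  haveI : IsFinite Q.hom := IsFinite.iff_isProper_and_isAffineHom.mpr ⟨inferInstance, inferInstance⟩
  haveI : Finite Q.left := by
    have h := Q.hom.finite_preimage_singleton (IsLocalRing.closedPoint k)
    exact Set.finite_univ_iff.mp (h.subset fun x _ => Subsingleton.elim (α := PrimeSpectrum k) _ _)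
  haveI : JacobsonSpace Q.left := LocallyOfFiniteType.jacobsonSpace Q.hom
  haveI : DiscreteTopology Q.left := inferInstance
  haveI : ConnectedSpace Q.left := q.left.surjective.connectedSpace q.left.continuous
  haveI : Subsingleton Q.left := PreconnectedSpace.trivial_of_discrete
  refine isFixedPt_of_pts a y fun g => ?_
  have hg : g ≫ q = (1 : Pt G) ≫ q := Chev.pimg_injective (Subsingleton.elim _ _)
  rw [← pt_orbitMap, ← hqm', ← Category.assoc, hg, Category.assoc, hqm', pt_orbitMap, act_one]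

theorem exists_fixedPt_aux : ∀ (n : ℕ) (G X : Over (Spec (CommRingCat.of k))) [GrpObj G] [IsAffine G.left]
    [Smooth G.hom] [ConnectedSpace G.left] [IsProper X.hom] (a : AlgGrp.Action G X) {E : Set X.left},
    IsClosed E → (∀ (g : Pt G) (x : Pt X), pimg x ∈ E → pimg (lift g x ≫ a.act) ∈ E) →
    ∀ x₀ : Pt X, pimg x₀ ∈ E → derivedSeries (Pt G) n = ⊥ → ∃ x : Pt X, pimg x ∈ E ∧ a.IsFixedPt x := by
  intro n
  induction n with
  | zero =>
    intro G X _ _ _ _ _ a E _ _ x₀ hx₀ hn
    refine ⟨x₀, hx₀, isFixedPt_of_pts a x₀ fun g => ?_⟩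
    have h1 : g = 1 := by
      have : g ∈ (⊥ : Subgroup (Pt G)) := hn ▸ (derivedSeries_zero (Pt G)).symm ▸ Subgroup.mem_top g
      exact Subgroup.mem_bot.mp this
    rw [h1, act_one]
  | succ n ih =>
    intro G X _ _ _ _ _ a E hEc hst₀ x₀ hx₀ hn
    haveI : IsAffineHom G.hom := isAffineHom_of_isAffine _
    obtain ⟨N, iN, i, hi, hic, hNs, hNq, hNc, hcomm, hNcl⟩ := exists_derived G
    haveI := hi; haveI := hic; haveI := hNs; haveI := hNq; haveI := hNc
    haveI : IsAffine N.left := isAffine_of_isAffineHom i.left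
    have hr : ∀ {T : Over (Spec (CommRingCat.of k))} (u : T ⟶ N) (v : T ⟶ X),
        lift u v ≫ (i ▷ X) ≫ a.act = lift (u ≫ i) v ≫ a.act := fun u v => lift_whiskerRight_assoc _ _ _ _
    let b : AlgGrp.Action N X := restrictAct a i
    obtain ⟨x₁, hx₁E, hx₁⟩ := ih N X b hEc (fun g x hx => by
      rw [lift_restrictAct]
      exact hst₀ _ _ hx) x₀ hx₀ (derivedSeries_eq_bot i hNcl hn)
    obtain ⟨F, hF, hmem⟩ := exists_fixed_closed a (Set.range fun m : Pt N => m ≫ i)
    have hx₁F : pimg x₁ ∈ F := by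
      rw [hmem]
      rintro _ ⟨m, rfl⟩
      have h := hx₁ (𝟙_ _) m
      rw [toUnit_unique (toUnit (𝟙_ _)) (𝟙 _), Category.id_comp] at h
      rw [← lift_restrictAct a i]
      exact h
    have hst : ∀ (g : Pt G) (x : Pt X), pimg x ∈ E ∩ F → pimg (lift g x ≫ a.act) ∈ E ∩ F := by
      intro g x hxEF
      refine ⟨hst₀ g x hxEF.1, ?_⟩
      have hx := hxEF.2
      rw [hmem] at hx ⊢
      rintro _ ⟨m, rfl⟩
      obtain ⟨m₁, hm₁⟩ := hcomm g⁻¹ (m ≫ i)
      have e : (m ≫ i) * g = g * (((m₁ * m) : Pt N) ≫ i) := by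
        rw [MonObj.mul_comp, hm₁, commutatorElement_def]
        group
      rw [act_mul, e, ← act_mul, hx _ ⟨m₁ * m, rfl⟩]
    obtain ⟨y, ⟨hyE, hy⟩, hcl⟩ := exists_closed_orbit a (hEc.inter hF) hst x₁ ⟨hx₁E, hx₁F⟩
    refine ⟨y, hyE, fixed_of_closed_orbit a y hcl fun p q => ?_⟩
    obtain ⟨m, hm⟩ := hcomm p q
    rw [← hm]
    exact (hmem y).mp hy _ ⟨m, rfl⟩

/-- Borel's fixed point theorem inside a stable closed set. -/
theorem exists_fixedPt_mem (G X : Over (Spec (CommRingCat.of k))) [GrpObj G] [IsAffine G.left]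
    [Smooth G.hom] [ConnectedSpace G.left] [Group.IsSolvable (Pt G)] [IsProper X.hom]
    (a : AlgGrp.Action G X) {E : Set X.left} (hE : IsClosed E)
    (hst : ∀ (g : Pt G) (x : Pt X), pimg x ∈ E → pimg (lift g x ≫ a.act) ∈ E) (x₀ : Pt X) (hx₀ : pimg x₀ ∈ E) :
    ∃ x : Pt X, pimg x ∈ E ∧ a.IsFixedPt x := by
  obtain ⟨n, hn⟩ := Group.IsSolvable.solvable (G := Pt G)
  exact exists_fixedPt_aux n G X a hE hst x₀ hx₀ hn

/-- **Borel's fixed point theorem.** -/
theorem exists_fixedPt (G X : Over (Spec (CommRingCat.of k))) [GrpObj G] [IsAffine G.left]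
    [Smooth G.hom] [ConnectedSpace G.left] [Group.IsSolvable (Pt G)] [IsProper X.hom] [Nonempty X.left]
    (a : AlgGrp.Action G X) : ∃ x : Pt X, a.IsFixedPt x := by
  haveI : JacobsonSpace X.left := LocallyOfFiniteType.jacobsonSpace X.hom
  obtain ⟨x₀, -⟩ := Chev.exists_pt (G := X) (S := Set.univ) Set.univ_nonempty isClosed_univ.isLocallyClosed
  obtain ⟨x, -, hx⟩ := exists_fixedPt_mem G X a isClosed_univ (fun _ _ _ => Set.mem_univ _) x₀ (Set.mem_univ _)
  exact ⟨x, hx⟩

end

end Groth.Agent.Deform.Borel
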