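import Groth.Agent.Deform.Borel.Union

/-!
# Every point of a connected group lies in a Borel subgroup
-/

universe u

open CategoryTheory CategoryTheory.Limits MonoidalCategory CartesianMonoidalCategory MonObj GrpObj AlgebraicGeometry

attribute [local instance] CategoryTheory.Hom.monoid CategoryTheory.Hom.group
set_option linter.style.haveILetI false
set_option linter.unusedSectionVars false

namespace Groth.Agent.Deform.Borel

open Chev (Pt pimg)

noncomputable section

variable {k : Type u} [Field k] [IsAlgClosed k]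

/-- The preimage of a connected subgroup under a quotient with connected kernel is connected. -/
theorem isPreconnected_preimage {G I K B : Over (Spec (CommRingCat.of k))} [GrpObj G] [GrpObj I] [GrpObj B]
    [LocallyOfFiniteType G.hom] [LocallyOfFiniteType I.hom] (p : G ⟶ I) [IsMonHom p] [Surjective p.left]
    (hopen : IsOpenMap p.left) (κ : K ⟶ G) [ConnectedSpace K.left] (hker : AlgGrp.IsKernel κ p) (iB : B ⟶ I)
    [IsClosedImmersion iB.left] [PreconnectedSpace B.left] :
    _root_.IsPreconnected (p.left ⁻¹' Set.range iB.left) := by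
  set C := p.left ⁻¹' Set.range iB.left with hC
  have hD : IsClosed (Set.range iB.left) := iB.left.isClosedEmbedding.isClosed_range
  intro u v hu hv hcov hCu hCv
  have hDcov : Set.range iB.left ⊆ p.left '' u ∪ p.left '' v := by
    intro d hd
    obtain ⟨x, rfl⟩ := p.left.surjective d
    rcases hcov (show x ∈ C from hd) with h | h
    exacts [Or.inl ⟨x, h, rfl⟩, Or.inr ⟨x, h, rfl⟩]
  obtain ⟨d, hd, hdu, hdv⟩ := (isPreconnected_range iB.left.continuous) _ _ (hopen u hu) (hopen v hv) hDcov
    (by obtain ⟨x, hx, hxu⟩ := hCu; exact ⟨p.left x, hx, x, hxu, rfl⟩)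
    (by obtain ⟨x, hx, hxv⟩ := hCv; exact ⟨p.left x, hx, x, hxv, rfl⟩)
  obtain ⟨b, hbD, hbu, hbv⟩ := Chev.exists_pt (G := I) (S := Set.range iB.left ∩ (p.left '' u ∩ p.left '' v))
    ⟨d, hd, hdu, hdv⟩ (hD.isLocallyClosed.inter ((hopen u hu).inter (hopen v hv)).isLocallyClosed)
  have hb : IsClosed ({pimg b} : Set I.left) := ((pointEquivClosedPoint I.hom) ⟨b.left, Over.w b⟩).2
  obtain ⟨a, hau, hab⟩ := Chev.exists_pt (G := G) (S := u ∩ p.left ⁻¹' {pimg b})
    (by obtain ⟨x, hx, hxb⟩ := hbu; exact ⟨x, hx, hxb⟩)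
    (hu.isLocallyClosed.inter (hb.preimage p.left.continuous).isLocallyClosed)
  obtain ⟨a', hav, hab'⟩ := Chev.exists_pt (G := G) (S := v ∩ p.left ⁻¹' {pimg b})
    (by obtain ⟨x, hx, hxb⟩ := hbv; exact ⟨x, hx, hxb⟩)
    (hv.isLocallyClosed.inter (hb.preimage p.left.continuous).isLocallyClosed)
  have ha : a ≫ p = b := Chev.pimg_injective hab
  have ha' : a' ≫ p = b := Chev.pimg_injective hab'
  have hk : (a⁻¹ * a') ≫ p = toUnit (𝟙_ _) ≫ η[I] := by
    rw [MonObj.mul_comp, GrpObj.inv_comp, ha, ha', inv_mul_cancel]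
    rfl
  let z : Pt K := hker.lift (a⁻¹ * a') (toUnit _) hk
  let m : K ⟶ G := κ ≫ Chev.tr a
  have hm : Set.range m.left ⊆ C := by
    rintro _ ⟨x, rfl⟩
    show p.left (m.left x) ∈ Set.range iB.left
    have e : m ≫ p = toUnit K ≫ b := by
      rw [Category.assoc, show Chev.tr a ≫ p = (toUnit G ≫ b) * p by
        rw [Chev.tr, MonObj.mul_comp, Category.assoc, ha, Category.id_comp], MonObj.comp_mul, ← Category.assoc,
        toUnit_unique (κ ≫ toUnit G) (toUnit K), hker.w]
      rw [MonObj.one_eq_one, MonObj.comp_one, _root_.mul_one]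
    rw [← left_comp, e, left_comp, show (toUnit K).left x = IsLocalRing.closedPoint k from
      Subsingleton.elim (α := PrimeSpectrum k) _ _]
    exact hbD
  obtain ⟨w, ⟨x, hx⟩, hwu, hwv⟩ := (isPreconnected_range m.left.continuous) u v hu hv (hm.trans hcov)
    ⟨_, ⟨pimg (hker.lift (1 : Pt G) (toUnit _) (by
      rw [MonObj.one_comp]; rfl) : Pt K), rfl⟩, by
        rw [← pimg_comp, ← Category.assoc, hker.lift_fst, Chev.comp_tr, _root_.mul_one, toUnit_unique (toUnit _) (𝟙 _),
          Category.id_comp]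
        exact hau⟩
    ⟨_, ⟨pimg z, rfl⟩, by
      rw [← pimg_comp, ← Category.assoc, hker.lift_fst, Chev.comp_tr, toUnit_unique (toUnit _) (𝟙 _),
        Category.id_comp, mul_inv_cancel_left]
      exact hav⟩
  exact ⟨w, hm ⟨x, hx⟩, hwu, hwv⟩

set_option maxHeartbeats 1000000 in
/-- **Every point lies in a Borel subgroup.** -/
theorem exists_borel_mem (G : Over (Spec (CommRingCat.of k))) [GrpObj G] [Smooth G.hom] [QuasiCompact G.hom]
    [ConnectedSpace G.left] (g : Pt G) :
    ∃ (B : Over (Spec (CommRingCat.of k))) (_ : GrpObj B) (b : B ⟶ G), Red.IsBorelOver k b ∧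
      ∃ g' : Pt B, g' ≫ b = g := by
  obtain ⟨K, iK, κ, hκ, hκc, hKl, hKq, hKb, I, iI, p, hp, hI, hIl, hpf, hps, hker⟩ := AntiAffineParts.exists_ant G
  haveI := hκ; haveI := hκc; haveI := hKl; haveI := hKq; haveI := hp; haveI := hI; haveI := hIl; haveI := hpf
  haveI := hps
  haveI : IsLocallyNoetherian I.left := LocallyOfFiniteType.isLocallyNoetherian I.hom
  haveI : LocallyOfFiniteType (p.left ≫ I.hom) := by rw [Over.w p]; infer_instance
  haveI : LocallyOfFiniteType p.left := locallyOfFiniteType_of_comp p.left I.hom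
  haveI : Smooth (p.left ≫ I.hom) := by rw [Over.w p]; infer_instance
  haveI : Smooth I.hom := GrpSchLib.smooth_of_flat_surjective p.left I.hom
  haveI : ConnectedSpace I.left := p.left.surjective.connectedSpace p.left.continuous
  haveI : ConnectedSpace K.left := GrpSchLib.AntiAffine.connectedSpace_of_bijective hKb
  obtain ⟨B, iB', iB, hB, -, -⟩ := exists_borel I
  obtain ⟨hBm, hBc, hBs, hBcn, hBsol, -⟩ := id hB
  haveI := hBm; haveI := hBc; haveI := hBcn
  haveI : Group.IsSolvable (Pt B) := isSolvable_pts_of_grp hBsol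
  obtain ⟨x, b, hxb⟩ := exists_conj_mem I iB hB (g ≫ p)
  obtain ⟨x', hx'⟩ := exists_pt_over p x
  let Hy : Subgroup (Pt G) :=
    { carrier := {g | pimg (g ≫ p) ∈ Set.range iB.left}
      one_mem' := ⟨pimg (1 : Pt B), by rw [← pimg_comp, MonObj.one_comp, MonObj.one_comp]⟩
      mul_mem' := fun {a b} ha hb => by
        obtain ⟨a', ha'⟩ := exists_lift_pt iB ha
        obtain ⟨b', hb'⟩ := exists_lift_pt iB hb
        exact ⟨pimg (a' * b'), by rw [← pimg_comp, MonObj.mul_comp, MonObj.mul_comp, ha', hb']⟩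
      inv_mem' := fun {a} ha => by
        obtain ⟨a', ha'⟩ := exists_lift_pt iB ha
        exact ⟨pimg a'⁻¹, by rw [← pimg_comp, GrpObj.inv_comp, GrpObj.inv_comp, ha']⟩ }
  have hC : IsClosed (p.left ⁻¹' Set.range iB.left) :=
    iB.left.isClosedEmbedding.isClosed_range.preimage p.left.continuous
  obtain ⟨Y, iY, i, hi, hic, hYr, hYl, hYq, hYH, hHY⟩ := Chev.exists_subgroup Hy hC fun g => Iff.rfl
  haveI := hi; haveI := hic; haveI := hYr; haveI := hYl; haveI := hYq
  haveI : Smooth Y.hom := GrpSchLib.smooth_of_isReduced_of_isAlgClosed Y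
  haveI : JacobsonSpace G.left := LocallyOfFiniteType.jacobsonSpace G.hom
  have hr : Set.range i.left = p.left ⁻¹' Set.range iB.left := by
    refine Set.Subset.antisymm (Chev.mem_of_pts i hC fun y => hYH y) ?_
    rw [← closure_inter_closedPoints hC]
    refine closure_minimal ?_ i.left.isClosedEmbedding.isClosed_range
    rintro z ⟨hz, hzc⟩
    obtain ⟨q, rfl⟩ := Chev.exists_pimg_eq hzc
    obtain ⟨y, hy⟩ := hHY q hz
    exact ⟨pimg y, by rw [← pimg_comp, hy]⟩
  haveI : Nonempty Y.left := ⟨pimg (1 : Pt Y)⟩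
  haveI : PreconnectedSpace Y.left := ⟨by
    rw [← i.left.isClosedEmbedding.isInducing.isPreconnected_image, Set.image_univ, hr]
    exact isPreconnected_preimage p p.left.isOpenMap κ hker iB⟩
  haveI : ConnectedSpace Y.left := ⟨inferInstance⟩
  have hYsol : Group.IsSolvable (Pt Y) := by
    have hKsol : Group.IsSolvable (Pt K) := Group.isSolvable_of_comm fun a b => by
      haveI : Mono κ := (Over.forget _).mono_of_mono_map (inferInstanceAs (Mono κ.left))
      rw [← cancel_mono κ, MonObj.mul_comp, MonObj.mul_comp,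
        GrpSchLib.AntiAffine.commute hKb κ (by rw [IsMonHom.one_hom, MonObj.one_eq_one]) a (b ≫ κ)]
    let φ : Pt Y →* Pt I :=
      { toFun := fun x => x ≫ i ≫ p
        map_one' := MonObj.one_comp _
        map_mul' := fun a b => MonObj.mul_comp a b _ }
    let ψ : Pt B →* Pt I :=
      { toFun := fun x => x ≫ iB
        map_one' := MonObj.one_comp _
        map_mul' := fun a b => MonObj.mul_comp a b _ }
    haveI : Mono κ := (Over.forget _).mono_of_mono_map (inferInstanceAs (Mono κ.left))
    haveI : Mono i := (Over.forget _).mono_of_mono_map (inferInstanceAs (Mono i.left))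
    let χ : φ.ker →* Pt K :=
      { toFun := fun x => hker.lift ((x : Pt Y) ≫ i) (toUnit _) (by
          rw [Category.assoc]
          exact x.2.trans (by rw [MonObj.one_eq_one]; rfl))
        map_one' := by rw [← cancel_mono κ, hker.lift_fst, OneMemClass.coe_one, MonObj.one_comp, MonObj.one_comp]
        map_mul' := fun a b => by
          rw [← cancel_mono κ, MonObj.mul_comp, hker.lift_fst, hker.lift_fst, hker.lift_fst, Subgroup.coe_mul,
            MonObj.mul_comp] }
    have hχ : Function.Injective χ := fun a b h => Subtype.ext (by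
      have h' := congrArg (· ≫ κ) (show hker.lift _ _ _ = hker.lift _ _ _ from h)
      simp only [hker.lift_fst] at h'
      exact (cancel_mono i).mp h')
    haveI : Group.IsSolvable φ.ker := Group.isSolvable_of_isSolvable_injective hχ
    haveI : Group.IsSolvable ψ.range := Group.isSolvable_of_surjective ψ.rangeRestrict_surjective
    have hle : φ.range ≤ ψ.range := by
      rintro _ ⟨x, rfl⟩
      obtain ⟨y, hy⟩ := exists_lift_pt iB (hYH x : pimg ((x ≫ i) ≫ p) ∈ Set.range iB.left)
      exact ⟨y, hy.trans (Category.assoc _ _ _)⟩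
    haveI : Group.IsSolvable φ.range :=
      Group.isSolvable_of_isSolvable_injective (f := Subgroup.inclusion hle) (Subgroup.inclusion_injective hle)
    exact Group.isSolvable_of_ker_le_range φ.ker.subtype φ.rangeRestrict (by
      rw [φ.ker_rangeRestrict, Subgroup.range_subtype])
  haveI := hYsol
  obtain ⟨J, iJ, j, hJ⟩ := exists_univBorel G
  have hJB := hJ.isBorelOver
  obtain ⟨hjm, hjc, hJs, hJc, hJsol, huniv⟩ := hJ
  haveI := hjm; haveI := hjc
  obtain ⟨h, f, -, hf⟩ := huniv Y i
  have hmem : x'⁻¹ * g * x' ∈ Hy := by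
    refine ⟨pimg b, ?_⟩
    rw [← pimg_comp]
    congr 1
    rw [MonObj.mul_comp, MonObj.mul_comp, GrpObj.inv_comp, hx', ← hxb]
    group
  obtain ⟨y, hy⟩ := hHY _ hmem
  have hJ' : Red.IsBorelOver k (j ≫ conj (x' * h⁻¹)) := by
    obtain ⟨hm', hc', hs', hcn', hsol', hmax'⟩ := hJB
    refine ⟨inferInstance, inferInstanceAs (IsClosedImmersion (j.left ≫ (conj (x' * h⁻¹)).left)), hs', hcn', hsol',
      fun B' _ i' _ f hic hBs hBc hBsol hf => ?_⟩
    haveI := hic
    exact hmax' B' (i' ≫ conj (x' * h⁻¹)⁻¹) f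
      (inferInstanceAs (IsClosedImmersion (i'.left ≫ (conj (x' * h⁻¹)⁻¹).left))) hBs hBc hBsol
      (by rw [reassoc_of% hf, conj_right_inv, Category.comp_id])
  refine ⟨J, iJ, j ≫ conj (x' * h⁻¹), hJ', y ≫ f, ?_⟩
  rw [Category.assoc, reassoc_of% hf, ← comp_conj, Category.assoc, conj_mul, ← Category.assoc, pt_conj, hy]
  group

end

end Groth.Agent.Deform.Borel
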