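import Groth.Agent.Deform.Borel.GB
import Groth.Agent.Deform.Borel.CentTorus
import Groth.Agent.Deform.Borel.FieldFibre
import Groth.Agent.GrpSchLib.ImageFactor
import Groth.Agent.GrpSchLib.Homogeneous
import Groth.Agent.FBaseLib.Basic

/-!
# Images of Borel subgroups under surjective homomorphisms
-/

universe u

open CategoryTheory CategoryTheory.Limits MonoidalCategory CartesianMonoidalCategory MonObj GrpObj AlgebraicGeometry

attribute [local instance] CategoryTheory.Hom.monoid CategoryTheory.Hom.group
set_option linter.style.haveILetI false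
set_option linter.unusedSectionVars false

namespace Groth.Agent.Deform.Borel

open Chev (Pt pimg)

noncomputable section

variable {k : Type u} [Field k] [IsAlgClosed k] {G Q : Over (Spec (CommRingCat.of k))} [GrpObj G] [GrpObj Q]

/-- Closed images pass to the image of a subgroup under a surjection. -/
theorem ClosedImg.map (q : G ⟶ Q) [IsMonHom q] [Surjective q.left] {B B' : Over (Spec (CommRingCat.of k))}
    {iB : B ⟶ G} {iB' : B' ⟶ Q} (p : B ⟶ B') (hp : p ≫ iB' = iB ≫ q) (h : ClosedImg iB) : ClosedImg iB' := by
  intro X C hC hst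
  have hD : Stable iB ((q ▷ X).left ⁻¹' C) := fun T g u x t ht => by
    have e : ∀ g : T ⟶ G, lift g x ≫ (q ▷ X) = lift (g ≫ q) x := fun g => lift_whiskerRight _ _ _
    show (q ▷ X).left ((lift (g * (u ≫ iB)) x).left t) ∈ C
    rw [← left_comp, e, MonObj.mul_comp, Category.assoc, ← hp, ← Category.assoc]
    refine hst T (g ≫ q) (u ≫ p) x t ?_
    rw [← e, left_comp]
    exact ht
  have hs : Function.Surjective (q ▷ X).left := by
    haveI : Surjective (q ▷ X).left :=
      Agent.GrpSchLib.property_whiskerRight q X @Surjective ‹Surjective q.left›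
    exact (q ▷ X).left.surjective
  have e : (snd Q X).left '' C = (snd G X).left '' ((q ▷ X).left ⁻¹' C) := by
    conv_lhs => rw [← Set.image_preimage_eq C hs, ← Set.image_comp]
    refine Set.image_congr' fun z => ?_
    show (snd Q X).left ((q ▷ X).left z) = _
    rw [← left_comp, whiskerRight_snd]
  rw [e]
  exact h X _ (hC.preimage (q ▷ X).left.continuous) hD

set_option maxHeartbeats 1000000 in
/-- **The image of a Borel subgroup under a surjection is a Borel subgroup.** -/
theorem isBorelOver_image [IsAffine G.left] [Smooth G.hom] [ConnectedSpace G.left] [IsAffine Q.left] [Smooth Q.hom]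
    [ConnectedSpace Q.left] (q : G ⟶ Q) [IsMonHom q] [Surjective q.left] {B B' : Over (Spec (CommRingCat.of k))}
    [GrpObj B] [GrpObj B'] {iB : B ⟶ G} (hB : Red.IsBorelOver k iB) (iB' : B' ⟶ Q) [IsMonHom iB']
    [IsClosedImmersion iB'.left] [Smooth B'.hom] (p : B ⟶ B') [Surjective p.left] (hp : p ≫ iB' = iB ≫ q) :
    Red.IsBorelOver k iB' := by
  obtain ⟨hbm, hbc, hBs, hBcn, hBsol, -⟩ := id hB
  haveI := hbm; haveI := hbc; haveI := hBs; haveI := hBcn
  haveI : IsAffineHom Q.hom := isAffineHom_of_isAffine _
  haveI : QuasiCompact Q.hom := inferInstance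
  haveI : Mono iB' := (Over.forget _).mono_of_mono_map (inferInstanceAs (Mono iB'.left))
  haveI : IsMonHom p := Deform.isMonHom_of_comp p iB' (i := iB ≫ q) hp
  haveI : ConnectedSpace B'.left := p.left.surjective.connectedSpace p.left.continuous
  haveI : QuasiCompact B'.hom := by rw [← Over.w iB']; infer_instance
  haveI : IsAffine B'.left := isAffine_of_isAffineHom iB'.left
  haveI : Group.IsSolvable (Pt B) := isSolvable_pts_of_grp hBsol
  haveI : Group.IsSolvable (Pt B') :=
    Group.isSolvable_of_surjective (f := ptsMap p) fun y => exists_pt_over p y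
  have himg : ClosedImg iB' := ClosedImg.map q p hp (closedImg_of_isBorelOver iB hB)
  obtain ⟨X, a, o, hl, -, hfl, hsu, sq⟩ := Agent.GrpSchLib.HomogeneousQuot.exists_quot Q B' iB'
  haveI := isProper_quot iB' himg a o ⟨hl, hfl, hsu, sq⟩
  exact isBorelOver_of_proper iB' (isSolvableGrp_of_pts B') a o ⟨hl, hfl, hsu, sq⟩

set_option maxHeartbeats 1000000 in
/-- **Every Borel subgroup of a quotient is the image of a Borel subgroup.** -/
theorem exists_borel_over [IsAffine G.left] [Smooth G.hom] [ConnectedSpace G.left] [IsAffine Q.left] [Smooth Q.hom]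
    [ConnectedSpace Q.left] (q : G ⟶ Q) [IsMonHom q] [Surjective q.left] {B' : Over (Spec (CommRingCat.of k))}
    [GrpObj B'] (iB' : B' ⟶ Q) (hB' : Red.IsBorelOver k iB') :
    ∃ (B : Over (Spec (CommRingCat.of k))) (_ : GrpObj B) (iB : B ⟶ G) (p : B ⟶ B'),
      Red.IsBorelOver k iB ∧ Surjective p.left ∧ p ≫ iB' = iB ≫ q := by
  haveI : IsAffineHom G.hom := isAffineHom_of_isAffine _
  haveI : IsAffineHom Q.hom := isAffineHom_of_isAffine _
  obtain ⟨B, iB₀, iB, hB, -, -⟩ := exists_borel G
  obtain ⟨hbm, hbc, hBs, hBcn, -, -⟩ := id hB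
  haveI := hbm; haveI := hbc; haveI := hBs; haveI := hBcn
  haveI : QuasiCompact B.hom := by rw [← Over.w iB]; infer_instance
  obtain ⟨I, gI, p, j, hpm, hjm, hpj, hjc, hfl, hsu, hIl, -⟩ := Agent.GrpSchLib.ImageFactor.exists_image (iB ≫ q)
  haveI := hjm; haveI := hjc; haveI := hfl; haveI := hsu; haveI := hIl
  haveI : IsReduced B.left := GrpSchLib.isReduced_of_smooth_field B.hom
  haveI : IsReduced I.left := FBaseLib.isReduced_of_flat_surjective p.left
  haveI : Smooth I.hom := GrpSchLib.smooth_of_isReduced_of_isAlgClosed I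
  have hI := isBorelOver_image q hB j p hpj
  obtain ⟨g, f, -, hf⟩ := borel_conj j iB' hI hB'
  obtain ⟨g', hg'⟩ := exists_pt_over q g
  haveI : IsIso f.hom.left := ((Over.forget _).mapIso f).isIso_hom
  refine ⟨B, inferInstance, iB ≫ conj g', p ≫ f.hom, isBorelOver_conj iB hB g', ?_, ?_⟩
  · rw [Over.comp_left]; infer_instance
  · rw [Category.assoc, hf, ← comp_conj, reassoc_of% hpj, Category.assoc]
    congr 1
    simp only [conj, MonObj.mul_comp, GrpObj.inv_comp, MonObj.comp_mul, GrpObj.comp_inv, Category.assoc,
      Category.id_comp, Category.comp_id, hg', ← Category.assoc q (toUnit Q), comp_toUnit]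

end

noncomputable section

variable {k : Type u} [Field k] {G Q : Over (Spec (CommRingCat.of k))} [GrpObj G] [GrpObj Q]

set_option maxHeartbeats 1000000 in
/-- **The image of a Borel subgroup, over any field.** -/
theorem isBorel_image [IsAffine G.left] [Smooth G.hom] [ConnectedSpace G.left] [IsAffine Q.left] [Smooth Q.hom]
    [ConnectedSpace Q.left] (q : G ⟶ Q) [IsMonHom q] [Surjective q.left] {B B' : Over (Spec (CommRingCat.of k))}
    [GrpObj B] [GrpObj B'] {iB : B ⟶ G} (hB : Red.IsBorel iB) (iB' : B' ⟶ Q) [IsMonHom iB']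
    [IsClosedImmersion iB'.left] [IsReduced B'.left] (p : B ⟶ B') [Surjective p.left] (hp : p ≫ iB' = iB ≫ q) :
    Red.IsBorel iB' := by
  obtain ⟨hbm, hbc, hBs, hfib⟩ := hB
  haveI := hbm; haveI := hbc; haveI := hBs
  haveI : IsAffineHom G.hom := isAffineHom_of_isAffine _
  haveI : IsAffineHom Q.hom := isAffineHom_of_isAffine _
  haveI : LocallyOfFiniteType B'.hom := by rw [← Over.w iB']; infer_instance
  haveI : IsAffine B.left := isAffine_of_isAffineHom iB.left
  haveI : IsAffine B'.left := isAffine_of_isAffineHom iB'.left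
  haveI : IsAffineHom B.hom := isAffineHom_of_isAffine _
  have hsm : Smooth B'.hom := by
    refine Agent.GrpSchLib.smooth_of_isReduced_baseChange B' ?_
    set π := Spec.map (CommRingCat.ofHom (algebraMap k (AlgebraicClosure k)))
    haveI : IsAffineHom p.left := inferInstance
    haveI : IsSchemeTheoreticallyDominant p.left := IsSchemeTheoreticallyDominant.of_isDominant p.left
    haveI : Flat (pullback.fst B'.hom π) := inferInstance
    haveI : IsSchemeTheoreticallyDominant ((Over.pullback π).map p).left :=
      IsSchemeTheoreticallyDominant.of_isPullback (f := p.left) (g := pullback.fst B'.hom π)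
        (Deform.Extension.isPullback_map_left π p).flip
    haveI : QuasiCompact ((Over.pullback π).map p).left :=
      MorphismProperty.of_isPullback (P := @QuasiCompact) (Deform.Extension.isPullback_map_left π p).flip inferInstance
    haveI : IsReduced ((Over.pullback π).obj B).left :=
      GrpSchLib.isReduced_of_smooth_field (pullback.snd B.hom π)
    exact IsSchemeTheoreticallyDominant.isReduced ((Over.pullback π).map p).left
  haveI := hsm
  refine ⟨inferInstance, inferInstance, hsm, fun s => ?_⟩
  set y := Red.geomPt s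
  obtain ⟨hGa, hGs, hGc⟩ := bc_props y G
  haveI := hGa; haveI := hGs; haveI := hGc
  obtain ⟨hQa, hQs, hQc⟩ := bc_props y Q
  haveI := hQa; haveI := hQs; haveI := hQc
  haveI : Surjective ((Over.pullback y).map q).left :=
    MorphismProperty.of_isPullback (P := @Surjective) (Deform.Extension.isPullback_map_left y q).flip ‹_›
  haveI : Surjective ((Over.pullback y).map p).left :=
    MorphismProperty.of_isPullback (P := @Surjective) (Deform.Extension.isPullback_map_left y p).flip ‹_›
  haveI : IsClosedImmersion ((Over.pullback y).map iB').left :=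
    MorphismProperty.of_isPullback (P := @IsClosedImmersion) (Deform.Extension.isPullback_map_left y iB').flip ‹_›
  haveI : Smooth (Red.bc y B').hom := inferInstanceAs (Smooth (pullback.snd B'.hom y))
  exact isBorelOver_image ((Over.pullback y).map q) (hfib s) ((Over.pullback y).map iB')
    ((Over.pullback y).map p) (by rw [← Functor.map_comp, hp, Functor.map_comp])

end

end Groth.Agent.Deform.Borel
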