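import Groth.Agent.Deform.Borel.QuotFixed
import Groth.Agent.Deform.Borel.GB
import Groth.Agent.Deform.Chev.StructCor

/-!
# Centralisers of tori and Cartan subgroups of groups which need not be affine
-/

universe u

open CategoryTheory CategoryTheory.Limits MonoidalCategory CartesianMonoidalCategory MonObj GrpObj AlgebraicGeometry

attribute [local instance] CategoryTheory.Hom.monoid CategoryTheory.Hom.group
set_option linter.style.haveILetI false
set_option linter.unusedSectionVars false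

namespace Groth.Agent.Deform.Borel

open Chev (Pt pimg pimg_comp)

noncomputable section

variable {k : Type u} [Field k] [IsAlgClosed k]
variable {G : Over (Spec (CommRingCat.of k))} [GrpObj G] [Smooth G.hom] [QuasiCompact G.hom] [ConnectedSpace G.left]

set_option maxHeartbeats 1000000 in
/-- **A connected group is an affine normal subgroup times a central connected commutative one.** -/
theorem exists_affine_mul_central :
    ∃ (N : Over (Spec (CommRingCat.of k))) (_ : GrpObj N) (i : N ⟶ G) (K : Over (Spec (CommRingCat.of k)))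
      (_ : GrpObj K) (κ : K ⟶ G), IsMonHom i ∧ IsClosedImmersion i.left ∧ Smooth N.hom ∧ ConnectedSpace N.left ∧
        IsAffine N.left ∧ IsMonHom κ ∧ Smooth K.hom ∧ QuasiCompact K.hom ∧ ConnectedSpace K.left ∧
        Group.IsSolvable (Pt K) ∧
        (∀ {S : Over (Spec (CommRingCat.of k))} (a : S ⟶ K) (b : S ⟶ G), (a ≫ κ) * b = b * (a ≫ κ)) ∧
        (∀ g : Pt G, ∃ (n : Pt N) (z : Pt K), (n ≫ i) * (z ≫ κ) = g) ∧
        (∀ (H : Over (Spec (CommRingCat.of k))) [GrpObj H] [IsAffine H.left] [Smooth H.hom] [ConnectedSpace H.left]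
          (h : H ⟶ G) [IsMonHom h], ∃ h' : H ⟶ N, h' ≫ i = h) ∧
        ∀ (g : Pt G) (n : Pt N), ∃ n' : Pt N, n' ≫ i = g * (n ≫ i) * g⁻¹ := by
  obtain ⟨N, gN, i, Q, gQ, q, hi, hic, hNs, hNq, hNc, hNa, hn, hq, hqf, hqs, hk, hQ, hQs, hQc⟩ :=
    Chev.exists_decomp (G := G)
  haveI := hi; haveI := hic; haveI := hNs; haveI := hNq; haveI := hNc; haveI := hNa; haveI := hq; haveI := hqs
  haveI := hQ; haveI := hQc
  obtain ⟨K, gK, κ, hκ, hκc, hKl, hKq, hKb, I, gI, p, hp, hI, hIl, hpf, hps, hkp⟩ := AntiAffineParts.exists_ant G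
  haveI := hκ; haveI := hκc; haveI := hKl; haveI := hKq; haveI := hp; haveI := hI; haveI := hIl; haveI := hpf
  haveI := hps
  haveI := AntiAffineParts.surjective_proper hKb κ p hkp q
  haveI := AntiAffineParts.surjective_mul i q hk κ
  haveI : Smooth K.hom := GrpSchLib.AntiAffineSmooth.smooth hKb
  haveI := GrpSchLib.AntiAffine.connectedSpace_of_bijective hKb
  have hc : ∀ {S : Over (Spec (CommRingCat.of k))} (a : S ⟶ K) (b : S ⟶ G), (a ≫ κ) * b = b * (a ≫ κ) :=
    fun a b => GrpSchLib.AntiAffine.commute hKb κ (by rw [IsMonHom.one_hom, MonObj.one_eq_one]) a b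
  haveI : Mono κ := (Over.forget _).mono_of_mono_map (inferInstanceAs (Mono κ.left))
  haveI : LocallyOfFiniteType (N ⊗ K).hom :=
    inferInstanceAs (LocallyOfFiniteType (pullback.fst N.hom K.hom ≫ N.hom))
  refine ⟨N, gN, i, K, gK, κ, hi, hic, hNs, hNc, hNa, hκ, inferInstance, hKq, inferInstance,
    Group.isSolvable_of_comm fun a b => (cancel_mono κ).mp (by rw [MonObj.mul_comp, MonObj.mul_comp, hc]), hc,
    fun g => ?_, fun H _ _ _ _ h _ => Chev.exists_lift_kernel i q hk h (AVFactor.eq_one_of_affine (h ≫ q)),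
    fun g n => ?_⟩
  · obtain ⟨x, hx⟩ := exists_pt_over ((i ⊗ₘ κ) ≫ μ[G]) g
    refine ⟨x ≫ fst N K, x ≫ snd N K, ?_⟩
    rw [Hom.mul_def, ← lift_map_assoc, ← hx]
    congr 1
    apply CartesianMonoidalCategory.hom_ext <;> simp
  · obtain ⟨n', hn'⟩ := hn _ g n
    exact ⟨n', hn'.symm⟩

set_option maxHeartbeats 1000000 in
/-- **The centraliser of a torus in a connected group is smooth and connected.** -/
theorem centralizer_props {T C : Over (Spec (CommRingCat.of k))} [GrpObj T] [GrpObj C] (hT : Red.IsTorus T)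
    {j : T ⟶ G} [IsMonHom j] {c : C ⟶ G} (hc : Red.IsCentralizerOf j c) :
    Smooth C.hom ∧ ConnectedSpace C.left := by
  haveI := Agent.GrpSchLib.AntiAffine.isSeparated_grp G
  obtain ⟨hTa, hTl, hTs, hTc⟩ := Deform.TorusBasic.props hT
  haveI := hTa; haveI := hTs; haveI := hTc
  obtain ⟨hcc, hCs⟩ := centralizer_smooth hT hc
  haveI := hcc; haveI := hCs
  refine ⟨hCs, ?_⟩
  haveI := hc.1
  haveI : Mono c := hc.2.1
  haveI : QuasiCompact C.hom := by rw [← Over.w c]; infer_instance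
  obtain ⟨N, gN, i, K, gK, κ, hi, hic, hNs, hNc, hNa, hκ, hKs, hKq, hKc, -, hcen, hmul, hlift, -⟩ :=
    exists_affine_mul_central (G := G)
  haveI := hi; haveI := hic; haveI := hNs; haveI := hNc; haveI := hNa; haveI := hκ; haveI := hKs; haveI := hKc
  haveI : Mono i := (Over.forget _).mono_of_mono_map (inferInstanceAs (Mono i.left))
  haveI := Agent.GrpSchLib.AntiAffine.isSeparated_grp N
  obtain ⟨t, ht⟩ := hlift T j
  haveI : IsMonHom t := Deform.isMonHom_of_comp t i (i := j) ht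
  obtain ⟨C₀, gC₀, c₀, hc₀, hc₀c, hC₀s⟩ :=
    Deform.exists_centralizer (Deform.isMultType_of_ft (Deform.isMultTypeFT_of_isTorus hT)) t
  haveI := hc₀.1; haveI := hc₀c; haveI := hC₀s
  haveI := centralizer_connected N hT hc₀
  obtain ⟨a, ha⟩ := (hc.2.2 C₀ (c₀ ≫ i)).mpr fun X x h => by
    rw [← ht, ← Category.assoc, ← Category.assoc h, ← MonObj.mul_comp, ← MonObj.mul_comp,
      ((hc₀.2.2 C₀ c₀).mp ⟨𝟙 _, Category.id_comp _⟩) X x h]
  obtain ⟨b, hb⟩ := (hc.2.2 K κ).mpr fun X x h => hcen x (h ≫ j)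
  haveI : IsMonHom a := Deform.isMonHom_of_comp a c (i := c₀ ≫ i) ha
  haveI : IsMonHom b := Deform.isMonHom_of_comp b c (i := κ) hb
  obtain ⟨D, gD, d, hd, hdc, -, -, -, hDc, hr⟩ := Chev.exists_neutral C
  haveI := hd; haveI := hdc; haveI := hDc
  obtain ⟨a', -, ha'⟩ := exists_lift_connected d hr a
  obtain ⟨b', -, hb'⟩ := exists_lift_connected d hr b
  refine Function.Surjective.connectedSpace (f := d.left) (fun z => ?_) d.left.continuous
  refine Chev.mem_of_pts (𝟙 C) d.left.isClosedEmbedding.isClosed_range (fun w => ?_) ⟨z, rfl⟩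
  obtain ⟨n, v, hnv⟩ := hmul (w ≫ c)
  obtain ⟨n₀, hn₀⟩ := (hc₀.2.2 _ n).mpr fun X x h => (cancel_mono i).mp (by
    rw [MonObj.mul_comp, MonObj.mul_comp, Category.assoc h t i, ht, Category.assoc x n i,
      show n ≫ i = (w ≫ c) * (v ≫ κ)⁻¹ from eq_mul_inv_of_mul_eq hnv, MonObj.comp_mul, GrpObj.comp_inv,
      ← Category.assoc, ← Category.assoc]
    have h1 := centralizer_comm' hc (x ≫ w) h
    have h2 := hcen (x ≫ v) (h ≫ j)
    rw [_root_.mul_assoc, (Commute.inv_left (show Commute _ _ from h2)).eq, ← _root_.mul_assoc, h1, _root_.mul_assoc])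
  refine ⟨pimg ((n₀ ≫ a') * (v ≫ b')), ?_⟩
  rw [← pimg_comp]
  congr 1
  rw [MonObj.mul_comp, Category.assoc, Category.assoc, ha', hb', Category.comp_id, ← cancel_mono c, MonObj.mul_comp,
    Category.assoc, ha, reassoc_of% hn₀, Category.assoc, hb, hnv]
where
  centralizer_comm' {T G C X : Over (Spec (CommRingCat.of k))} [GrpObj T] [GrpObj G] [GrpObj C] {t : T ⟶ G}
      {z : C ⟶ G} (hz : Red.IsCentralizerOf t z) (x : X ⟶ C) (h : X ⟶ T) :
      (x ≫ z) * (h ≫ t) = (h ≫ t) * (x ≫ z) :=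
    ((hz.2.2 C z).mp ⟨𝟙 _, Category.id_comp _⟩) X x h

set_option maxHeartbeats 2000000 in
/-- **The centraliser of a maximal torus lies in every Borel subgroup containing it.** -/
theorem centralizing_pt_mem_gen {B T : Over (Spec (CommRingCat.of k))} [GrpObj B] [GrpObj T] {iB : B ⟶ G}
    (hB : Red.IsBorelOver k iB) (t : T ⟶ B) (hi : AGF.IsMaxTorus (t ≫ iB)) (g : Pt G)
    (hg : ∀ w : Pt T, g * (w ≫ t ≫ iB) = (w ≫ t ≫ iB) * g) : ∃ b : Pt B, b ≫ iB = g := by
  obtain ⟨N, gN, i, K, gK, κ, hi', hic, hNs, hNc, hNa, hκ, hKs, hKq, hKc, hKsol, hcen, hmul, hlift, hnorm⟩ :=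
    exists_affine_mul_central (G := G)
  haveI := hi'; haveI := hic; haveI := hNs; haveI := hNc; haveI := hNa; haveI := hκ; haveI := hKs; haveI := hKq
  haveI := hKc; haveI := hKsol
  haveI : Mono i := (Over.forget _).mono_of_mono_map (inferInstanceAs (Mono i.left))
  haveI : IsAffineHom N.hom := isAffineHom_of_isAffine _
  haveI : IsReduced N.left := GrpSchLib.isReduced_of_smooth_field N.hom
  haveI := Agent.GrpSchLib.AntiAffine.isSeparated_grp G
  obtain ⟨hBm, hBc, hBs, hBcn, hBsol, -⟩ := id hB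
  haveI := hBm; haveI := hBc; haveI := hBs; haveI := hBcn
  haveI : QuasiCompact B.hom := by rw [← Over.w iB]; infer_instance
  haveI : Mono iB := (Over.forget _).mono_of_mono_map (inferInstanceAs (Mono iB.left))
  obtain ⟨H, gH, iH, hH⟩ := exists_univBorel G
  obtain ⟨g₀, e, he, heH⟩ := hH.conj_of_borel iB hB
  haveI := hH.1; haveI := hH.2.1; haveI := he
  have hback : ∀ x : Pt H, (x ≫ e.inv) ≫ iB = g₀⁻¹ * (x ≫ iH) * g₀ := fun x => by
    have h1 : e.inv ≫ iB = iH ≫ conj g₀⁻¹ := by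
      rw [Iso.inv_comp_eq, reassoc_of% heH, ← comp_conj, Category.assoc, conj_right_inv, Category.comp_id]
    rw [Category.assoc, h1, ← Category.assoc, pt_conj, _root_.inv_inv]
  obtain ⟨n, z, hnz⟩ := hmul g
  -- the central part
  obtain ⟨g₁, f₁, -, hf₁⟩ := hH.2.2.2.2.2 K κ
  obtain ⟨bz, hbz⟩ : ∃ b : Pt B, b ≫ iB = z ≫ κ := ⟨(z ≫ f₁) ≫ e.inv, by
    rw [hback, Category.assoc z f₁ iH, hf₁, ← comp_conj, ← Category.assoc, pt_conj, ← hcen z g₁, mul_inv_cancel_right,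
      ← hcen z g₀⁻¹, inv_mul_cancel_right]⟩
  -- a Borel subgroup of the affine part inside the given one
  obtain ⟨M, gM, iM, hM, -, -⟩ := exists_borel N
  obtain ⟨hMm, hMc, hMs, hMcn, hMsol, -⟩ := id hM
  haveI := hMm; haveI := hMc; haveI := hMs; haveI := hMcn
  haveI : IsAffine M.left := isAffine_of_isAffineHom iM.left
  haveI : IsAffineHom M.hom := isAffineHom_of_isAffine _
  haveI : QuasiCompact M.hom := inferInstance
  haveI : Group.IsSolvable (Pt M) := isSolvable_pts_of_grp hMsol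
  obtain ⟨g₂, f₂, hf₂m, hf₂⟩ := hH.2.2.2.2.2 M (iM ≫ i)
  haveI := hf₂m
  let g₃ : Pt G := g₀⁻¹ * g₂
  obtain ⟨T₀, gT₀, t₀, hu⟩ := exists_univTorus M
  obtain ⟨ht₀m, ht₀c, hT₀, -⟩ := id hu
  haveI := ht₀m; haveI := ht₀c
  obtain ⟨hT₀a, hT₀l, hT₀s, hT₀c⟩ := Deform.TorusBasic.props hT₀
  haveI := hT₀a; haveI := hT₀s; haveI := hT₀c
  have hM₃ : ∀ x : Pt M, (x ≫ f₂ ≫ e.inv) ≫ iB = g₃ * (x ≫ iM ≫ i) * g₃⁻¹ := fun x => by
    rw [← Category.assoc x f₂, hback, Category.assoc x f₂ iH, hf₂, ← comp_conj, ← Category.assoc x (iM ≫ i), pt_conj]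
    simp only [g₃, _root_.mul_inv_rev, _root_.inv_inv, _root_.mul_assoc]
  have hi₀ : AGF.IsMaxTorus (t₀ ≫ iM) := isMaxTorus_comp_borel iM hM t₀
    ⟨ht₀m, (Over.forget _).mono_of_mono_map (inferInstanceAs (Mono t₀.left)), hT₀,
      fun T' _ j _ _ f h1 h2 => hu.maximal T' j f h1 h2⟩
  obtain ⟨htm, htmo, hT, hmax⟩ := id hi
  haveI := htm; haveI := htmo
  obtain ⟨hTa, hTl, hTs, hTc⟩ := Deform.TorusBasic.props hT
  haveI := hTa; haveI := hTs; haveI := hTc
  obtain ⟨tN, htN⟩ := hlift T (t ≫ iB)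
  haveI : IsMonHom tN := Deform.isMonHom_of_comp tN i (i := t ≫ iB) htN
  haveI : IsMonHom t := Deform.isMonHom_of_comp t iB (i := t ≫ iB) rfl
  haveI : Mono (tN ≫ i) := by rw [htN]; infer_instance
  haveI : Mono tN := mono_of_mono tN i
  haveI : Mono t := mono_of_mono t iB
  have hiN : AGF.IsMaxTorus tN := ⟨inferInstance, inferInstance, hT, fun T' _ j _ _ f hT' hf =>
    hmax T' (j ≫ i) f hT' (by rw [← Category.assoc, hf, htN])⟩
  -- both tori are maximal in the given Borel subgroup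
  haveI : Mono iH := (Over.forget _).mono_of_mono_map (inferInstanceAs (Mono iH.left))
  haveI : Mono f₂ := by
    haveI : Mono iM := (Over.forget _).mono_of_mono_map (inferInstanceAs (Mono iM.left))
    haveI : Mono (conj g₂) := IsSplitMono.mono _ (hf := IsSplitMono.mk' ⟨conj g₂⁻¹, conj_right_inv g₂⟩)
    haveI : Mono (f₂ ≫ iH) := by rw [hf₂, ← comp_conj]; exact mono_comp _ _
    exact mono_of_mono f₂ iH
  haveI : Mono t₀ := (Over.forget _).mono_of_mono_map (inferInstanceAs (Mono t₀.left))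
  let tB : T₀ ⟶ B := t₀ ≫ f₂ ≫ e.inv
  haveI : IsMonHom tB := inferInstanceAs (IsMonHom (t₀ ≫ f₂ ≫ e.inv))
  haveI : Mono tB := inferInstanceAs (Mono (t₀ ≫ f₂ ≫ e.inv))
  obtain ⟨Tu, gTu, tu, hTu⟩ := exists_univTorus B
  have hti : AGF.IsMaxTorus t := ⟨inferInstance, inferInstance, hT, fun T' _ j _ _ f hT' hf =>
    hmax T' (j ≫ iB) f hT' (by rw [← Category.assoc, hf])⟩
  obtain ⟨b₁, f₃, -, hf₃⟩ := hTu.conj_of_max t hT hti.2.2.2
  haveI := hTu.1; haveI := hTu.2.1
  obtain ⟨b₂, f₄, -, hf₄⟩ := hTu.2.2.2 T₀ tB hT₀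
  -- move the Borel subgroup of the affine part so as to contain the given torus
  let g₄ : Pt G := ((b₁⁻¹ * b₂) ≫ iB) * g₃
  have hM₄ : ∀ x : Pt M, ((b₁⁻¹ * b₂) * (x ≫ f₂ ≫ e.inv) * (b₁⁻¹ * b₂)⁻¹) ≫ iB = g₄ * (x ≫ iM ≫ i) * g₄⁻¹ :=
    fun x => by
      rw [MonObj.mul_comp, MonObj.mul_comp, GrpObj.inv_comp, hM₃]
      simp only [g₄, _root_.mul_inv_rev, _root_.mul_assoc]
  obtain ⟨cN, hcN⟩ := Chev.exists_lift_range i (i ≫ conj g₄) (Chev.mem_of_pts _ i.left.isClosedEmbedding.isClosed_range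
    fun w => by
      obtain ⟨w', hw'⟩ := hnorm g₄ w
      exact ⟨pimg w', by rw [← pimg_comp, hw', ← Category.assoc, pt_conj]⟩)
  obtain ⟨cN', hcN'⟩ := Chev.exists_lift_range i (i ≫ conj g₄⁻¹)
    (Chev.mem_of_pts _ i.left.isClosedEmbedding.isClosed_range fun w => by
      obtain ⟨w', hw'⟩ := hnorm g₄⁻¹ w
      exact ⟨pimg w', by rw [← pimg_comp, hw', ← Category.assoc, pt_conj]⟩)
  haveI : IsMonHom cN := Deform.isMonHom_of_comp cN i (i := i ≫ conj g₄) hcN
  haveI : IsIso cN := ⟨cN', by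
    rw [← cancel_mono i, Category.assoc, hcN', reassoc_of% hcN, conj_right_inv, Category.comp_id, Category.id_comp], by
    rw [← cancel_mono i, Category.assoc, hcN, reassoc_of% hcN', conj_left_inv, Category.comp_id, Category.id_comp]⟩
  haveI : IsIso cN.left := ((Over.forget _).mapIso (asIso cN)).isIso_hom
  have hM' : Red.IsBorelOver k (iM ≫ cN) := by
    obtain ⟨-, -, -, -, -, hMmax⟩ := id hM
    refine ⟨inferInstance, inferInstanceAs (IsClosedImmersion (iM.left ≫ cN.left)), hMs, hMcn, hMsol,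
      fun B' _ i'' _ f hc'' hs'' hcn'' hsol'' hf => ?_⟩
    haveI := hc''
    haveI : IsMonHom (inv cN) := inferInstanceAs (IsMonHom (asIso cN).inv)
    haveI : IsIso (inv cN).left := ((Over.forget _).mapIso (asIso cN)).isIso_inv
    exact hMmax B' (i'' ≫ inv cN) f (inferInstanceAs (IsClosedImmersion (i''.left ≫ (inv cN).left))) hs'' hcn'' hsol''
      (by rw [reassoc_of% hf, IsIso.hom_inv_id, Category.comp_id])
  haveI : IsReduced T.left := GrpSchLib.isReduced_of_smooth_field T.hom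
  haveI : IsClosedImmersion (iM ≫ cN).left := hM'.2.1
  obtain ⟨tM, htM⟩ := Chev.exists_lift_range (iM ≫ cN) tN
    (Chev.mem_of_pts _ (iM ≫ cN).left.isClosedEmbedding.isClosed_range fun w => by
      haveI := hTu.2.2.1
      obtain ⟨hTua, hTul, hTus, hTuc⟩ := Deform.TorusBasic.props hTu.2.2.1
      haveI := hTul
      -- the two tori agree after moving
      have hmaxB : AGF.IsMaxTorus (tB ≫ iB) := ⟨inferInstance, mono_comp tB iB, hT₀, fun T' _ j _ _ f hT' hf => by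
        haveI : IsMonHom (t₀ ≫ iM ≫ i) := inferInstance
        obtain ⟨hT'a, hT'l, hT's, hT'c⟩ := Deform.TorusBasic.props hT'
        haveI := hT'a; haveI := hT's; haveI := hT'c
        obtain ⟨j', hj'⟩ := hlift T' (j ≫ conj g₃⁻¹)
        haveI : Mono (conj g₃⁻¹) := IsSplitMono.mono _ (hf := IsSplitMono.mk' ⟨conj g₃⁻¹⁻¹, conj_right_inv g₃⁻¹⟩)
        haveI : Mono (j' ≫ i) := by rw [hj']; exact mono_comp j _
        haveI : Mono j' := mono_of_mono j' i
        haveI : IsMonHom j' := Deform.isMonHom_of_comp j' i (i := j ≫ conj g₃⁻¹) hj'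
        refine hi₀.2.2.2 T' j' f hT' ((cancel_mono i).mp ?_)
        rw [Category.assoc, hj', reassoc_of% hf]
        haveI : Smooth T₀.hom := hT₀s
        refine comp_inj_pt _ _ fun v => ?_
        rw [← Category.assoc, ← Category.assoc, ← Category.assoc, pt_conj, _root_.inv_inv]
        rw [hM₃]
        simp only [Category.assoc]
        group⟩
      obtain ⟨hTBm, hTBmo, -, hTBmax⟩ := hmaxB
      haveI : IsIso f₄ := by
        refine (fun h => h) ?_
        haveI : Mono (conj b₂) := IsSplitMono.mono _ (hf := IsSplitMono.mk' ⟨conj b₂⁻¹, conj_right_inv b₂⟩)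
        haveI : Mono tu := (Over.forget _).mono_of_mono_map (inferInstanceAs (Mono tu.left))
        haveI : Mono (conj b₂⁻¹) := IsSplitMono.mono _ (hf := IsSplitMono.mk' ⟨conj b₂⁻¹⁻¹, conj_right_inv b₂⁻¹⟩)
        exact hTBmax Tu (tu ≫ conj b₂⁻¹ ≫ iB) f₄ hTu.2.2.1 (by
          rw [reassoc_of% hf₄, ← comp_conj, Category.assoc, reassoc_of% (conj_right_inv b₂)])
      let v : Pt T₀ := (w ≫ f₃.hom) ≫ inv f₄
      refine ⟨pimg (v ≫ t₀), ?_⟩
      rw [← pimg_comp]
      congr 1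
      have h6 : (v ≫ f₄) ≫ tu = b₂ * (v ≫ tB) * b₂⁻¹ := by
        rw [Category.assoc, hf₄, ← comp_conj, ← Category.assoc, pt_conj]
      rw [show v ≫ f₄ = w ≫ f₃.hom from by simp [v], Category.assoc, hf₃, ← comp_conj, ← Category.assoc, pt_conj] at h6
      have h7 : (b₁⁻¹ * b₂) * ((v ≫ t₀) ≫ f₂ ≫ e.inv) * (b₁⁻¹ * b₂)⁻¹ = w ≫ t := by
        rw [show (v ≫ t₀) ≫ f₂ ≫ e.inv = v ≫ tB from Category.assoc _ _ _]
        calc (b₁⁻¹ * b₂) * (v ≫ tB) * (b₁⁻¹ * b₂)⁻¹ = b₁⁻¹ * (b₂ * (v ≫ tB) * b₂⁻¹) * b₁ := by group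
          _ = w ≫ t := by rw [← h6]; group
      rw [← cancel_mono i, Category.assoc w, htN, Category.assoc (v ≫ t₀), Category.assoc iM, hcN,
        ← Category.assoc iM, ← Category.assoc (v ≫ t₀), pt_conj, ← hM₄, h7, Category.assoc])
  obtain ⟨bn, hbn⟩ := centralizing_pt_mem hiN hM' tM htM n fun w => (cancel_mono i).mp (by
    rw [MonObj.mul_comp, MonObj.mul_comp, Category.assoc w tN i, htN]
    have h1 := hg w
    rw [← hnz, _root_.mul_assoc, hcen z (w ≫ t ≫ iB), ← _root_.mul_assoc,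
      ← _root_.mul_assoc (w ≫ t ≫ iB)] at h1
    exact mul_right_cancel h1)
  refine ⟨((b₁⁻¹ * b₂) * (bn ≫ f₂ ≫ e.inv) * (b₁⁻¹ * b₂)⁻¹) * bz, ?_⟩
  rw [MonObj.mul_comp, hM₄, hbz, ← hnz, ← hbn, Category.assoc bn (iM ≫ cN) i, Category.assoc iM cN i, hcN,
    ← Category.assoc iM, ← Category.assoc bn (iM ≫ i), pt_conj]

set_option maxHeartbeats 1000000 in
/-- **Cartan subgroups of a Borel subgroup are Cartan subgroups of the group.** -/
theorem isCartanOver_comp {B C : Over (Spec (CommRingCat.of k))} [GrpObj B] [GrpObj C] {iB : B ⟶ G}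
    (hB : Red.IsBorelOver k iB) {c : C ⟶ B} (hC : SGA3x.IsCartanOver k c) : SGA3x.IsCartanOver k (c ≫ iB) := by
  haveI := Agent.GrpSchLib.AntiAffine.isSeparated_grp G
  obtain ⟨hcm, hcmo, T, gT, t, ht, htc⟩ := hC
  obtain ⟨hBm, hBc, hBs, -, -, -⟩ := id hB
  haveI := hcm; haveI := hcmo; haveI := hBm; haveI := hBc; haveI := hBs
  haveI : Mono iB := (Over.forget _).mono_of_mono_map (inferInstanceAs (Mono iB.left))
  have hi : AGF.IsMaxTorus (t ≫ iB) := isMaxTorus_comp_borel iB hB t (isMaxTorus_of_isMaximalTorus ht)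
  haveI := hi.1
  obtain ⟨hTa, hTl, hTs, hTc⟩ := Deform.TorusBasic.props hi.2.2.1
  haveI := hTs
  haveI : IsReduced T.left := GrpSchLib.isReduced_of_smooth_field T.hom
  refine ⟨inferInstance, mono_comp c iB, T, gT, t ≫ iB, isMaximalTorus_of_isMaxTorus hi, inferInstance,
    mono_comp c iB, fun X g => ⟨?_, fun hg => ?_⟩⟩
  · rintro ⟨z, rfl⟩ X' x h
    have h1 := ((htc.2.2 X (z ≫ c)).mp ⟨z, rfl⟩) X' x h
    have h2 := congrArg (· ≫ iB) h1
    simpa only [MonObj.mul_comp, Category.assoc] using h2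
  obtain ⟨Z, gZ, ζ, hζ, hζc, hZs⟩ :=
    Deform.exists_centralizer (Deform.isMultType_of_ft (Deform.isMultTypeFT_of_isTorus hi.2.2.1)) (t ≫ iB)
  haveI := hζc; haveI := hZs
  haveI : IsReduced Z.left := GrpSchLib.isReduced_of_smooth_field Z.hom
  obtain ⟨w, hw⟩ := Chev.exists_lift_range iB ζ (Chev.mem_of_pts _ iB.left.isClosedEmbedding.isClosed_range
    fun v => by
      obtain ⟨b, hb⟩ := centralizing_pt_mem_gen hB t hi (v ≫ ζ) fun u =>
        ((hζ.2.2 Z ζ).mp ⟨𝟙 _, Category.id_comp _⟩) _ v u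
      exact ⟨pimg b, by rw [← pimg_comp, hb]⟩)
  obtain ⟨z, hz⟩ := (hζ.2.2 X g).mpr hg
  obtain ⟨z', hz'⟩ := (htc.2.2 X (z ≫ w)).mpr fun X' x h => (cancel_mono iB).mp (by
    rw [MonObj.mul_comp, MonObj.mul_comp, Category.assoc h t iB, Category.assoc x (z ≫ w) iB, Category.assoc z w iB, hw,
      hz]
    exact hg X' x h)
  exact ⟨z', by rw [← Category.assoc, hz', Category.assoc, hw, hz]⟩

end

end Groth.Agent.Deform.Borel
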