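import Groth.Agent.Deform.Borel.TorusSep

/-!
# Rigidity of tori: a connected group normalizing a torus centralizes it
-/

universe u

open CategoryTheory CategoryTheory.Limits MonoidalCategory CartesianMonoidalCategory MonObj GrpObj AlgebraicGeometry
open WithConv

attribute [local instance] CategoryTheory.Hom.monoid CategoryTheory.Hom.group
set_option linter.style.haveILetI false
set_option linter.unusedSectionVars false

namespace Groth.Agent.Deform.Borel

open Chev (Pt pimg)
open Agent.GrpSchLib.Kunneth (Fn ev evPt evPt_comp)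
open Agent.GrpSchLib.AffineHopf (sp spMap)

noncomputable section

variable {k : Type u} [Field k] [IsAlgClosed k]

theorem evPt_eq_of (x y : Pt (𝟙_ (Over (Spec (CommRingCat.of k))))) (f : Fn (𝟙_ (Over (Spec (CommRingCat.of k))))) :
    evPt x f = evPt y f := by rw [toUnit_unique x y]

/-- A torus has finitely many points killed by `N`. -/
theorem finite_torsion (T : Over (Spec (CommRingCat.of k))) [GrpObj T] (hT : Red.IsTorus T) (N : ℕ) (hN : N ≠ 0) :
    Set.Finite {x : Pt T | x ^ N = 1} := by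
  classical
  obtain ⟨hTa, hTl, hTs, hTc⟩ := Deform.TorusBasic.props hT
  haveI := hTa; haveI := hTl; haveI := hTs; haveI := hTc
  obtain ⟨M, _, hfg, ⟨eT⟩⟩ := Deform.exists_diag T (Deform.isMultTypeFT_of_isTorus hT)
  haveI := hfg
  let b : sp k (MonoidAlgebra k M) ≅ T := (Grp.forget _).mapIso eT
  haveI : IsMonHom b.inv := eT.inv.hom.isMonHom_hom
  obtain ⟨gens, hgens⟩ := Group.fg_iff.mp hfg
  haveI : Finite gens := hgens.2.to_subtype
  let toK : Fn (𝟙_ (Over (Spec (CommRingCat.of k)))) →ₐ[k] k := evPt (𝟙 _)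
  let v : Pt T → MonoidAlgebra k M →ₐ[k] k := fun x => toK.comp (Agent.GrpSchLib.LineVec.fn (x ≫ b.inv))
  have hmul : ∀ x y : Pt T, toConv (v (x * y)) = toConv (v x) * toConv (v y) := fun x y => by
    refine WithConv.ext (MonoidAlgebra.algHom_ext (fun m => ?_) (Subsingleton.elim _ _))
    show v (x * y) (MonoidAlgebra.single m 1) = (toConv (v x) * toConv (v y)).ofConv (MonoidAlgebra.single m 1)
    rw [AlgHom.convMul_apply, MonoidAlgebra.comul_single]
    simp only [v, AlgHom.comp_apply]
    rw [MonObj.mul_comp, Agent.GrpSchLib.LineVec.fn_mul, AlgHom.convMul_apply, MonoidAlgebra.comul_single]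
    simp
  have hone : v 1 = (1 : WithConv (MonoidAlgebra k M →ₐ[k] k)).ofConv := by
    refine MonoidAlgebra.algHom_ext (fun m => ?_) (Subsingleton.elim _ _)
    show toK (Agent.GrpSchLib.LineVec.fn ((1 : Pt T) ≫ b.inv) (MonoidAlgebra.single m 1)) = _
    rw [MonObj.one_comp, Agent.GrpSchLib.LineVec.fn_one, AlgHom.convOne_apply, AlgHom.commutes, AlgHom.convOne_apply]
  let f : {x : Pt T | x ^ N = 1} → gens → {z : k | z ^ N = 1} := fun x m =>
    ⟨v x.1 (MonoidAlgebra.single (m : M) 1), by
      have h : ∀ j : ℕ, v (x.1 ^ j) (MonoidAlgebra.single (m : M) 1) = v x.1 (MonoidAlgebra.single (m : M) 1) ^ j := by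
        intro j
        induction j with
        | zero => rw [pow_zero, pow_zero, hone, AlgHom.convOne_apply]; simp
        | succ j ih =>
          rw [pow_succ, pow_succ, ← WithConv.ofConv_toConv (v (x.1 ^ j * x.1)), hmul, AlgHom.convMul_apply,
            MonoidAlgebra.comul_single]
          simp [ih]
      show _ ^ N = 1
      rw [← h, show x.1 ^ N = 1 from x.2, hone, AlgHom.convOne_apply]
      simp⟩
  have hfin : Set.Finite {z : k | z ^ N = 1} :=
    (Multiset.finite_toSet (Polynomial.nthRoots N (1 : k))).subset fun z hz =>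
      (Polynomial.mem_nthRoots (Nat.pos_of_ne_zero hN)).mpr hz
  haveI := hfin.to_subtype
  refine Set.finite_coe_iff.mp (Finite.of_injective f fun x y h => Subtype.ext ?_)
  have hv : v x.1 = v y.1 := by
    refine MonoidAlgebra.algHom_ext (fun m => ?_) (Subsingleton.elim _ _)
    exact DFunLike.congr_fun (MonoidHom.eq_of_eqOn_dense hgens.1
      (f := (v x.1).toMonoidHom.comp (MonoidAlgebra.of k M)) (g := (v y.1).toMonoidHom.comp (MonoidAlgebra.of k M))
      fun s hs => congrArg Subtype.val (congrFun h ⟨s, hs⟩)) m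
  haveI : Mono b.inv := inferInstance
  refine (cancel_mono b.inv).mp (Agent.GrpSchLib.LineVec.fn_injective (AlgHom.ext fun a => ?_))
  have h1 := DFunLike.congr_fun hv a
  simp only [v, AlgHom.comp_apply, toK] at h1
  have h2 : ∀ c : Fn (𝟙_ (Over (Spec (CommRingCat.of k)))),
      c = algebraMap k _ (evPt (𝟙 _) c) := fun c => by
    rw [← ev_pt_eq, Agent.GrpSchLib.Kunneth.ev_id]
  rw [h2 (Agent.GrpSchLib.LineVec.fn (x.1 ≫ b.inv) a), h1, ← h2]

/-- A morphism from an irreducible variety taking finitely many values on points is constant on points. -/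
theorem const_of_finite {G Y : Over (Spec (CommRingCat.of k))} [LocallyOfFiniteType G.hom] [IrreducibleSpace G.left]
    [LocallyOfFiniteType Y.hom] (φ : G ⟶ Y) {s : Set (Pt Y)} (hs : s.Finite) (h : ∀ g : Pt G, g ≫ φ ∈ s)
    (g g' : Pt G) : g ≫ φ = g' ≫ φ := by
  haveI : JacobsonSpace G.left := LocallyOfFiniteType.jacobsonSpace G.hom
  let Z : Pt Y → Set G.left := fun c => φ.left ⁻¹' {pimg c}
  have hZ : ∀ c, IsClosed (Z c) := fun c =>
    ((pointEquivClosedPoint Y.hom) ⟨c.left, Over.w c⟩).2.preimage φ.left.continuous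
  have hcov : (Set.univ : Set G.left) ⊆ ⋃ c ∈ hs.toFinset, Z c := by
    rw [← closure_closedPoints (X := G.left)]
    refine closure_minimal (fun y hy => ?_) (isClosed_biUnion_finset fun c _ => hZ c)
    obtain ⟨p, rfl⟩ := Chev.exists_pimg_eq hy
    exact Set.mem_biUnion (hs.mem_toFinset.mpr (h p)) rfl
  obtain ⟨z, hz, hzs⟩ : ∃ z ∈ (hs.toFinset.image Z : Finset (Set G.left)), (Set.univ : Set G.left) ⊆ z := by
    classical
    refine isIrreducible_iff_sUnion_isClosed.mp (IrreducibleSpace.isIrreducible_univ G.left) _ ?_ ?_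
    · intro z hz
      obtain ⟨c, -, rfl⟩ := Finset.mem_image.mp hz
      exact hZ c
    · refine hcov.trans ?_
      intro y hy
      obtain ⟨c, hc, hy⟩ := Set.mem_iUnion₂.mp hy
      exact ⟨Z c, by simpa using ⟨c, (by simpa using hc : c ∈ s), rfl⟩, hy⟩
  classical
  obtain ⟨c, -, rfl⟩ := Finset.mem_image.mp hz
  have key : ∀ p : Pt G, p ≫ φ = c := fun p => Chev.pimg_injective (hzs (Set.mem_univ (pimg p)))
  rw [key, key]

/-- **A connected group normalizing a torus centralizes it.** -/
theorem comm_of_normal (G : Over (Spec (CommRingCat.of k))) [GrpObj G] [IsAffine G.left] [Smooth G.hom]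
    [ConnectedSpace G.left] {T : Over (Spec (CommRingCat.of k))} [GrpObj T] (hT : Red.IsTorus T) (i : T ⟶ G)
    [IsMonHom i] [Mono i] (hn : ∀ (g : Pt G) (t : Pt T), ∃ t' : Pt T, t' ≫ i = g * (t ≫ i) * g⁻¹)
    (g : Pt G) (w : Pt T) : g * (w ≫ i) = (w ≫ i) * g := by
  classical
  haveI : IsAffineHom G.hom := isAffineHom_of_isAffine _
  haveI : IsIntegral G.left := Agent.GrpSchLib.Kunneth.isIntegral_grp G
  haveI : IrreducibleSpace G.left := inferInstance
  obtain ⟨N, t, hN, htN, hreg⟩ := exists_regular G hT i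
  refine hreg g ?_ w
  let y : Pt G := t ≫ i
  let φ : G ⟶ G := 𝟙 G * (toUnit G ≫ y) * (𝟙 G)⁻¹
  have hφ : ∀ p : Pt G, p ≫ φ = p * y * p⁻¹ := fun p => by
    simp only [φ, MonObj.comp_mul, GrpObj.comp_inv, Category.comp_id, pt_const]
  have hfin := (finite_torsion T hT N (fun h => hN (by simp [h]))).image (· ≫ i)
  have hmem : ∀ p : Pt G, p ≫ φ ∈ (· ≫ i) '' {x : Pt T | x ^ N = 1} := fun p => by
    obtain ⟨t', ht'⟩ := hn p t
    refine ⟨t', ?_, by rw [hφ]; exact ht'⟩
    let H : Pt T →* Pt G := { toFun := fun w => w ≫ i, map_one' := MonObj.one_comp _, map_mul' := fun a b => MonObj.mul_comp a b _ }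
    have hH : Function.Injective H := fun a b h => (cancel_mono i).mp h
    refine hH ?_
    rw [map_pow, show H t' = p * y * p⁻¹ from ht', conj_pow, show y ^ N = H (t ^ N) from (map_pow H t N).symm, htN,
      map_one, _root_.mul_one, mul_inv_cancel]
  have h := const_of_finite φ hfin hmem g 1
  rw [hφ, hφ, _root_.one_mul, inv_one, _root_.mul_one] at h
  exact mul_inv_eq_iff_eq_mul.mp h

end

end Groth.Agent.Deform.Borel
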