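import Groth.Agent.Deform.Borel.ImageTorus
import Groth.Agent.Deform.Borel.NonAffine
import Groth.Agent.Deform.Borel.CartanNorm
import Groth.Agent.Deform.Borel.Rigid

/-!
# Images of maximal tori and Cartan subgroups of groups which need not be affine
-/

universe u

open CategoryTheory CategoryTheory.Limits MonoidalCategory CartesianMonoidalCategory MonObj GrpObj AlgebraicGeometry

attribute [local instance] CategoryTheory.Hom.monoid CategoryTheory.Hom.group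
set_option linter.style.haveILetI false
set_option linter.unusedSectionVars false

namespace Groth.Agent.Deform.Borel

open Chev (Pt pimg pimg_comp)

noncomputable section

variable {k : Type u} [Field k] [IsAlgClosed k]

/-- **A homomorphism to a connected group meeting all points up to finitely many translates is surjective.** -/
theorem surjective_of_cosets {J S : Over (Spec (CommRingCat.of k))} [GrpObj J] [GrpObj S] [LocallyOfFiniteType J.hom]
    [QuasiCompact J.hom] [Smooth S.hom] [QuasiCompact S.hom] [ConnectedSpace S.left] (f : J ⟶ S) [IsMonHom f]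
    (R : Finset (Pt S)) (h : ∀ w : Pt S, ∃ r ∈ R, ∃ x : Pt J, r * (x ≫ f) = w) : Surjective f.left := by
  classical
  obtain ⟨I, gI, p, j, hp, hj, hpj, hjc, -, hsu, hIl, -⟩ := Agent.GrpSchLib.ImageFactor.exists_image f
  haveI := hjc; haveI := hsu; haveI := hj; haveI := hIl
  haveI : IsIntegral S.left := Agent.GrpSchLib.Kunneth.isIntegral_grp S
  let tr : Pt S → (S ⟶ S) := fun r => (toUnit S ≫ r⁻¹) * 𝟙 S
  have htr : ∀ (r w : Pt S), w ≫ tr r = r⁻¹ * w := fun r w => by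
    simp only [tr, MonObj.comp_mul, Category.comp_id]
    rw [← Category.assoc, toUnit_unique (w ≫ toUnit S) (𝟙 _), Category.id_comp]
  let Z : Pt S → Set S.left := fun r => (tr r).left ⁻¹' Set.range j.left
  have hZ : ∀ r, IsClosed (Z r) := fun r =>
    j.left.isClosedEmbedding.isClosed_range.preimage (tr r).left.continuous
  have hcov : (Set.univ : Set S.left) ⊆ ⋃₀ ↑(R.image Z) := by
    intro z _
    refine Chev.mem_of_pts (𝟙 S) ?_ (fun w => ?_) ⟨z, rfl⟩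
    · rw [Set.sUnion_eq_biUnion]
      exact (R.image Z).finite_toSet.isClosed_biUnion fun t ht => by
        obtain ⟨r, -, rfl⟩ := Finset.mem_image.mp ht
        exact hZ r
    · obtain ⟨r, hr, x, hx⟩ := h w
      refine ⟨Z r, Finset.mem_image.mpr ⟨r, hr, rfl⟩, pimg (x ≫ p), ?_⟩
      show j.left (pimg (x ≫ p)) = (tr r).left (pimg (w ≫ 𝟙 S))
      rw [← pimg_comp, ← pimg_comp, Category.comp_id, htr, Category.assoc, hpj, ← hx, inv_mul_cancel_left]
  obtain ⟨_, hZr, hall⟩ := isIrreducible_iff_sUnion_isClosed.mp (IrreducibleSpace.isIrreducible_univ _) (R.image Z)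
    (fun t ht => by obtain ⟨r, -, rfl⟩ := Finset.mem_image.mp ht; exact hZ r) hcov
  obtain ⟨r, -, rfl⟩ := Finset.mem_image.mp hZr
  have hj' : ∀ w : Pt S, ∃ y : Pt I, y ≫ j = r⁻¹ * w := fun w => exists_lift_pt j (by
    have h1 : pimg w ∈ Z r := hall (Set.mem_univ _)
    rw [← htr, pimg_comp]
    exact h1)
  obtain ⟨y₁, hy₁⟩ := hj' 1
  constructor
  intro z
  obtain ⟨x, hx⟩ := Chev.mem_of_pts (𝟙 S) j.left.isClosedEmbedding.isClosed_range (fun w => by
    obtain ⟨y, hy⟩ := hj' w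
    refine ⟨pimg (y₁⁻¹ * y), ?_⟩
    rw [← pimg_comp, MonObj.mul_comp, GrpObj.inv_comp, hy, hy₁, Category.comp_id, _root_.mul_one, _root_.inv_inv,
      mul_inv_cancel_left]) ⟨z, rfl⟩
  obtain ⟨x', rfl⟩ := hsu.surj x
  refine ⟨x', ?_⟩
  rw [← hpj]
  exact hx

variable {G H : Over (Spec (CommRingCat.of k))} [GrpObj G] [GrpObj H] [Smooth G.hom] [QuasiCompact G.hom]
  [ConnectedSpace G.left] [Smooth H.hom] [QuasiCompact H.hom] [ConnectedSpace H.left]

set_option maxHeartbeats 1000000 in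
/-- **Connected affine subgroups of a quotient come from the affine part.** -/
theorem affine_lift_pts (v : G ⟶ H) [IsMonHom v] [Surjective v.left] {N : Over (Spec (CommRingCat.of k))}
    [GrpObj N] (iN : N ⟶ G)
    (hlift : ∀ (A : Over (Spec (CommRingCat.of k))) [GrpObj A] [IsAffine A.left] [Smooth A.hom] [ConnectedSpace A.left]
      (a : A ⟶ G) [IsMonHom a], ∃ a' : A ⟶ N, a' ≫ iN = a)
    {S : Over (Spec (CommRingCat.of k))} [GrpObj S] [IsAffine S.left] [Smooth S.hom] [ConnectedSpace S.left]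
    (s : S ⟶ H) [IsMonHom s] (w : Pt S) : ∃ n : Pt N, (n ≫ iN) ≫ v = w ≫ s := by
  haveI := Agent.GrpSchLib.AntiAffine.isSeparated_grp H
  haveI : IsAffineHom S.hom := isAffineHom_of_isAffine _
  haveI : LocallyOfFiniteType (G ⊗ S).hom :=
    inferInstanceAs (LocallyOfFiniteType (pullback.fst G.hom S.hom ≫ G.hom))
  haveI : QuasiCompact (G ⊗ S).hom := inferInstanceAs (QuasiCompact (pullback.fst G.hom S.hom ≫ G.hom))
  let ψ : G ⊗ S ⟶ H := (fst G S ≫ v) * (snd G S ≫ s)⁻¹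
  have hψ : ∀ u : Pt (G ⊗ S), u ≫ ψ = ((u ≫ fst G S) ≫ v) * ((u ≫ snd G S) ≫ s)⁻¹ := fun u => by
    simp only [ψ, MonObj.comp_mul, GrpObj.comp_inv, Category.assoc]
  let P : Subgroup (Pt (G ⊗ S)) :=
    { carrier := {u | (u ≫ fst G S) ≫ v = (u ≫ snd G S) ≫ s}
      one_mem' := by simp only [Set.mem_setOf_eq, MonObj.one_comp]
      mul_mem' := fun {a b} ha hb => by
        simp only [Set.mem_setOf_eq, MonObj.mul_comp] at ha hb ⊢
        rw [ha, hb]
      inv_mem' := fun {a} ha => by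
        simp only [Set.mem_setOf_eq, GrpObj.inv_comp] at ha ⊢
        rw [ha] }
  have hC : IsClosed (ψ.left ⁻¹' {pimg (1 : Pt H)}) :=
    (((pointEquivClosedPoint H.hom) ⟨(1 : Pt H).left, Over.w _⟩).2).preimage ψ.left.continuous
  have hCP : ∀ u : Pt (G ⊗ S), pimg u ∈ ψ.left ⁻¹' {pimg (1 : Pt H)} ↔ u ∈ P := fun u => by
    rw [Set.mem_preimage, Set.mem_singleton_iff, ← pimg_comp, Chev.pimg_injective.eq_iff, hψ, mul_inv_eq_one]
    rfl
  obtain ⟨J, gJ, j, hj, hjc, hJs, hJq, hJc, hJP, ⟨R, hR⟩, -⟩ := exists_neutral_fin P hC hCP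
  haveI := hj; haveI := hJs; haveI := hJq; haveI := hJc
  classical
  haveI : IsMonHom (j ≫ snd G S) := inferInstance
  haveI : Surjective (j ≫ snd G S).left := surjective_of_cosets _ (R.image fun r => (r ≫ snd G S)⁻¹) fun x => by
    obtain ⟨g, hg⟩ := exists_pt_over v (x⁻¹ ≫ s)
    obtain ⟨r, hr, y, hy⟩ := hR (lift g x⁻¹) (by
      show (lift g x⁻¹ ≫ fst G S) ≫ v = (lift g x⁻¹ ≫ snd G S) ≫ s
      rw [lift_fst, lift_snd, hg])
    refine ⟨(r ≫ snd G S)⁻¹, Finset.mem_image.mpr ⟨r, hr, rfl⟩, y⁻¹, ?_⟩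
    rw [GrpObj.inv_comp, ← _root_.mul_inv_rev, ← Category.assoc, ← MonObj.mul_comp, hy, lift_snd, _root_.inv_inv]
  obtain ⟨NJ, gNJ, iJ, Q, gQ, q, hiJ, hiJc, hNJs, hNJq, hNJc, hNJa, -, hq, hqf, hqs, hk, hQ, hQs, hQc⟩ :=
    Chev.exists_decomp (G := J)
  haveI := hiJ; haveI := hiJc; haveI := hNJs; haveI := hNJc; haveI := hNJa; haveI := hq; haveI := hqs
  haveI := hQ; haveI := hQc
  obtain ⟨K, gK, κ, hκ, hκc, hKl, hKq, hKb, I, gI, p, hp, hI, hIl, hpf, hps, hkp⟩ := AntiAffineParts.exists_ant J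
  haveI := hκ; haveI := hKl; haveI := hKq; haveI := hp; haveI := hI; haveI := hIl; haveI := hpf; haveI := hps
  haveI := AntiAffineParts.surjective_proper hKb κ p hkp q
  haveI := AntiAffineParts.surjective_mul iJ q hk κ
  haveI : LocallyOfFiniteType (NJ ⊗ K).hom :=
    inferInstanceAs (LocallyOfFiniteType (pullback.fst NJ.hom K.hom ≫ NJ.hom))
  obtain ⟨y, hy⟩ := exists_pt_over (j ≫ snd G S) w
  obtain ⟨x, hx⟩ := exists_pt_over ((iJ ⊗ₘ κ) ≫ μ[J]) y
  have hxy : ((x ≫ fst NJ K) ≫ iJ) * ((x ≫ snd NJ K) ≫ κ) = y := by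
    rw [Hom.mul_def, ← lift_map_assoc, ← hx]
    congr 1
    apply CartesianMonoidalCategory.hom_ext <;> simp
  have hKS : κ ≫ j ≫ snd G S = 1 := AntiAffineParts.eq_one_of_isAffine hKb _ (by
    rw [IsMonHom.one_hom, MonObj.one_eq_one])
  obtain ⟨a, ha⟩ := hlift NJ (iJ ≫ j ≫ fst G S)
  refine ⟨(x ≫ fst NJ K) ≫ a, ?_⟩
  have hz : ((x ≫ snd NJ K) ≫ κ) ≫ j ≫ snd G S = 1 := by rw [Category.assoc, hKS, MonObj.comp_one]
  rw [Category.assoc (x ≫ fst NJ K) a iN, ha, ← hy, ← hxy, MonObj.mul_comp, hz, _root_.mul_one]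
  have h0 : ((((x ≫ fst NJ K) ≫ iJ) ≫ j) ≫ fst G S) ≫ v = ((((x ≫ fst NJ K) ≫ iJ) ≫ j) ≫ snd G S) ≫ s :=
    hJP ((x ≫ fst NJ K) ≫ iJ)
  simpa only [Category.assoc] using h0

set_option maxHeartbeats 2000000 in
/-- **Images of maximal tori are maximal tori, and centralisers map onto centralisers.** -/
theorem exists_image_cartan (v : G ⟶ H) [IsMonHom v] [Surjective v.left]
    {T C : Over (Spec (CommRingCat.of k))} [GrpObj T] [GrpObj C] {i : T ⟶ G} (hi : AGF.IsMaxTorus i) {c : C ⟶ G}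
    (hc : Red.IsCentralizerOf i c) :
    ∃ (T₁ : Over (Spec (CommRingCat.of k))) (_ : GrpObj T₁) (t₁ : T₁ ⟶ H) (p : T ⟶ T₁),
      AGF.IsMaxTorus t₁ ∧ IsMonHom p ∧ Flat p.left ∧ Surjective p.left ∧ QuasiCompact p.left ∧ p ≫ t₁ = i ≫ v ∧
      ∀ (Z : Over (Spec (CommRingCat.of k))) [GrpObj Z] (ζ : Z ⟶ H), Red.IsCentralizerOf t₁ ζ →
        ∃ r : C ⟶ Z, IsMonHom r ∧ r ≫ ζ = c ≫ v ∧ Flat r.left ∧ Surjective r.left ∧ QuasiCompact r.left := by
  classical
  haveI := Agent.GrpSchLib.AntiAffine.isSeparated_grp G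
  haveI := Agent.GrpSchLib.AntiAffine.isSeparated_grp H
  obtain ⟨him, himo, hT, hmax⟩ := id hi
  haveI := him; haveI := himo
  obtain ⟨hTa, hTl, hTs, hTc⟩ := Deform.TorusBasic.props hT
  haveI := hTa; haveI := hTl; haveI := hTs; haveI := hTc
  haveI : IsAffineHom T.hom := isAffineHom_of_isAffine _
  obtain ⟨N, gN, iN, K, gK, κ, hiN, hiNc, hNs, hNc, hNa, hκ, hKs, hKq, hKc, -, hcen, hmul, hlift, -⟩ :=
    exists_affine_mul_central (G := G)
  haveI := hiN; haveI := hiNc; haveI := hNs; haveI := hNc; haveI := hNa; haveI := hκ; haveI := hKs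
  obtain ⟨M, gM, iM, -, -, -, hiM, hiMc, hMs, hMc, hMa, -, -, -, -, -, -, -, hliftM, -⟩ :=
    exists_affine_mul_central (G := H)
  haveI := hiM; haveI := hiMc; haveI := hMs; haveI := hMc; haveI := hMa
  haveI : Mono iN := (Over.forget _).mono_of_mono_map (inferInstanceAs (Mono iN.left))
  haveI : Mono iM := (Over.forget _).mono_of_mono_map (inferInstanceAs (Mono iM.left))
  haveI : IsAffineHom N.hom := isAffineHom_of_isAffine _
  haveI : IsAffineHom M.hom := isAffineHom_of_isAffine _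
  obtain ⟨vN, hvN⟩ := hliftM N (iN ≫ v)
  haveI : IsMonHom vN := Deform.isMonHom_of_comp vN iM (i := iN ≫ v) hvN
  have hvN' : ∀ n : Pt N, (n ≫ vN) ≫ iM = (n ≫ iN) ≫ v := fun n => by rw [Category.assoc, hvN, Category.assoc]
  haveI : Surjective vN.left := surjective_of_cosets vN {1} fun w => by
    obtain ⟨n, hn⟩ := affine_lift_pts v iN hlift iM w
    exact ⟨1, Finset.mem_singleton_self _, n, by rw [_root_.one_mul, ← cancel_mono iM, hvN', hn]⟩
  obtain ⟨tN, htN⟩ := hlift T i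
  haveI : IsMonHom tN := Deform.isMonHom_of_comp tN iN (i := i) htN
  haveI : Mono (tN ≫ iN) := by rw [htN]; infer_instance
  haveI : Mono tN := mono_of_mono tN iN
  have hiN' : AGF.IsMaxTorus tN := ⟨inferInstance, inferInstance, hT, fun T' _ j _ _ f hT' hf =>
    hmax T' (j ≫ iN) f hT' (by rw [← Category.assoc, hf, htN])⟩
  -- the image of the torus
  obtain ⟨T₁, gT₁, p, t₁, hp, ht₁, hpt, ht₁c, hpf, hps, hT₁l, hT₁q⟩ :=
    Agent.GrpSchLib.ImageFactor.exists_image (tN ≫ vN)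
  haveI := hp; haveI := ht₁; haveI := ht₁c; haveI := hpf; haveI := hps; haveI := hT₁l; haveI := hT₁q
  haveI : IsReduced T.left := GrpSchLib.isReduced_of_smooth_field T.hom
  haveI : IsReduced T₁.left := FBaseLib.isReduced_of_flat_surjective p.left
  haveI : QuasiCompact (p.left ≫ T₁.hom) := by rw [Over.w p]; infer_instance
  haveI : IsAffine T₁.left := isAffine_of_isAffineHom t₁.left
  haveI : IsAffineHom T₁.hom := isAffineHom_of_isAffine _
  haveI : QuasiCompact p.left := QuasiCompact.of_comp p.left T₁.hom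
  have hmaxM : AGF.IsMaxTorus t₁ := isMaxTorus_image vN hiN' t₁ p hpt
  haveI : Smooth T₁.hom := (Deform.TorusBasic.props hmaxM.2.2.1).2.2.1
  haveI : Mono t₁ := hmaxM.2.1
  haveI : Mono (t₁ ≫ iM) := mono_comp t₁ iM
  have hpi : p ≫ t₁ ≫ iM = i ≫ v := by rw [reassoc_of% hpt, hvN, reassoc_of% htN]
  have hmax₁ : AGF.IsMaxTorus (t₁ ≫ iM) := ⟨inferInstance, inferInstance, hmaxM.2.2.1, fun T' _ j _ _ f hT' hf => by
    obtain ⟨hTa', hTl', hTs', hTc'⟩ := Deform.TorusBasic.props hT'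
    haveI := hTa'; haveI := hTs'; haveI := hTc'
    obtain ⟨j', hj'⟩ := hliftM T' j
    haveI : IsMonHom j' := Deform.isMonHom_of_comp j' iM (i := j) hj'
    haveI : Mono (j' ≫ iM) := by rw [hj']; infer_instance
    haveI : Mono j' := mono_of_mono j' iM
    exact hmaxM.2.2.2 T' j' f hT' ((cancel_mono iM).mp (by rw [Category.assoc, hj', hf]))⟩
  refine ⟨T₁, gT₁, t₁ ≫ iM, p, hmax₁, hp, hpf, hps, inferInstance, hpi, fun Z _ ζ hζ => ?_⟩
  obtain ⟨hζc, hZs⟩ := centralizer_smooth hmaxM.2.2.1 hζ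
  obtain ⟨-, hZc⟩ := centralizer_props hmaxM.2.2.1 hζ
  obtain ⟨hcc, hCs⟩ := centralizer_smooth hT hc
  haveI := hζc; haveI := hZs; haveI := hZc; haveI := hcc; haveI := hCs; haveI := hζ.1; haveI := hc.1
  haveI : Mono ζ := hζ.2.1
  haveI : Mono c := hc.2.1
  haveI : QuasiCompact C.hom := by rw [← Over.w c]; infer_instance
  haveI : QuasiCompact Z.hom := by rw [← Over.w ζ]; infer_instance
  haveI : IsReduced C.left := GrpSchLib.isReduced_of_smooth_field C.hom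
  obtain ⟨r, hr⟩ := Chev.exists_lift_range ζ (c ≫ v) (Chev.mem_of_pts _ ζ.left.isClosedEmbedding.isClosed_range
    fun x => by
      obtain ⟨z, hz⟩ := (pts_centralizer hζ (x ≫ c ≫ v)).mpr fun w => by
        obtain ⟨w', rfl⟩ := exists_pt_over p w
        have h1 := congrArg (· ≫ v) (centralizer_comm hc x w')
        simp only [MonObj.mul_comp, Category.assoc] at h1 ⊢
        rw [hpi]
        exact h1
      exact ⟨pimg z, by rw [← pimg_comp, hz]⟩)
  haveI : IsMonHom r := Deform.isMonHom_of_comp r ζ (i := c ≫ v) hr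
  -- finitely many classes in the normaliser
  obtain ⟨m₀, t₀, hm₀, ht₀, hreg⟩ := exists_regular N hT tN
  have hfin := (finite_torsion T hT m₀ (fun h => hm₀ (by simp [h]))).image (· ≫ tN)
  let Q : Pt N → Prop := fun m => (∀ w : Pt T, ∃ w' : Pt T, w' ≫ tN = m * (w ≫ tN) * m⁻¹) ∧
    ∀ w : Pt T₁, (m ≫ vN) * (w ≫ t₁) = (w ≫ t₁) * (m ≫ vN)
  have hreps : ∀ σ : Pt N, ∃ x : Pt Z, ∀ m, Q m → m * (t₀ ≫ tN) * m⁻¹ = σ →
      ∃ m', Q m' ∧ m' * (t₀ ≫ tN) * m'⁻¹ = σ ∧ x ≫ ζ = (m' ≫ iN) ≫ v := fun σ => by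
    by_cases h : ∃ m, Q m ∧ m * (t₀ ≫ tN) * m⁻¹ = σ
    · obtain ⟨m', hm', hσ⟩ := h
      obtain ⟨x, hx⟩ := (pts_centralizer hζ ((m' ≫ iN) ≫ v)).mpr fun w => by
        rw [← hvN', ← Category.assoc w, ← MonObj.mul_comp, ← MonObj.mul_comp, hm'.2 w]
      exact ⟨x, fun m _ _ => ⟨m', hm', hσ, hx⟩⟩
    · exact ⟨1, fun m hm hσ => absurd ⟨m, hm, hσ⟩ h⟩
  choose rep hrep using hreps
  haveI : Surjective r.left := surjective_of_cosets r (hfin.toFinset.image rep) fun x => by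
    obtain ⟨g, hg⟩ := exists_pt_over v (x ≫ ζ)
    obtain ⟨n, z, hnz⟩ := hmul g
    have hnv : ∀ w : Pt T₁, (n ≫ vN) * (w ≫ t₁) = (w ≫ t₁) * (n ≫ vN) := fun w => by
      rw [← cancel_mono iM, MonObj.mul_comp, MonObj.mul_comp, hvN']
      obtain ⟨w', rfl⟩ := exists_pt_over p w
      rw [Category.assoc (w' ≫ p), Category.assoc w' p (t₁ ≫ iM), hpi, ← Category.assoc w' i v]
      have h1 := (pts_centralizer hζ (x ≫ ζ)).mp ⟨x, rfl⟩ (w' ≫ p)
      rw [Category.assoc w' p (t₁ ≫ iM), hpi, ← Category.assoc w' i v, ← hg, ← hnz, MonObj.mul_comp] at h1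
      have h2 := congrArg (· ≫ v) (hcen z (w' ≫ i))
      simp only [MonObj.mul_comp] at h2
      rw [_root_.mul_assoc, h2, ← _root_.mul_assoc, ← _root_.mul_assoc ((w' ≫ i) ≫ v)] at h1
      exact mul_right_cancel h1
    -- move `n` into the normaliser
    let P : Subgroup (Pt N) :=
      { carrier := {u | ∃ w : Pt T₁, w ≫ t₁ = u ≫ vN}
        one_mem' := ⟨1, by rw [MonObj.one_comp, MonObj.one_comp]⟩
        mul_mem' := fun {a b} ⟨y, hy⟩ ⟨y', hy'⟩ => ⟨y * y', by rw [MonObj.mul_comp, MonObj.mul_comp, hy, hy']⟩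
        inv_mem' := fun {a} ⟨y, hy⟩ => ⟨y⁻¹, by rw [GrpObj.inv_comp, GrpObj.inv_comp, hy]⟩ }
    obtain ⟨J, gJ, j, hj, hjc, hJs, hJq, hJc, hJP, hJlift⟩ := exists_neutral P
      (t₁.left.isClosedEmbedding.isClosed_range.preimage vN.left.continuous) fun u => by
        refine ⟨fun h => exists_lift_pt t₁ ?_, fun ⟨y, hy⟩ => ⟨pimg y, ?_⟩⟩
        · rw [pimg_comp]; exact h
        · rw [← pimg_comp, hy, pimg_comp]
    haveI := hj; haveI := hjc; haveI := hJs; haveI := hJq; haveI := hJc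
    haveI : Mono j := (Over.forget _).mono_of_mono_map (inferInstanceAs (Mono j.left))
    obtain ⟨s, -, hs⟩ := hJlift T tN fun w => ⟨w ≫ p, by rw [Category.assoc, hpt, Category.assoc]⟩
    obtain ⟨s', -, hs'⟩ := hJlift T (tN ≫ conj n) fun w => ⟨w ≫ p, by
      rw [Category.assoc, hpt, ← Category.assoc w tN (conj n), pt_conj, MonObj.mul_comp, MonObj.mul_comp,
        GrpObj.inv_comp, Category.assoc w tN vN, ← hpt, ← Category.assoc w p t₁, hnv (w ≫ p), mul_inv_cancel_right]⟩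
    haveI : Mono (conj n) := IsSplitMono.mono _ (hf := IsSplitMono.mk' ⟨conj n⁻¹, conj_right_inv n⟩)
    haveI : IsMonHom s := Deform.isMonHom_of_comp s j (i := tN) hs
    haveI : IsMonHom s' := Deform.isMonHom_of_comp s' j (i := tN ≫ conj n) hs'
    haveI : Mono (s ≫ j) := by rw [hs]; infer_instance
    haveI : Mono s := mono_of_mono s j
    haveI : Mono (s' ≫ j) := by rw [hs']; exact mono_comp tN _
    haveI : Mono s' := mono_of_mono s' j
    have hs₁ : AGF.IsMaxTorus s := ⟨inferInstance, inferInstance, hT, fun T₀ _ l _ _ d hT₀ hd =>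
      hiN'.2.2.2 T₀ (l ≫ j) d hT₀ (by rw [← Category.assoc, hd, hs])⟩
    have hs₂ : AGF.IsMaxTorus s' := ⟨inferInstance, inferInstance, hT, fun T₀ _ l _ _ d hT₀ hd => by
      haveI : Mono (conj n⁻¹) := IsSplitMono.mono _ (hf := IsSplitMono.mk' ⟨conj n⁻¹⁻¹, conj_right_inv n⁻¹⟩)
      exact hiN'.2.2.2 T₀ (l ≫ j ≫ conj n⁻¹) d hT₀ (by
        rw [← Category.assoc, hd, ← Category.assoc, hs', Category.assoc, conj_right_inv, Category.comp_id])⟩
    obtain ⟨a, e, -, he⟩ := conj_of_max s' s hs₂ hs₁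
    obtain ⟨y, hy⟩ := hJP a
    obtain ⟨u, rfl⟩ := exists_pt_over p y
    let m : Pt N := (u ≫ tN)⁻¹ * ((a ≫ j) * n)
    have hm : m ≫ vN = n ≫ vN := by
      show ((u ≫ tN)⁻¹ * ((a ≫ j) * n)) ≫ vN = n ≫ vN
      rw [MonObj.mul_comp, MonObj.mul_comp, GrpObj.inv_comp, Category.assoc u tN vN, ← hpt,
        ← Category.assoc u p t₁, hy, inv_mul_cancel_left]
    have hQ : Q m := by
      refine ⟨fun w => ⟨w ≫ e.hom, ?_⟩, fun w => by rw [hm]; exact hnv w⟩
      have h1 : (((w ≫ e.hom) ≫ s) ≫ j) = (a ≫ j) * ((w ≫ tN) ≫ conj n) * (a ≫ j)⁻¹ := by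
        rw [Category.assoc w e.hom s, he, ← comp_conj, ← Category.assoc w s', pt_conj, MonObj.mul_comp,
          MonObj.mul_comp, GrpObj.inv_comp, Category.assoc w s' j, hs', ← Category.assoc w tN]
      rw [Category.assoc (w ≫ e.hom) s j, hs, pt_conj] at h1
      have h2 : (w ≫ e.hom) ≫ tN = (u ≫ tN)⁻¹ * ((w ≫ e.hom) ≫ tN) * (u ≫ tN) := by
        rw [← GrpObj.inv_comp, ← MonObj.mul_comp, ← MonObj.mul_comp,
          Agent.GrpSchLib.MultTypeComm.points_comm (Deform.isMultTypeFT_of_isTorus hT) u⁻¹ (w ≫ e.hom),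
          inv_mul_cancel_right]
      rw [h2, h1]
      simp only [m]
      group
    have hmem : m * (t₀ ≫ tN) * m⁻¹ ∈ (· ≫ tN) '' {w : Pt T | w ^ m₀ = 1} := by
      obtain ⟨w', hw'⟩ := hQ.1 t₀
      refine ⟨w', ?_, hw'⟩
      show w' ^ m₀ = 1
      refine (cancel_mono tN).mp ?_
      rw [show (w' ^ m₀) ≫ tN = (w' ≫ tN) ^ m₀ from map_pow (ptsMap tN) w' m₀, hw', conj_pow,
        show (t₀ ≫ tN) ^ m₀ = (t₀ ^ m₀) ≫ tN from (map_pow (ptsMap tN) t₀ m₀).symm, ht₀, MonObj.one_comp,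
        _root_.mul_one, mul_inv_cancel]
    refine ⟨rep (m * (t₀ ≫ tN) * m⁻¹), Finset.mem_image.mpr ⟨_, hfin.mem_toFinset.mpr hmem, rfl⟩, ?_⟩
    obtain ⟨m', -, hσ, hrep'⟩ := hrep _ m hQ rfl
    obtain ⟨y', hy'⟩ := (pts_centralizer hc (((m'⁻¹ * m) ≫ iN) * (z ≫ κ))).mpr fun w => by
      have h1 := hreg (m'⁻¹ * m) (by
        calc m'⁻¹ * m * (t₀ ≫ tN) = m'⁻¹ * (m * (t₀ ≫ tN) * m⁻¹) * m := by group
          _ = _ := by rw [← hσ]; group) w
      have h2 := congrArg (· ≫ iN) h1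
      simp only [MonObj.mul_comp, Category.assoc, htN] at h2
      rw [_root_.mul_assoc, hcen z (w ≫ i), ← _root_.mul_assoc, MonObj.mul_comp, h2, _root_.mul_assoc]
    refine ⟨y', ?_⟩
    rw [← cancel_mono ζ, MonObj.mul_comp, hrep', Category.assoc y' r ζ, hr, ← Category.assoc y' c v, hy', ← hg, ← hnz]
    simp only [MonObj.mul_comp, GrpObj.inv_comp]
    rw [← hvN' m, hm, hvN' n]
    group
  haveI : IsReduced Z.left := GrpSchLib.isReduced_of_smooth_field Z.hom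
  haveI : QuasiCompact (r.left ≫ Z.hom) := by rw [Over.w r]; infer_instance
  haveI : QuasiCompact r.left := QuasiCompact.of_comp r.left Z.hom
  exact ⟨r, inferInstance, hr, Agent.GrpSchLib.flat_of_surjective_hom r, inferInstance, inferInstance⟩

/-- Two monomorphisms covered by the same morphism have the same points. -/
theorem factors_of_covers {A B₁ B₂ X : Over (Spec (CommRingCat.of k))} [GrpObj A] (c₁ : B₁ ⟶ H) (c₂ : B₂ ⟶ H)
    [Mono c₂] [QuasiCompact A.hom] (w₁ : A ⟶ B₁) (w₂ : A ⟶ B₂) [Flat w₁.left] [Surjective w₁.left]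
    (h : w₁ ≫ c₁ = w₂ ≫ c₂) [Mono c₁] (g : X ⟶ H) (hg : ∃ x, x ≫ c₁ = g) : ∃ x, x ≫ c₂ = g := by
  haveI := Agent.GrpSchLib.AntiAffine.isSeparated_grp H
  haveI : Mono c₁.left := (Over.forget _).map_mono c₁
  haveI : Mono c₂.left := (Over.forget _).map_mono c₂
  haveI : IsSeparated B₁.hom := by rw [← Over.w c₁]; infer_instance
  haveI : QuasiCompact (w₁.left ≫ B₁.hom) := by rw [Over.w w₁]; infer_instance
  haveI : QuasiCompact w₁.left := QuasiCompact.of_comp w₁.left B₁.hom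
  obtain ⟨f, hf⟩ := exists_lift_of_cover w₁ c₁ c₂ w₂ h.symm
  obtain ⟨x, rfl⟩ := hg
  exact ⟨x ≫ f, by rw [Category.assoc, hf]⟩

set_option maxHeartbeats 1000000 in
/-- **The image of a Cartan subgroup is the centraliser of the image of its torus.** -/
theorem isCentralizerOf_image (v : G ⟶ H) [IsMonHom v] [Surjective v.left]
    {T C T' C' : Over (Spec (CommRingCat.of k))} [GrpObj T] [GrpObj C] [GrpObj T'] [GrpObj C'] {i : T ⟶ G}
    (hi : AGF.IsMaxTorus i) {c : C ⟶ G} (hc : Red.IsCentralizerOf i c) (t' : T' ⟶ H) [Mono t'] (wT : T ⟶ T')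
    [Flat wT.left] [Surjective wT.left] (hwT : wT ≫ t' = i ≫ v) (c' : C' ⟶ H) [IsMonHom c'] [Mono c'] (wC : C ⟶ C')
    [Flat wC.left] [Surjective wC.left] (hwC : wC ≫ c' = c ≫ v) : Red.IsCentralizerOf t' c' := by
  haveI := Agent.GrpSchLib.AntiAffine.isSeparated_grp G
  obtain ⟨T₁, gT₁, t₁, p, hmax₁, hp, hpf, hps, hpq, hpt, hZ⟩ := exists_image_cartan v hi hc
  haveI := hpf; haveI := hps; haveI := hmax₁.1; haveI := hmax₁.2.1
  haveI := Agent.GrpSchLib.AntiAffine.isSeparated_grp H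
  obtain ⟨Z, gZ, ζ, hζ, -, -⟩ :=
    Deform.exists_centralizer (Deform.isMultType_of_ft (Deform.isMultTypeFT_of_isTorus hmax₁.2.2.1)) t₁
  haveI := hζ.2.1
  obtain ⟨r, -, hr, hrf, hrs, hrq⟩ := hZ Z ζ hζ
  haveI := hrf; haveI := hrs
  obtain ⟨hTa, hTl, hTs, hTc⟩ := Deform.TorusBasic.props hi.2.2.1
  haveI := hTa
  haveI : IsAffineHom T.hom := isAffineHom_of_isAffine _
  haveI := hi.1
  obtain ⟨hcc, -⟩ := centralizer_smooth hi.2.2.1 hc
  haveI := hcc
  haveI : QuasiCompact C.hom := by rw [← Over.w c]; infer_instance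
  refine ⟨inferInstance, inferInstance, fun X g => ⟨fun hg X' x h => ?_, fun hg => ?_⟩⟩
  · obtain ⟨h₁, hh₁⟩ := factors_of_covers t' t₁ wT p (hwT.trans hpt.symm) (h ≫ t') ⟨h, rfl⟩
    rw [← hh₁]
    exact ((hζ.2.2 X g).mp (factors_of_covers c' ζ wC r (hwC.trans hr.symm) g hg)) X' x h₁
  · refine factors_of_covers ζ c' r wC (hr.trans hwC.symm) g ((hζ.2.2 X g).mpr fun X' x h => ?_)
    obtain ⟨h', hh'⟩ := factors_of_covers t₁ t' p wT (hpt.trans hwT.symm) (h ≫ t₁) ⟨h, rfl⟩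
    rw [← hh']
    exact hg X' x h'

set_option maxHeartbeats 1000000 in
/-- **Cartan subgroups go to Cartan subgroups.** -/
theorem isCartanOver_image (v : G ⟶ H) [IsMonHom v] [Surjective v.left]
    {C C' : Over (Spec (CommRingCat.of k))} [GrpObj C] [GrpObj C'] {c : C ⟶ G} (hC : SGA3x.IsCartanOver k c)
    (c' : C' ⟶ H) [IsMonHom c'] [Mono c'] (w : C ⟶ C') [Flat w.left] [Surjective w.left]
    (hw : w ≫ c' = c ≫ v) : SGA3x.IsCartanOver k c' := by
  obtain ⟨-, -, T, gT, i, hi, hc⟩ := hC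
  obtain ⟨T₁, gT₁, t₁, p, hmax₁, hp, hpf, hps, hpq, hpt, -⟩ :=
    exists_image_cartan v (isMaxTorus_of_isMaximalTorus hi) hc
  haveI := hpf; haveI := hps; haveI := hmax₁.2.1
  exact ⟨inferInstance, inferInstance, T₁, gT₁, t₁, isMaximalTorus_of_isMaxTorus hmax₁,
    isCentralizerOf_image v (isMaxTorus_of_isMaximalTorus hi) hc t₁ p hpt c' w hw⟩

set_option maxHeartbeats 1000000 in
/-- **Every Cartan subgroup of a quotient comes from one.** -/
theorem exists_cartan_over (v : G ⟶ H) [IsMonHom v] [Surjective v.left]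
    {C' : Over (Spec (CommRingCat.of k))} [GrpObj C'] {c' : C' ⟶ H} (hC' : SGA3x.IsCartanOver k c') :
    ∃ (C : Over (Spec (CommRingCat.of k))) (_ : GrpObj C) (c : C ⟶ G) (w : C ⟶ C'),
      SGA3x.IsCartanOver k c ∧ IsMonHom w ∧ Flat w.left ∧ Surjective w.left ∧ w ≫ c' = c ≫ v := by
  haveI := Agent.GrpSchLib.AntiAffine.isSeparated_grp G
  haveI := Agent.GrpSchLib.AntiAffine.isSeparated_grp H
  obtain ⟨-, -, T', gT', t', ht', hc'⟩ := hC'
  have ht'' := isMaxTorus_of_isMaximalTorus ht'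
  haveI := ht''.1; haveI := ht''.2.1
  obtain ⟨T₀, gT₀, t₀, hu⟩ := exists_univTorus G
  obtain ⟨hum, huc, hT₀, -⟩ := id hu
  haveI := hum; haveI := huc
  haveI : Mono t₀ := (Over.forget _).mono_of_mono_map (inferInstanceAs (Mono t₀.left))
  have hmax₀ : AGF.IsMaxTorus t₀ := ⟨inferInstance, inferInstance, hT₀, fun T' _ j _ _ f h1 h2 => hu.maximal T' j f h1 h2⟩
  obtain ⟨C₀, gC₀, c₀, hc₀, -, -⟩ :=
    Deform.exists_centralizer (Deform.isMultType_of_ft (Deform.isMultTypeFT_of_isTorus hT₀)) t₀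
  obtain ⟨T₁, gT₁, t₁, p, hmax₁, hp, hpf, hps, hpq, hpt, -⟩ := exists_image_cartan v hmax₀ hc₀
  haveI := hmax₁.1; haveI := hp
  obtain ⟨h, e, he, heq⟩ := conj_of_max t₁ t' hmax₁ ht''
  haveI := he
  obtain ⟨g, hg⟩ := exists_pt_over v h
  haveI : Mono (conj g) := IsSplitMono.mono _ (hf := IsSplitMono.mk' ⟨conj g⁻¹, conj_right_inv g⟩)
  have hi : AGF.IsMaxTorus (t₀ ≫ conj g) := ⟨inferInstance, mono_comp t₀ _, hT₀, fun T' _ j _ _ f h1 h2 =>
    hu.maximal T' (j ≫ conj g⁻¹) f h1 (by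
      rw [← Category.assoc, h2, Category.assoc, conj_right_inv, Category.comp_id])⟩
  haveI := hi.1; haveI := hi.2.1
  obtain ⟨C, gC, c, hc, -, -⟩ :=
    Deform.exists_centralizer (Deform.isMultType_of_ft (Deform.isMultTypeFT_of_isTorus hT₀)) (t₀ ≫ conj g)
  have hcv : conj g ≫ v = v ≫ conj h := by
    simp only [conj, MonObj.mul_comp, GrpObj.inv_comp, MonObj.comp_mul, GrpObj.comp_inv, Category.assoc,
      Category.id_comp, Category.comp_id, hg, ← Category.assoc v (toUnit H), comp_toUnit]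
  have hpe : (p ≫ e.hom) ≫ t' = (t₀ ≫ conj g) ≫ v := by
    rw [Category.assoc, heq, ← comp_conj, reassoc_of% hpt, Category.assoc, hcv]
  obtain ⟨T₂, gT₂, t₂, p₂, hmax₂, hp₂, hp₂f, hp₂s, hp₂q, hp₂t, hZ⟩ := exists_image_cartan v hi hc
  haveI := hp₂f; haveI := hp₂s; haveI := hmax₂.1; haveI := hmax₂.2.1; haveI := hpf; haveI := hps
  haveI : IsIso e.hom.left := ((Over.forget _).mapIso e).isIso_hom
  haveI : Flat (p ≫ e.hom).left := inferInstanceAs (Flat (p.left ≫ e.hom.left))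
  haveI : Surjective (p ≫ e.hom).left := inferInstanceAs (Surjective (p.left ≫ e.hom.left))
  obtain ⟨hTa, -, -, -⟩ := Deform.TorusBasic.props hT₀
  haveI := hTa
  haveI : IsAffineHom T₀.hom := isAffineHom_of_isAffine _
  obtain ⟨r, hrm, hr, hrf, hrs, hrq⟩ := hZ C' c' ⟨hc'.1, hc'.2.1, fun X a => (hc'.2.2 X a).trans ⟨fun ha X' x u => by
      obtain ⟨u', hu'⟩ := factors_of_covers t₂ t' p₂ (p ≫ e.hom) (hp₂t.trans hpe.symm) (u ≫ t₂) ⟨u, rfl⟩
      rw [← hu']
      exact ha X' x u', fun ha X' x u => by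
      obtain ⟨u', hu'⟩ := factors_of_covers t' t₂ (p ≫ e.hom) p₂ (hpe.trans hp₂t.symm) (u ≫ t') ⟨u, rfl⟩
      rw [← hu']
      exact ha X' x u'⟩⟩
  exact ⟨C, gC, c, r, ⟨hc.1, hc.2.1, T₀, gT₀, t₀ ≫ conj g, isMaximalTorus_of_isMaxTorus hi, hc⟩, hrm, hrf, hrs, hr⟩

end

end Groth.Agent.Deform.Borel
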