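import Groth.Agent.Deform.Borel.Image
import Groth.Agent.Deform.TorusIsogeny

/-!
# Images of maximal tori under surjective homomorphisms
-/

universe u

open CategoryTheory CategoryTheory.Limits MonoidalCategory CartesianMonoidalCategory MonObj GrpObj AlgebraicGeometry

attribute [local instance] CategoryTheory.Hom.monoid CategoryTheory.Hom.group
set_option linter.style.haveILetI false
set_option linter.unusedSectionVars false

namespace Groth.Agent.Deform.Borel

open Chev (Pt pimg)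
open Agent.GrpSchLib.Kunneth (Fn ev evPt evPt_comp ev_ev)

noncomputable section

variable {k : Type u} [Field k] [IsAlgClosed k]

theorem pt_torus_ext {T : Over (Spec (CommRingCat.of k))} [GrpObj T] (hT : Red.IsTorus T) {a b : Pt T}
    (h : ∀ f : Fn T, (∀ x y : Pt T, evPt (x * y) f = evPt x f * evPt y f) → evPt (1 : Pt T) f = 1 →
      evPt a f = evPt b f) : a = b := by
  obtain ⟨hTa, hTl, hTs, hTc⟩ := Deform.TorusBasic.props hT
  haveI := hTa; haveI := hTl; haveI := hTs; haveI := hTc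
  obtain ⟨M, _, hfg, ⟨eT⟩⟩ := Deform.exists_diag T (Deform.isMultTypeFT_of_isTorus hT)
  exact key eT h
where
  key {T : Over (Spec (CommRingCat.of k))} [GrpObj T] [IsAffine T.left] {M : Type u} [CommGroup M]
      (eT : Grp.mk (Agent.GrpSchLib.AffineHopf.sp k (MonoidAlgebra k M)) ≅ Grp.mk T) {a b : Pt T}
      (h : ∀ f : Fn T, (∀ x y : Pt T, evPt (x * y) f = evPt x f * evPt y f) → evPt (1 : Pt T) f = 1 →
        evPt a f = evPt b f) : a = b := by
    let e : Agent.GrpSchLib.AffineHopf.sp k (MonoidAlgebra k M) ≅ T := (Grp.forget _).mapIso eT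
    haveI : IsMonHom e.inv := eT.inv.hom.isMonHom_hom
    rw [← cancel_mono e.inv]
    refine Agent.GrpSchLib.LineVec.fn_injective (MonoidAlgebra.algHom_ext (fun m => ?_) (Subsingleton.elim _ _))
    let f : Fn T := ev e.inv (Agent.GrpSchLib.LineVec.toFn (k := k) (A := MonoidAlgebra k M) (MonoidAlgebra.single m 1))
    have hf : ∀ c : Pt T, evPt c f =
        evPt (𝟙 _) (Agent.GrpSchLib.LineVec.fn (c ≫ e.inv) (MonoidAlgebra.single m 1)) := fun c => by
      show evPt c (ev e.inv _) = _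
      rw [evPt_comp, evPt_eq]
      rfl
    have hmul : ∀ x y : Pt T, evPt (x * y) f = evPt x f * evPt y f := fun x y => by
      simp only [hf, MonObj.mul_comp, Agent.GrpSchLib.LineVec.fn_mul]
      rw [show (WithConv.toConv (Agent.GrpSchLib.LineVec.fn (x ≫ e.inv)) *
          WithConv.toConv (Agent.GrpSchLib.LineVec.fn (y ≫ e.inv))) (MonoidAlgebra.single m 1) = _ from
        AlgHom.convMul_apply _ _ _, MonoidAlgebra.comul_single]
      simp
    have hone : evPt (1 : Pt T) f = 1 := by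
      simp only [hf, MonObj.one_comp, Agent.GrpSchLib.LineVec.fn_one]
      rw [show ((1 : WithConv (MonoidAlgebra k M →ₐ[k] Fn (𝟙_ (Over (Spec (CommRingCat.of k)))))).ofConv)
          (MonoidAlgebra.single m 1) = _ from AlgHom.convOne_apply _, MonoidAlgebra.counit_single]
      simp
    have hinj : Function.Injective (evPt (Y := 𝟙_ (Over (Spec (CommRingCat.of k)))) (𝟙 _)) := fun u v huv =>
      (Scheme.ΓSpecIso (CommRingCat.of k)).commRingCatIsoToRingEquiv.injective huv
    have e1 := h f hmul hone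
    rw [hf, hf] at e1
    simpa using hinj e1

set_option maxHeartbeats 2000000 in
/-- **The image of a maximal torus is a maximal torus.** -/
theorem isMaxTorus_image {G Q : Over (Spec (CommRingCat.of k))} [GrpObj G] [GrpObj Q] [IsAffine G.left]
    [Smooth G.hom] [ConnectedSpace G.left] [IsAffine Q.left] [Smooth Q.hom] [ConnectedSpace Q.left] (q : G ⟶ Q)
    [IsMonHom q] [Surjective q.left] {T T' : Over (Spec (CommRingCat.of k))} [GrpObj T] [GrpObj T'] {i : T ⟶ G}
    (hi : AGF.IsMaxTorus i) (i' : T' ⟶ Q) [IsMonHom i'] [IsClosedImmersion i'.left] [IsReduced T'.left]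
    (p : T ⟶ T') [Surjective p.left] (hp : p ≫ i' = i ≫ q) : AGF.IsMaxTorus i' := by
  haveI : IsAffineHom G.hom := isAffineHom_of_isAffine _
  haveI : IsAffineHom Q.hom := isAffineHom_of_isAffine _
  haveI := Agent.GrpSchLib.AntiAffine.isSeparated_grp Q
  obtain ⟨him, himo, hT, himax⟩ := id hi
  haveI := him
  obtain ⟨hTa, hTl, hTs, hTc⟩ := Deform.TorusBasic.props hT
  haveI := hTa; haveI := hTl; haveI := hTs; haveI := hTc
  haveI : IsAffineHom T.hom := isAffineHom_of_isAffine _
  haveI : Mono i' := (Over.forget _).mono_of_mono_map (inferInstanceAs (Mono i'.left))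
  haveI : IsMonHom p := Deform.isMonHom_of_comp p i' (i := i ≫ q) hp
  haveI : LocallyOfFiniteType T'.hom := by rw [← Over.w i']; infer_instance
  haveI : Smooth T'.hom := GrpSchLib.smooth_of_isReduced_of_isAlgClosed T'
  haveI : IsAffine T'.left := isAffine_of_isAffineHom i'.left
  haveI := Agent.GrpSchLib.AntiAffine.isSeparated_grp T'
  have hcommT : ∀ a b : Pt T', a * b = b * a := fun a b => by
    obtain ⟨a', rfl⟩ := exists_pt_over p a
    obtain ⟨b', rfl⟩ := exists_pt_over p b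
    rw [← MonObj.mul_comp, ← MonObj.mul_comp,
      Agent.GrpSchLib.MultTypeComm.points_comm (Deform.isMultTypeFT_of_isTorus hT) a' b']
  haveI : IsCommMonObj T' := Deform.Extension.isCommMonObj_of fun Y u v => by
    haveI : Smooth (T' ⊗ T').hom := inferInstanceAs (Smooth (pullback.fst T'.hom T'.hom ≫ T'.hom))
    have key : fst T' T' * snd T' T' = snd T' T' * fst T' T' := comp_inj_pt _ _ fun z => by
      rw [MonObj.comp_mul, MonObj.comp_mul]
      exact hcommT _ _
    have h1 := congrArg (lift u v ≫ ·) key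
    simpa only [MonObj.comp_mul, lift_fst, lift_snd] using h1
  have hT' : Red.IsTorus T' := Deform.TorusIsogeny.isTorus_of_surjective hT p
  haveI := isSolvable_pts_of_torus hT
  -- a Borel subgroup containing the torus and its image
  obtain ⟨B, gB, iB, hB, -, huB⟩ := exists_borel G
  obtain ⟨g, f, -, hf⟩ := huB T i
  haveI := hB.1
  have hB₁ := isBorelOver_conj iB hB g⁻¹
  have hf₁ : f ≫ iB ≫ conj g⁻¹ = i := by
    rw [reassoc_of% hf, ← comp_conj, Category.assoc, conj_right_inv, Category.comp_id]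
  set b₁ := iB ≫ conj g⁻¹
  clear_value b₁
  obtain ⟨hb₁m, hb₁c, hBs, hBcn, hBsol, -⟩ := id hB₁
  haveI := hb₁m; haveI := hb₁c; haveI := hBs; haveI := hBcn
  haveI : IsAffine B.left := isAffine_of_isAffineHom b₁.left
  haveI : IsAffineHom B.hom := isAffineHom_of_isAffine _
  haveI : Group.IsSolvable (Pt B) := isSolvable_pts_of_grp hBsol
  haveI : Mono b₁ := (Over.forget _).mono_of_mono_map (inferInstanceAs (Mono b₁.left))
  haveI : IsMonHom f := Deform.isMonHom_of_comp f b₁ (i := i) hf₁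
  obtain ⟨I, gI, pI, jI, hpm, hjm, hpj, hjc, hfl, hsu, hIl, -⟩ :=
    Agent.GrpSchLib.ImageFactor.exists_image (b₁ ≫ q)
  haveI := hpm; haveI := hjm; haveI := hjc; haveI := hfl; haveI := hsu; haveI := hIl
  haveI : IsReduced B.left := GrpSchLib.isReduced_of_smooth_field B.hom
  haveI : IsReduced I.left := FBaseLib.isReduced_of_flat_surjective pI.left
  haveI : Smooth I.hom := GrpSchLib.smooth_of_isReduced_of_isAlgClosed I
  have hI := isBorelOver_image q hB₁ jI pI hpj
  obtain ⟨-, -, -, hIcn, hIsol, -⟩ := id hI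
  haveI := hIcn
  haveI : IsAffine I.left := isAffine_of_isAffineHom jI.left
  haveI : IsAffineHom I.hom := isAffineHom_of_isAffine _
  haveI : Group.IsSolvable (Pt I) := isSolvable_pts_of_grp hIsol
  haveI : Mono jI := (Over.forget _).mono_of_mono_map (inferInstanceAs (Mono jI.left))
  obtain ⟨t', ht'⟩ := Chev.exists_lift_range jI i' (Chev.mem_of_pts _ jI.left.isClosedEmbedding.isClosed_range
    fun w => by
      obtain ⟨w', rfl⟩ := exists_pt_over p w
      refine ⟨pimg (w' ≫ f ≫ pI), ?_⟩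
      rw [← pimg_comp, Category.assoc, Category.assoc, hpj, reassoc_of% hf₁, Category.assoc, hp])
  haveI : IsMonHom t' := Deform.isMonHom_of_comp t' jI (i := i') ht'
  haveI : Mono (t' ≫ jI) := by rw [ht']; infer_instance
  haveI : Mono t' := mono_of_mono t' jI
  -- the maximal torus of the image
  obtain ⟨T₂, gT₂, i₂, hu₂, π₂, hπ₂, ρ₂, hρ₂, hρπ⟩ := exists_levi_hom I
  obtain ⟨hi₂m, hi₂c, hT₂, huniv₂⟩ := id hu₂
  haveI := hi₂m; haveI := hi₂c; haveI := hρ₂
  haveI : Mono i₂ := (Over.forget _).mono_of_mono_map (inferInstanceAs (Mono i₂.left))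
  obtain ⟨hT₂a, hT₂l, hT₂s, hT₂c⟩ := Deform.TorusBasic.props hT₂
  haveI := hT₂a; haveI := hT₂l; haveI := hT₂s
  haveI : IsReduced T₂.left := GrpSchLib.isReduced_of_smooth_field T₂.hom
  obtain ⟨g₂, φ, hφ, hφi⟩ := huniv₂ T' t' hT'
  haveI := hφ
  -- the maximal torus of the Borel subgroup
  obtain ⟨T₁, gT₁, i₁, hu₁, π₁, ⟨hπ₁, -, hchar₁, -⟩⟩ := exists_levi B
  obtain ⟨hi₁m, hi₁c, hT₁, huniv₁⟩ := id hu₁
  haveI := hi₁m; haveI := hi₁c
  haveI : Mono i := himo
  haveI : Mono (f ≫ b₁) := by rw [hf₁]; infer_instance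
  haveI : Mono f := mono_of_mono f b₁
  obtain ⟨g₁, e₁, he₁, he₁i⟩ := hu₁.conj_of_max f hT fun T₀ _ j _ _ d hT₀ hd => by
    exact himax T₀ (j ≫ b₁) d hT₀ (by rw [← Category.assoc, hd, hf₁])
  obtain ⟨hT₁a, hT₁l, hT₁s, hT₁c⟩ := Deform.TorusBasic.props hT₁
  haveI := hT₁a; haveI := hT₁l
  -- the composite onto the torus of the image
  let ψ : B ⟶ T₂ := pI ≫ ρ₂
  have hψker : ∀ u ∈ π₁.ker, u ≫ ψ = 1 := fun u hu => pt_torus_ext hT₂ fun c hc hc1 => by
    have h1 := hchar₁ (ev ψ c) (fun x y => by rw [evPt_comp, evPt_comp, evPt_comp, MonObj.mul_comp]; exact hc _ _)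
      (by rw [evPt_comp, MonObj.one_comp]; exact hc1) u hu
    rw [evPt_comp] at h1
    rw [h1, hc1]
  have hcomm₂ : ∀ a c : Pt T₂, a * c = c * a := fun a c =>
    Agent.GrpSchLib.MultTypeComm.points_comm (Deform.isMultTypeFT_of_isTorus hT₂) a c
  have hconjψ : ∀ a c : Pt B, (c * a * c⁻¹) ≫ ψ = a ≫ ψ := fun a c => by
    rw [MonObj.mul_comp, MonObj.mul_comp, GrpObj.inv_comp, hcomm₂ (c ≫ ψ), mul_inv_cancel_right]
  haveI hsurjφ : Surjective φ.left := by
    constructor
    intro z
    have hrange : IsClosed (Set.range φ.left) := by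
      haveI : Mono (conj g₂) := IsSplitMono.mono _ (hf := IsSplitMono.mk' ⟨conj g₂⁻¹, conj_right_inv g₂⟩)
      haveI : Mono (φ ≫ i₂) := by rw [hφi, ← comp_conj]; exact mono_comp t' _
      haveI : Mono φ := mono_of_mono φ i₂
      haveI : IsClosedImmersion φ.left := isClosedImmersion_of_mono φ
      exact φ.left.isClosedEmbedding.isClosed_range
    refine Chev.mem_of_pts (𝟙 T₂) hrange (fun w => ?_) ⟨z, rfl⟩
    rw [Category.comp_id]
    obtain ⟨b, hb⟩ := exists_pt_over pI (w ≫ i₂)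
    have hw : w = b ≫ ψ := by rw [← Category.assoc, hb, hρπ, hπ₂.1]
    have hu : b * ((π₁ b) ≫ i₁)⁻¹ ∈ π₁.ker := by
      rw [MonoidHom.mem_ker, map_mul, map_inv, hπ₁, mul_inv_cancel]
    have hw' : w = ((π₁ b) ≫ i₁) ≫ ψ := by
      have h1 := hψker _ hu
      rw [MonObj.mul_comp, GrpObj.inv_comp] at h1
      rw [hw]
      exact mul_inv_eq_one.mp h1
    obtain ⟨s, hs⟩ := exists_pt_over e₁.hom (π₁ b)
    refine ⟨pimg (s ≫ p), ?_⟩
    rw [← pimg_comp]
    congr 1
    have h2 : (s ≫ p) ≫ t' = (s ≫ f) ≫ pI := (cancel_mono jI).mp (by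
      rw [Category.assoc, ht', Category.assoc, hp, Category.assoc, Category.assoc, hpj, reassoc_of% hf₁])
    have h3 : (s ≫ p) ≫ φ = ((s ≫ p) ≫ t') ≫ ρ₂ := by
      have h4 : ((s ≫ p) ≫ φ) ≫ i₂ = (s ≫ p) ≫ t' ≫ conj g₂ := by rw [Category.assoc, hφi, ← comp_conj]
      have h5 := congrArg (· ≫ ρ₂) h4
      rw [hρπ, hπ₂.1, ← Category.assoc (s ≫ p) t', pt_conj, hρπ, map_mul, map_mul, map_inv,
        hcomm₂ (π₂ g₂), mul_inv_cancel_right, ← hρπ] at h5
      exact h5
    rw [h3, h2, hw', ← hs, Category.assoc s e₁.hom i₁, he₁i, ← comp_conj, ← Category.assoc s f, pt_conj, hconjψ]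
    simp only [ψ, Category.assoc]
  haveI : IsMonHom i' := inferInstance
  have hmaxt : AGF.IsMaxTorus t' := by
    refine ⟨inferInstance, inferInstance, hT', fun T₀ _ j _ _ d hT₀ hd => ?_⟩
    haveI : Mono (conj g₂) := IsSplitMono.mono _ (hf := IsSplitMono.mk' ⟨conj g₂⁻¹, conj_right_inv g₂⟩)
    haveI : Mono (φ ≫ i₂) := by rw [hφi, ← comp_conj]; exact mono_comp t' _
    haveI : Mono φ := mono_of_mono φ i₂
    haveI : IsClosedImmersion φ.left := isClosedImmersion_of_mono φ
    haveI : IsIso φ.left := isIso_of_isClosedImmersion_of_surjective φ.left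
    haveI : IsIso ((Over.forget _).map φ) := ‹IsIso φ.left›
    haveI : IsIso φ := isIso_of_reflects_iso φ (Over.forget _)
    haveI := hu₂.maximal T₀ (j ≫ conj g₂) (inv φ ≫ d) hT₀ (by
      rw [Category.assoc, IsIso.inv_comp_eq, reassoc_of% hd, comp_conj, hφi])
    exact IsIso.of_isIso_comp_left (inv φ) d
  have := isMaxTorus_comp_borel jI hI t' hmaxt
  rwa [ht'] at this

end

end Groth.Agent.Deform.Borel
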