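import Groth.Agent.Deform.Borel.UnipRad
import Groth.Agent.Deform.Borel.Union

/-!
# Maximal connected subgroups without subtori
-/

universe u

open CategoryTheory CategoryTheory.Limits MonoidalCategory CartesianMonoidalCategory MonObj GrpObj AlgebraicGeometry

attribute [local instance] CategoryTheory.Hom.monoid CategoryTheory.Hom.group
set_option linter.style.haveILetI false
set_option linter.unusedSectionVars false

namespace Groth.Agent.Deform.Borel

open Chev (Pt pimg pimg_comp)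

noncomputable section

variable {k : Type u} [Field k] [IsAlgClosed k]
variable {G : Over (Spec (CommRingCat.of k))} [GrpObj G] [IsAffine G.left] [Smooth G.hom] [ConnectedSpace G.left]

set_option maxHeartbeats 1000000 in
/-- **A group all of whose subgroups without subtori are trivial is a torus.** -/
theorem isTorus_of_noUnip (h : ∀ (U : Over (Spec (CommRingCat.of k))) [GrpObj U] (i : U ⟶ G) [IsMonHom i],
    IsClosedImmersion i.left → Smooth U.hom → ConnectedSpace U.left → Red.HasNoSubtorus k U → Red.IsTrivialGrp U) :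
    Red.IsTorus G := by
  haveI : IsAffineHom G.hom := isAffineHom_of_isAffine _
  haveI : QuasiCompact G.hom := inferInstance
  haveI := Agent.GrpSchLib.AntiAffine.isSeparated_grp G
  obtain ⟨B, iB', iB, hB, -, -⟩ := exists_borel G
  obtain ⟨hBm, hBc, hBs, hBcn, hBsol, -⟩ := id hB
  haveI := hBm; haveI := hBc; haveI := hBs; haveI := hBcn
  haveI : IsAffine B.left := isAffine_of_isAffineHom iB.left
  haveI : IsAffineHom B.hom := isAffineHom_of_isAffine _
  haveI : QuasiCompact B.hom := inferInstance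
  haveI : Mono iB := (Over.forget _).mono_of_mono_map (inferInstanceAs (Mono iB.left))
  haveI : Group.IsSolvable (Pt B) := isSolvable_pts_of_grp hBsol
  obtain ⟨T, gT, i, ρ, K, gK, κ, hT, hρ, him, hiρ, hκ, hκc, hKs, hKc, hpts, hK⟩ := exists_rad B
  haveI := hρ; haveI := him; haveI := hκ; haveI := hκc; haveI := hKs; haveI := hKc
  have hK1 := h K (κ ≫ iB) (inferInstanceAs (IsClosedImmersion (κ.left ≫ iB.left))) hKs hKc hK
  obtain ⟨hTa, hTl, hTs, hTc⟩ := Deform.TorusBasic.props hT
  haveI := hTa; haveI := hTl; haveI := hTs; haveI := hTc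
  haveI : IsAffineHom T.hom := isAffineHom_of_isAffine _
  haveI : IsSeparated B.hom := inferInstance
  haveI : IsSeparated T.hom := inferInstance
  have hρi : ρ ≫ i = 𝟙 B := comp_inj_pt _ _ fun x => by
    obtain ⟨y, hy⟩ := (hpts (x * ((x ≫ ρ) ≫ i)⁻¹)).mpr (by
      rw [MonObj.mul_comp, GrpObj.inv_comp, Category.assoc (x ≫ ρ), hiρ, Category.comp_id, mul_inv_cancel])
    rw [pts_eq_one_of_isTrivialGrp hK1 y, MonObj.one_comp] at hy
    rw [Category.comp_id, ← Category.assoc]
    exact (mul_inv_eq_one.mp hy.symm).symm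
  have hcomm : ∀ {X : Over (Spec (CommRingCat.of k))} (a b : X ⟶ B), a * b = b * a := fun {X} a b => by
    have e : ∀ c : X ⟶ B, c = (c ≫ ρ) ≫ i := fun c => by rw [Category.assoc, hρi, Category.comp_id]
    rw [e a, e b, ← MonObj.mul_comp _ _ i, ← MonObj.mul_comp _ _ i,
      Agent.GrpSchLib.MultTypeComm.points_comm (Deform.isMultTypeFT_of_isTorus hT)]
  have hcen := central_of_borel hB iB (by rw [← MonObj.mul_comp, ← MonObj.mul_comp, hcomm])
  have hsurj : ∀ g : Pt G, ∃ b : Pt B, b ≫ iB = g := fun g => by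
    obtain ⟨x, b, hxb⟩ := exists_conj_mem G iB hB g
    refine ⟨b, ?_⟩
    have h1 := congrArg (lift b x ≫ ·) hcen
    simp only [MonObj.comp_mul, lift_snd] at h1
    rw [← Category.assoc, lift_fst] at h1
    rw [← hxb, ← h1, mul_inv_cancel_right]
  haveI : IsReduced G.left := GrpSchLib.isReduced_of_smooth_field G.hom
  obtain ⟨r, hr⟩ := Chev.exists_lift_range iB (𝟙 G) (Chev.mem_of_pts _ iB.left.isClosedEmbedding.isClosed_range
    fun g => by
      obtain ⟨b, hb⟩ := hsurj g
      exact ⟨pimg b, by rw [← pimg_comp, hb, Category.comp_id]⟩)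
  haveI : IsCommMonObj G := Deform.Extension.isCommMonObj_of fun Y a b => by
    have e : ∀ c : Y ⟶ G, c = (c ≫ r) ≫ iB := fun c => by rw [Category.assoc, hr, Category.comp_id]
    rw [e a, e b, ← MonObj.mul_comp _ _ iB, ← MonObj.mul_comp _ _ iB, hcomm]
  haveI : Surjective (i ≫ iB).left := ⟨fun z => by
    refine ⟨ρ.left (r.left z), ?_⟩
    show ((r ≫ ρ) ≫ i ≫ iB).left z = z
    rw [Category.assoc, reassoc_of% hρi, hr]
    rfl⟩
  exact Deform.TorusIsogeny.isTorus_of_surjective hT (i ≫ iB)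

set_option maxHeartbeats 2000000 in
/-- **Maximal subgroups without subtori are the kernels of Borel subgroups onto their tori.** -/
theorem exists_borel_of_maxUnip {U : Over (Spec (CommRingCat.of k))} [GrpObj U] (iU : U ⟶ G) [IsMonHom iU]
    [IsClosedImmersion iU.left] [Smooth U.hom] [ConnectedSpace U.left] (nU : Red.HasNoSubtorus k U)
    (maxU : ∀ (V : Over (Spec (CommRingCat.of k))) [GrpObj V] (j : V ⟶ G) [IsMonHom j] (f : U ⟶ V),
      IsClosedImmersion j.left → Smooth V.hom → ConnectedSpace V.left → Red.HasNoSubtorus k V → f ≫ j = iU →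
        IsIso f) :
    ∃ (B : Over (Spec (CommRingCat.of k))) (_ : GrpObj B) (iB : B ⟶ G) (T : Over (Spec (CommRingCat.of k)))
      (_ : GrpObj T) (ρ : B ⟶ T) (u : U ⟶ B), Red.IsBorelOver k iB ∧ Red.IsTorus T ∧ IsMonHom ρ ∧ IsMonHom u ∧
        IsClosedImmersion u.left ∧ u ≫ iB = iU ∧ ∀ x : Pt B, (∃ y : Pt U, y ≫ u = x) ↔ x ≫ ρ = 1 := by
  haveI : IsAffineHom G.hom := isAffineHom_of_isAffine _
  haveI : IsAffine U.left := isAffine_of_isAffineHom iU.left
  haveI := isNilpotent_pts_of_noSubtorus U nU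
  haveI : Group.IsSolvable (Pt U) := inferInstance
  obtain ⟨H, iH', iH, hH, -, huH⟩ := exists_borel G
  obtain ⟨g, f, -, hf⟩ := huH U iU
  haveI := hH.1
  have hB := isBorelOver_conj iH hH g⁻¹
  have hfB : f ≫ iH ≫ conj g⁻¹ = iU := by
    rw [reassoc_of% hf, ← comp_conj, Category.assoc, conj_right_inv, Category.comp_id]
  set iB := iH ≫ conj g⁻¹
  clear_value iB
  obtain ⟨hBm, hBc, hBs, hBcn, hBsol, -⟩ := id hB
  haveI := hBm; haveI := hBc; haveI := hBs; haveI := hBcn
  haveI : IsAffine H.left := isAffine_of_isAffineHom iB.left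
  haveI : Mono iB := (Over.forget _).mono_of_mono_map (inferInstanceAs (Mono iB.left))
  haveI : IsMonHom f := Deform.isMonHom_of_comp f iB (i := iU) hfB
  haveI : IsClosedImmersion (f.left ≫ iB.left) := by rw [← Over.comp_left, hfB]; infer_instance
  haveI : IsClosedImmersion f.left := IsClosedImmersion.of_comp f.left iB.left
  haveI : Group.IsSolvable (Pt H) := isSolvable_pts_of_grp hBsol
  obtain ⟨T, gT, i, ρ, K, gK, κ, hT, hρ, him, hiρ, hκ, hκc, hKs, hKc, hpts, hK⟩ := exists_rad H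
  haveI := hρ; haveI := hκ; haveI := hκc; haveI := hKs; haveI := hKc
  haveI : IsReduced U.left := GrpSchLib.isReduced_of_smooth_field U.hom
  obtain ⟨v, hv⟩ := Chev.exists_lift_range κ f (Chev.mem_of_pts _ κ.left.isClosedEmbedding.isClosed_range fun w => by
    obtain ⟨y, hy⟩ := (hpts (w ≫ f)).mpr (by rw [Category.assoc]; exact hom_torus_trivial nU hT (f ≫ ρ) w)
    exact ⟨pimg y, by rw [← pimg_comp, hy]⟩)
  haveI : IsIso v := maxU K (κ ≫ iB) v (inferInstanceAs (IsClosedImmersion (κ.left ≫ iB.left))) hKs hKc hK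
    (by rw [reassoc_of% hv, hfB])
  refine ⟨H, iH', iB, T, gT, ρ, f, hB, hT, hρ, inferInstance, inferInstance, hfB, fun x => ?_⟩
  rw [← hpts x]
  exact ⟨fun ⟨y, hy⟩ => ⟨y ≫ v, by rw [Category.assoc, hv, hy]⟩,
    fun ⟨y, hy⟩ => ⟨y ≫ inv v, by rw [Category.assoc, ← hv, IsIso.inv_hom_id_assoc, hy]⟩⟩

set_option maxHeartbeats 2000000 in
/-- **Maximal subgroups without subtori are conjugate.** -/
theorem maxUnip_conj {U U' : Over (Spec (CommRingCat.of k))} [GrpObj U] [GrpObj U'] {iU : U ⟶ G} {iU' : U' ⟶ G}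
    [IsMonHom iU] [IsMonHom iU'] [IsClosedImmersion iU.left] [IsClosedImmersion iU'.left] [Smooth U.hom]
    [Smooth U'.hom] [ConnectedSpace U.left] [ConnectedSpace U'.left] (nU : Red.HasNoSubtorus k U)
    (nU' : Red.HasNoSubtorus k U')
    (maxU : ∀ (V : Over (Spec (CommRingCat.of k))) [GrpObj V] (j : V ⟶ G) [IsMonHom j] (f : U ⟶ V),
      IsClosedImmersion j.left → Smooth V.hom → ConnectedSpace V.left → Red.HasNoSubtorus k V → f ≫ j = iU →
        IsIso f)
    (maxU' : ∀ (V : Over (Spec (CommRingCat.of k))) [GrpObj V] (j : V ⟶ G) [IsMonHom j] (f : U' ⟶ V),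
      IsClosedImmersion j.left → Smooth V.hom → ConnectedSpace V.left → Red.HasNoSubtorus k V → f ≫ j = iU' →
        IsIso f) : ∃ (g : Pt G) (e : U ≅ U'), e.hom ≫ iU' = AGF.conjBy g iU := by
  haveI : IsAffineHom G.hom := isAffineHom_of_isAffine _
  haveI : IsAffine U.left := isAffine_of_isAffineHom iU.left
  obtain ⟨B, gB, iB, T, gT, ρ, u, hB, hT, hρ, hu, huc, hui, hpts⟩ := exists_borel_of_maxUnip iU nU maxU
  obtain ⟨B', gB', iB', T', gT', ρ', u', hB', hT', hρ', hu', hu'c, hu'i, hpts'⟩ :=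
    exists_borel_of_maxUnip iU' nU' maxU'
  haveI := hu; haveI := hu'; haveI := hρ'; haveI := hu'c
  haveI := hB'.1; haveI := hB.1
  obtain ⟨g, f, hfm, hf⟩ := borel_conj iB iB' hB hB'
  haveI := hfm
  haveI : IsReduced U.left := GrpSchLib.isReduced_of_smooth_field U.hom
  haveI : LocallyOfFiniteType B'.hom := by haveI := hB'.2.2.1; infer_instance
  obtain ⟨v, hv⟩ := Chev.exists_lift_range u' (u ≫ f.hom) (Chev.mem_of_pts _ u'.left.isClosedEmbedding.isClosed_range
    fun w => by
      obtain ⟨y, hy⟩ := (hpts' (w ≫ u ≫ f.hom)).mpr (by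
        rw [Category.assoc]; exact hom_torus_trivial nU hT' ((u ≫ f.hom) ≫ ρ') w)
      exact ⟨pimg y, by rw [← pimg_comp, hy]⟩)
  have hvi : v ≫ iU' = iU ≫ conj g := by
    rw [← hu'i, reassoc_of% hv, hf, ← comp_conj, reassoc_of% hui]
  haveI : IsIso (conj g).left := ((Over.forget _).mapIso (asIso (conj g))).isIso_hom
  haveI : IsIso (conj g⁻¹).left := ((Over.forget _).mapIso (asIso (conj g⁻¹))).isIso_hom
  haveI : IsIso v := maxU U' (iU' ≫ conj g⁻¹) v (inferInstanceAs (IsClosedImmersion (iU'.left ≫ (conj g⁻¹).left)))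
    inferInstance inferInstance nU' (by rw [reassoc_of% hvi, conj_right_inv, Category.comp_id])
  exact ⟨g, asIso v, by rw [asIso_hom, hvi, comp_conj]⟩

end

end Groth.Agent.Deform.Borel
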