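import Groth.Agent.Deform.Borel.CartanNorm

/-!
# Normalisers of Cartan subgroups and of maximal tori
-/

universe u

open CategoryTheory CategoryTheory.Limits MonoidalCategory CartesianMonoidalCategory MonObj GrpObj AlgebraicGeometry

attribute [local instance] CategoryTheory.Hom.monoid CategoryTheory.Hom.group
set_option linter.style.haveILetI false
set_option linter.unusedSectionVars false

namespace Groth.Agent.Deform.Borel

open Chev (Pt pimg pimg_comp)
open Agent.GrpSchLib (act_mul act_one)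

noncomputable section

variable {k : Type u} [Field k] [IsAlgClosed k]

/-- `g` moves every point of the torus into the torus, both ways. -/
def NormT {G T : Over (Spec (CommRingCat.of k))} [GrpObj G] (i : T ⟶ G) {Y : Over (Spec (CommRingCat.of k))}
    (g : Y ⟶ G) : Prop :=
  ∀ (X' : Over (Spec (CommRingCat.of k))) (x : X' ⟶ Y) (h : X' ⟶ T),
    (∃ h' : X' ⟶ T, (x ≫ g) * (h ≫ i) * (x ≫ g)⁻¹ = h' ≫ i) ∧
      ∃ h' : X' ⟶ T, (x ≫ g)⁻¹ * (h ≫ i) * (x ≫ g) = h' ≫ i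

/-- Normalising a torus descends along fpqc covers. -/
theorem normT_of_cover {G T : Over (Spec (CommRingCat.of k))} [GrpObj G] (i : T ⟶ G) [Mono i.left]
    {P Y : Over (Spec (CommRingCat.of k))} (e : P ⟶ Y) [Flat e.left] [Surjective e.left] [QuasiCompact e.left]
    (g : Y ⟶ G) (h : NormT i (e ≫ g)) : NormT i g := by
  intro X' x w
  let Q : Over (Spec (CommRingCat.of k)) := Over.mk (pullback.fst x.left e.left ≫ X'.hom)
  let a : Q ⟶ X' := Over.homMk (pullback.fst x.left e.left) rfl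
  let b : Q ⟶ P := Over.homMk (pullback.snd x.left e.left) (by
    show pullback.snd _ _ ≫ P.hom = pullback.fst _ _ ≫ X'.hom
    rw [← Over.w e, ← Over.w x, ← Category.assoc, ← pullback.condition, Category.assoc])
  have hab : a ≫ x = b ≫ e := Over.OverMorphism.ext pullback.condition
  haveI : Flat a.left := inferInstanceAs (Flat (pullback.fst x.left e.left))
  haveI : Surjective a.left := inferInstanceAs (Surjective (pullback.fst x.left e.left))
  haveI : QuasiCompact a.left := inferInstanceAs (QuasiCompact (pullback.fst x.left e.left))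
  obtain ⟨⟨u, hu⟩, v, hv⟩ := h Q b (a ≫ w)
  rw [← Category.assoc b e g, ← hab, Category.assoc a x g, Category.assoc a w i] at hu hv
  obtain ⟨h₁, hh₁⟩ := exists_lift_of_cover a ((x ≫ g) * (w ≫ i) * (x ≫ g)⁻¹) i u (by
    rw [← hu]; simp only [MonObj.comp_mul, GrpObj.comp_inv])
  obtain ⟨h₂, hh₂⟩ := exists_lift_of_cover a ((x ≫ g)⁻¹ * (w ≫ i) * (x ≫ g)) i v (by
    rw [← hv]; simp only [MonObj.comp_mul, GrpObj.comp_inv])
  exact ⟨⟨h₁, hh₁.symm⟩, h₂, hh₂.symm⟩

variable {G T C : Over (Spec (CommRingCat.of k))} [GrpObj G] [GrpObj T] [GrpObj C]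

set_option maxHeartbeats 1000000 in
/-- Multiplication from the affine part and a central one is an fpqc cover. -/
theorem exists_mul_cover {N K : Over (Spec (CommRingCat.of k))} [GrpObj N] [GrpObj K] [Smooth G.hom]
    [QuasiCompact G.hom] [Smooth N.hom] [QuasiCompact N.hom] [Smooth K.hom] [QuasiCompact K.hom] (i : N ⟶ G)
    [IsMonHom i] (κ : K ⟶ G) [IsMonHom κ]
    (hcen : ∀ {S : Over (Spec (CommRingCat.of k))} (a : S ⟶ K) (b : S ⟶ G), (a ≫ κ) * b = b * (a ≫ κ))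
    (hmul : ∀ g : Pt G, ∃ (n : Pt N) (z : Pt K), (n ≫ i) * (z ≫ κ) = g) :
    ∃ m : N ⊗ K ⟶ G, (∀ {S : Over (Spec (CommRingCat.of k))} (u : S ⟶ N ⊗ K),
      u ≫ m = ((u ≫ fst N K) ≫ i) * ((u ≫ snd N K) ≫ κ)) ∧ Flat m.left ∧ Surjective m.left ∧ QuasiCompact m.left := by
  haveI := Agent.GrpSchLib.AntiAffine.isSeparated_grp G
  let m : N ⊗ K ⟶ G := (fst N K ≫ i) * (snd N K ≫ κ)
  have hm : ∀ {S : Over (Spec (CommRingCat.of k))} (u : S ⟶ N ⊗ K),
      u ≫ m = ((u ≫ fst N K) ≫ i) * ((u ≫ snd N K) ≫ κ) := fun u => by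
    simp only [m, MonObj.comp_mul, Category.assoc]
  haveI : IsMonHom m :=
    { one_hom := by
        rw [MonObj.one_eq_one, MonObj.one_eq_one, hm, MonObj.one_comp, MonObj.one_comp, MonObj.one_comp,
          MonObj.one_comp, _root_.one_mul]
      mul_hom := by
        have e : μ[N ⊗ K] = fst (N ⊗ K) (N ⊗ K) * snd (N ⊗ K) (N ⊗ K) := by
          rw [Hom.mul_def, lift_fst_snd, Category.id_comp]
        have e' : (m ⊗ₘ m) ≫ μ[G] = (fst _ _ ≫ m) * (snd _ _ ≫ m) := by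
          rw [Hom.mul_def]
          congr 1
        rw [e, e', hm, hm, hm, MonObj.mul_comp, MonObj.mul_comp, MonObj.mul_comp, MonObj.mul_comp]
        generalize ((fst (N ⊗ K) (N ⊗ K) ≫ fst N K) ≫ i) = p₁
        generalize ((snd (N ⊗ K) (N ⊗ K) ≫ fst N K) ≫ i) = p₂
        rw [_root_.mul_assoc p₁, ← _root_.mul_assoc p₂, ← hcen (fst (N ⊗ K) (N ⊗ K) ≫ snd N K) p₂]
        group }
  haveI : LocallyOfFiniteType (N ⊗ K).hom :=
    inferInstanceAs (LocallyOfFiniteType (pullback.fst N.hom K.hom ≫ N.hom))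
  haveI : QuasiCompact (N ⊗ K).hom := inferInstanceAs (QuasiCompact (pullback.fst N.hom K.hom ≫ N.hom))
  haveI : Surjective m.left := by
    obtain ⟨I, gI, p₁, j, -, -, hpj, hjc, -, hsu, hIl, -⟩ := Agent.GrpSchLib.ImageFactor.exists_image m
    haveI := hjc; haveI := hIl
    constructor
    intro z
    obtain ⟨x, hx⟩ := Chev.mem_of_pts (𝟙 G) j.left.isClosedEmbedding.isClosed_range (fun w => by
      obtain ⟨u, v, huv⟩ := hmul w
      refine ⟨pimg (lift u v ≫ p₁), ?_⟩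
      rw [← pimg_comp, Category.assoc, hpj, Category.comp_id, hm, lift_fst, lift_snd, huv]) ⟨z, rfl⟩
    obtain ⟨x', rfl⟩ := hsu.surj x
    refine ⟨x', ?_⟩
    rw [← hpj]
    exact hx
  haveI : IsReduced G.left := GrpSchLib.isReduced_of_smooth_field G.hom
  haveI : QuasiCompact (m.left ≫ G.hom) := by rw [Over.w m]; infer_instance
  haveI : QuasiCompact m.left := QuasiCompact.of_comp m.left G.hom
  haveI : Flat m.left := Agent.GrpSchLib.flat_of_surjective_hom m
  exact ⟨m, hm, inferInstance, inferInstance, inferInstance⟩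

set_option maxHeartbeats 2000000 in
/-- **What moves a Cartan subgroup into itself normalises its torus.** -/
theorem normT_affine [IsAffine G.left] [Smooth G.hom] [ConnectedSpace G.left] {i : T ⟶ G}
    (hi : AGF.IsMaxTorus i) {c : C ⟶ G} (hc : Red.IsCentralizerOf i c) {Y : Over (Spec (CommRingCat.of k))}
    (n : Y ⟶ G)
    (h₂ : ∀ (X' : Over (Spec (CommRingCat.of k))) (x : X' ⟶ Y) (h : X' ⟶ C),
      ∃ h' : X' ⟶ C, (x ≫ n)⁻¹ * (h ≫ c) * (x ≫ n) = h' ≫ c) : NormT i n := by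
  haveI : IsAffineHom G.hom := isAffineHom_of_isAffine _
  haveI : QuasiCompact G.hom := inferInstance
  haveI := Agent.GrpSchLib.AntiAffine.isSeparated_grp G
  obtain ⟨hcc, hCs, hCc, -, -⟩ := cartan_props hi hc
  obtain ⟨him, himo, hT, hmax⟩ := id hi
  haveI := hcc; haveI := hCs; haveI := hCc; haveI := him; haveI := himo; haveI := hc.1
  haveI : Mono c := hc.2.1
  haveI : QuasiCompact C.hom := by rw [← Over.w c]; infer_instance
  obtain ⟨hTa, hTl, hTs, hTc⟩ := Deform.TorusBasic.props hT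
  haveI := hTa; haveI := hTs; haveI := hTc
  haveI : IsAffineHom T.hom := isAffineHom_of_isAffine _
  haveI : IsReduced T.left := GrpSchLib.isReduced_of_smooth_field T.hom
  haveI : IsClosedImmersion i.left := isClosedImmersion_of_mono i
  obtain ⟨X, a, o, hl, hq, hfl, hsu, sq⟩ := Agent.GrpSchLib.HomogeneousQuot.exists_quot G C c
  haveI := hl; haveI := hq; haveI := hfl; haveI := hsu
  haveI := smooth_quot a o
  haveI := isSeparated_quot c a o ⟨hl, hfl, hsu, sq⟩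
  haveI : QuasiCompact ((a.orbitMap o).left ≫ X.hom) := by rw [Over.w (a.orbitMap o)]; infer_instance
  haveI : QuasiCompact (a.orbitMap o).left := QuasiCompact.of_comp (a.orbitMap o).left X.hom
  haveI : Smooth (a.orbitMap o).left :=
    MorphismProperty.of_isPullback_of_descendsAlong (P := @Smooth) (Q := @Surjective ⊓ @Flat ⊓ @QuasiCompact)
      (show IsPullback (pullback.fst G.hom C.hom) ((G ◁ c) ≫ μ[G]).left (a.orbitMap o).left (a.orbitMap o).left from
        sq.map (Over.forget _)) ⟨⟨inferInstance, inferInstance⟩, inferInstance⟩ inferInstance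
  obtain ⟨F, j, hjc, hFs, hF⟩ := Deform.exists_fixedPoints
    (Deform.isMultType_of_ft (Deform.isMultTypeFT_of_isTorus hT)) (restrictAct a i)
  haveI := hjc; haveI := hFs
  have hfix : ∀ {X' : Over (Spec (CommRingCat.of k))} (h' : X' ⟶ C), lift (h' ≫ c) (toUnit X' ≫ o) ≫ a.act =
      toUnit X' ≫ o := fun {X'} h' => by
    have hh : (fst G C) ≫ a.orbitMap o = ((G ◁ c) ≫ μ[G]) ≫ a.orbitMap o := sq.w
    have h1 := congrArg (lift (1 : X' ⟶ G) h' ≫ ·) hh
    have e1 : ∀ g : X' ⟶ G, g ≫ a.orbitMap o = lift g (toUnit X' ≫ o) ≫ a.act := fun g => by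
      show g ≫ lift (𝟙 G) (toUnit G ≫ o) ≫ a.act = _
      rw [← Category.assoc, comp_lift, Category.comp_id, ← Category.assoc, comp_toUnit]
    simp only [← Category.assoc, lift_fst, lift_whiskerLeft, ← Hom.mul_def, _root_.one_mul, e1, act_one] at h1
    exact h1.symm
  have he1 : ∀ {X' : Over (Spec (CommRingCat.of k))} (g : X' ⟶ G), g ≫ a.orbitMap o =
      lift g (toUnit X' ≫ o) ≫ a.act := fun {X'} g => by
    show g ≫ lift (𝟙 G) (toUnit G ≫ o) ≫ a.act = _
    rw [← Category.assoc, comp_lift, Category.comp_id, ← Category.assoc, comp_toUnit]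
  obtain ⟨t₀, ht₀⟩ := (hc.2.2 T i).mpr fun X' x h => by
    rw [← MonObj.mul_comp, ← MonObj.mul_comp,
      Agent.GrpSchLib.MultTypeComm.points_comm (Deform.isMultTypeFT_of_isTorus hT) x h]
  haveI : IsMonHom t₀ := Deform.isMonHom_of_comp t₀ c (i := i) ht₀
  obtain ⟨z, hz⟩ := (hF Y (n ≫ a.orbitMap o)).mpr fun Y' y h => by
    obtain ⟨h', hh'⟩ := h₂ Y' y (h ≫ t₀)
    rw [lift_restrictAct, ← Category.assoc y, he1, act_mul,
      show (h ≫ i) * (y ≫ n) = (y ≫ n) * (h' ≫ c) by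
        rw [← hh', Category.assoc h t₀ c, ht₀]; simp only [_root_.mul_assoc, mul_inv_cancel_left],
      ← act_mul, hfix]
  -- the preimage of the fixed points
  let E : Over (Spec (CommRingCat.of k)) := Over.mk (pullback.fst j.left (a.orbitMap o).left ≫ F.hom)
  let pF : E ⟶ F := Over.homMk (pullback.fst j.left (a.orbitMap o).left) rfl
  let pr : E ⟶ G := Over.homMk (pullback.snd j.left (a.orbitMap o).left) (by
    show pullback.snd _ _ ≫ G.hom = pullback.fst _ _ ≫ F.hom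
    rw [← Over.w j, ← Over.w (a.orbitMap o), ← Category.assoc, ← pullback.condition, Category.assoc])
  have hE : pF ≫ j = pr ≫ a.orbitMap o := Over.OverMorphism.ext pullback.condition
  haveI : Smooth E.hom := inferInstanceAs (Smooth (pullback.fst j.left (a.orbitMap o).left ≫ F.hom))
  have hnormE : ∀ v : Pt E, ∀ w : Pt T, (∃ w' : Pt T, w' ≫ i = (v ≫ pr) * (w ≫ i) * (v ≫ pr)⁻¹) ∧
      ∃ w' : Pt T, w' ≫ i = (v ≫ pr)⁻¹ * (w ≫ i) * (v ≫ pr) := by
    intro v
    set b := v ≫ pr with hb'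
    have hb : lift b o ≫ a.act = (v ≫ pF) ≫ j := by
      rw [← pt_orbitMap, hb', Category.assoc v pr, ← hE, Category.assoc]
    have hbT : ∀ w : Pt T, ∃ x : Pt C, x ≫ c = b⁻¹ * (w ≫ i) * b := fun w => by
      refine pt_of_quot sq ?_
      have h1 := (hF _ ((v ≫ pF) ≫ j)).mp ⟨v ≫ pF, rfl⟩ _ (𝟙 _) w
      rw [lift_restrictAct, Category.id_comp, ← hb] at h1
      rw [← act_mul, ← act_mul, h1, act_mul, inv_mul_cancel, act_one]
    obtain ⟨t₁, ht₁⟩ := Chev.exists_lift_range c (i ≫ conj b⁻¹)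
      (Chev.mem_of_pts _ c.left.isClosedEmbedding.isClosed_range fun w => by
        obtain ⟨x, hx⟩ := hbT w
        exact ⟨pimg x, by rw [← pimg_comp, hx, ← Category.assoc, pt_conj, _root_.inv_inv]⟩)
    haveI : Mono (conj b⁻¹) := IsSplitMono.mono _ (hf := IsSplitMono.mk' ⟨conj b⁻¹⁻¹, conj_right_inv b⁻¹⟩)
    haveI : IsMonHom t₁ := Deform.isMonHom_of_comp t₁ c (i := i ≫ conj b⁻¹) ht₁
    haveI : Mono (t₀ ≫ c) := by rw [ht₀]; infer_instance
    haveI : Mono t₀ := mono_of_mono t₀ c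
    haveI : Mono (t₁ ≫ c) := by rw [ht₁]; exact mono_comp i _
    haveI : Mono t₁ := mono_of_mono t₁ c
    have hm₀ : AGF.IsMaxTorus t₀ := ⟨inferInstance, inferInstance, hT, fun T₀ _ j _ _ d hT₀ hd =>
      hmax T₀ (j ≫ c) d hT₀ (by rw [← Category.assoc, hd, ht₀])⟩
    have hm₁ : AGF.IsMaxTorus t₁ := ⟨inferInstance, inferInstance, hT, fun T₀ _ j _ _ d hT₀ hd => by
      haveI : Mono (conj b) := IsSplitMono.mono _ (hf := IsSplitMono.mk' ⟨conj b⁻¹, conj_right_inv b⟩)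
      exact hmax T₀ (j ≫ c ≫ conj b) d hT₀ (by
        rw [← Category.assoc, hd, ← Category.assoc, ht₁, Category.assoc, conj_left_inv, Category.comp_id])⟩
    obtain ⟨x, e, -, he⟩ := conj_of_max t₀ t₁ hm₀ hm₁
    have key : ∀ w : Pt T, w ≫ i = b⁻¹ * ((w ≫ e.hom) ≫ i) * b := fun w => by
      have h1 : (((w ≫ e.hom) ≫ t₁) ≫ c) = w ≫ i := by
        rw [Category.assoc w e.hom t₁, he, ← comp_conj, ← Category.assoc w t₀, pt_conj, MonObj.mul_comp, MonObj.mul_comp,
          GrpObj.inv_comp, Category.assoc w t₀ c, ht₀, centralizer_comm hc x w, mul_inv_cancel_right]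
      rw [Category.assoc _ t₁ c, ht₁, ← Category.assoc, pt_conj, _root_.inv_inv] at h1
      exact h1.symm
    refine fun w => ⟨⟨w ≫ e.hom, ?_⟩, w ≫ e.inv, ?_⟩
    · rw [key w]; group
    · rw [key (w ≫ e.inv), Category.assoc w e.inv, e.inv_hom_id, Category.comp_id]
  haveI : IsReduced (E ⊗ T).left := by
    haveI : Smooth (E ⊗ T).hom := inferInstanceAs (Smooth (pullback.fst E.hom T.hom ≫ E.hom))
    exact GrpSchLib.isReduced_of_smooth_field (E ⊗ T).hom
  haveI : LocallyOfFiniteType (E ⊗ T).hom :=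
    inferInstanceAs (LocallyOfFiniteType (pullback.fst E.hom T.hom ≫ E.hom))
  obtain ⟨l₁, hl₁⟩ := Chev.exists_lift_range i ((fst E T ≫ pr) * (snd E T ≫ i) * (fst E T ≫ pr)⁻¹)
    (Chev.mem_of_pts _ i.left.isClosedEmbedding.isClosed_range fun v => by
      obtain ⟨⟨w', hw'⟩, -⟩ := hnormE (v ≫ fst E T) (v ≫ snd E T)
      refine ⟨pimg w', ?_⟩
      rw [← pimg_comp, hw']
      simp only [MonObj.comp_mul, GrpObj.comp_inv, Category.assoc])
  obtain ⟨l₂, hl₂⟩ := Chev.exists_lift_range i ((fst E T ≫ pr)⁻¹ * (snd E T ≫ i) * (fst E T ≫ pr))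
    (Chev.mem_of_pts _ i.left.isClosedEmbedding.isClosed_range fun v => by
      obtain ⟨-, w', hw'⟩ := hnormE (v ≫ fst E T) (v ≫ snd E T)
      refine ⟨pimg w', ?_⟩
      rw [← pimg_comp, hw']
      simp only [MonObj.comp_mul, GrpObj.comp_inv, Category.assoc])
  -- the cover
  let P : Over (Spec (CommRingCat.of k)) := Over.mk (pullback.fst z.left pF.left ≫ Y.hom)
  let e : P ⟶ Y := Over.homMk (pullback.fst z.left pF.left) rfl
  let q : P ⟶ E := Over.homMk (pullback.snd z.left pF.left) (by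
    show pullback.snd _ _ ≫ E.hom = pullback.fst _ _ ≫ Y.hom
    rw [← Over.w pF, ← Over.w z, ← Category.assoc, ← pullback.condition, Category.assoc])
  have heq : e ≫ z = q ≫ pF := Over.OverMorphism.ext pullback.condition
  haveI : Flat pF.left := inferInstanceAs (Flat (pullback.fst j.left (a.orbitMap o).left))
  haveI : Surjective pF.left := inferInstanceAs (Surjective (pullback.fst j.left (a.orbitMap o).left))
  haveI : QuasiCompact pF.left := inferInstanceAs (QuasiCompact (pullback.fst j.left (a.orbitMap o).left))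
  haveI : Flat e.left := inferInstanceAs (Flat (pullback.fst z.left pF.left))
  haveI : Surjective e.left := inferInstanceAs (Surjective (pullback.fst z.left pF.left))
  haveI : QuasiCompact e.left := inferInstanceAs (QuasiCompact (pullback.fst z.left pF.left))
  refine normT_of_cover i e n ?_
  have horb : (q ≫ pr) ≫ a.orbitMap o = (e ≫ n) ≫ a.orbitMap o := by
    rw [Category.assoc q pr, ← hE, ← Category.assoc, ← heq, Category.assoc, hz, Category.assoc]
  let w := sq.lift (q ≫ pr) (e ≫ n) horb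
  have hw : (q ≫ pr) * ((w ≫ snd G C) ≫ c) = e ≫ n := by
    have e' : w ≫ (G ◁ c) = lift (w ≫ fst G C) ((w ≫ snd G C) ≫ c) := by
      apply CartesianMonoidalCategory.hom_ext <;> simp
    rw [← sq.lift_fst (q ≫ pr) (e ≫ n) horb, Hom.mul_def, ← e', Category.assoc, sq.lift_snd]
  intro X' x h
  have hcomm : ∀ {S : Over (Spec (CommRingCat.of k))} (u : S ⟶ C) (v : S ⟶ T),
      (u ≫ c) * (v ≫ i) = (v ≫ i) * (u ≫ c) := fun u v =>
    ((hc.2.2 C c).mp ⟨𝟙 _, Category.id_comp _⟩) _ u v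
  rw [← hw, MonObj.comp_mul, ← Category.assoc x q pr, ← Category.assoc x (w ≫ snd G C) c]
  set u := x ≫ w ≫ snd G C
  refine ⟨⟨lift (x ≫ q) h ≫ l₁, ?_⟩, ?_⟩
  · rw [Category.assoc (lift (x ≫ q) h) l₁ i, hl₁]
    simp only [MonObj.comp_mul, GrpObj.comp_inv, ← Category.assoc, lift_fst, lift_snd, _root_.mul_inv_rev,
      _root_.mul_assoc]
    rw [← _root_.mul_assoc (u ≫ c), hcomm u h, _root_.mul_assoc, mul_inv_cancel_left]
  · refine ⟨lift (x ≫ q) h ≫ l₂, ?_⟩
    rw [Category.assoc (lift (x ≫ q) h) l₂ i, hl₂]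
    simp only [MonObj.comp_mul, GrpObj.comp_inv, ← Category.assoc, lift_fst, lift_snd, _root_.mul_inv_rev]
    obtain ⟨h', hh'⟩ : ∃ h' : X' ⟶ T, h' ≫ i = ((x ≫ q) ≫ pr)⁻¹ * (h ≫ i) * ((x ≫ q) ≫ pr) :=
      ⟨lift (x ≫ q) h ≫ l₂, by
        rw [Category.assoc, hl₂]
        simp only [MonObj.comp_mul, GrpObj.comp_inv, ← Category.assoc, lift_fst, lift_snd]⟩
    rw [← hh', show (u ≫ c)⁻¹ * ((x ≫ q) ≫ pr)⁻¹ * (h ≫ i) * (((x ≫ q) ≫ pr) * (u ≫ c)) =
      (u ≫ c)⁻¹ * (((x ≫ q) ≫ pr)⁻¹ * (h ≫ i) * ((x ≫ q) ≫ pr)) * (u ≫ c) by group, ← hh', _root_.mul_assoc,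
      ← hcomm u h', inv_mul_cancel_left]

set_option maxHeartbeats 2000000 in
/-- **What moves a Cartan subgroup into itself normalises its torus, without affineness.** -/
theorem normT_cartan [Smooth G.hom] [QuasiCompact G.hom] [ConnectedSpace G.left] {i : T ⟶ G}
    (hi : AGF.IsMaxTorus i) {c : C ⟶ G} (hc : Red.IsCentralizerOf i c) {Y : Over (Spec (CommRingCat.of k))}
    (n : Y ⟶ G)
    (h₂ : ∀ (X' : Over (Spec (CommRingCat.of k))) (x : X' ⟶ Y) (h : X' ⟶ C),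
      ∃ h' : X' ⟶ C, (x ≫ n)⁻¹ * (h ≫ c) * (x ≫ n) = h' ≫ c) : NormT i n := by
  haveI := Agent.GrpSchLib.AntiAffine.isSeparated_grp G
  obtain ⟨him, himo, hT, hmax⟩ := id hi
  haveI := him; haveI := himo
  obtain ⟨hTa, hTl, hTs, hTc⟩ := Deform.TorusBasic.props hT
  haveI := hTa; haveI := hTs; haveI := hTc
  haveI : IsAffineHom T.hom := isAffineHom_of_isAffine _
  haveI : IsClosedImmersion i.left := isClosedImmersion_of_mono i
  obtain ⟨N, gN, iN, K, gK, κ, hi', hic, hNs, hNc, hNa, hκ, hKs, hKq, hKc, -, hcen, hmul, hlift, -⟩ :=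
    exists_affine_mul_central (G := G)
  haveI := hi'; haveI := hic; haveI := hNs; haveI := hNc; haveI := hNa; haveI := hκ; haveI := hKs; haveI := hKq
  haveI : Mono iN := (Over.forget _).mono_of_mono_map (inferInstanceAs (Mono iN.left))
  haveI : IsAffineHom N.hom := isAffineHom_of_isAffine _
  obtain ⟨tN, htN⟩ := hlift T i
  haveI : IsMonHom tN := Deform.isMonHom_of_comp tN iN (i := i) htN
  haveI : Mono (tN ≫ iN) := by rw [htN]; infer_instance
  haveI : Mono tN := mono_of_mono tN iN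
  have hiN : AGF.IsMaxTorus tN := ⟨inferInstance, inferInstance, hT, fun T' _ j _ _ f hT' hf =>
    hmax T' (j ≫ iN) f hT' (by rw [← Category.assoc, hf, htN])⟩
  obtain ⟨CN, gCN, cN, hcN, -, -⟩ :=
    Deform.exists_centralizer (Deform.isMultType_of_ft (Deform.isMultTypeFT_of_isTorus hT)) tN
  obtain ⟨m, hm, hmf, hms, hmq⟩ := exists_mul_cover (G := G) iN κ hcen hmul
  haveI := hmf; haveI := hms; haveI := hmq
  let P : Over (Spec (CommRingCat.of k)) := Over.mk (pullback.fst n.left m.left ≫ Y.hom)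
  let e : P ⟶ Y := Over.homMk (pullback.fst n.left m.left) rfl
  let q : P ⟶ N ⊗ K := Over.homMk (pullback.snd n.left m.left) (by
    show pullback.snd _ _ ≫ (N ⊗ K).hom = pullback.fst _ _ ≫ Y.hom
    rw [← Over.w m, ← Over.w n, ← Category.assoc, ← pullback.condition, Category.assoc])
  have heq : e ≫ n = q ≫ m := Over.OverMorphism.ext pullback.condition
  haveI : Flat e.left := inferInstanceAs (Flat (pullback.fst n.left m.left))
  haveI : Surjective e.left := inferInstanceAs (Surjective (pullback.fst n.left m.left))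
  haveI : QuasiCompact e.left := inferInstanceAs (QuasiCompact (pullback.fst n.left m.left))
  have hCN : ∀ {S : Over (Spec (CommRingCat.of k))} (x : S ⟶ CN), ∃ y : S ⟶ C, y ≫ c = x ≫ cN ≫ iN :=
    fun {S} x => (hc.2.2 S (x ≫ cN ≫ iN)).mpr fun X' x' h => by
      rw [← htN, ← Category.assoc h, ← Category.assoc x', ← Category.assoc (x' ≫ x), ← MonObj.mul_comp,
        ← MonObj.mul_comp, ((hcN.2.2 CN cN).mp ⟨𝟙 _, Category.id_comp _⟩) X' (x' ≫ x) h]
  have hsplit : ∀ {X' : Over (Spec (CommRingCat.of k))} (x : X' ⟶ P), x ≫ e ≫ n =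
      ((x ≫ q ≫ fst N K) ≫ iN) * ((x ≫ q ≫ snd N K) ≫ κ) := fun x => by
    rw [heq, ← Category.assoc x q m, hm]; simp only [Category.assoc]
  have hN := normT_affine hiN hcN (q ≫ fst N K) fun X' x h => by
    obtain ⟨y, hy⟩ := hCN h
    obtain ⟨h', hh'⟩ := h₂ X' (x ≫ e) y
    rw [hy, Category.assoc x e n, hsplit] at hh'
    have e1 : ((x ≫ q ≫ fst N K)⁻¹ * (h ≫ cN) * (x ≫ q ≫ fst N K)) ≫ iN = h' ≫ c := by
      rw [← hh', MonObj.mul_comp, MonObj.mul_comp, GrpObj.inv_comp, _root_.mul_inv_rev, Category.assoc h cN iN]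
      generalize (x ≫ q ≫ fst N K) ≫ iN = p
      have hz := hcen (x ≫ q ≫ snd N K) (p⁻¹ * (h ≫ cN ≫ iN) * p)
      calc p⁻¹ * (h ≫ cN ≫ iN) * p = ((x ≫ q ≫ snd N K) ≫ κ)⁻¹ *
            (((x ≫ q ≫ snd N K) ≫ κ) * (p⁻¹ * (h ≫ cN ≫ iN) * p)) := by group
        _ = _ := by rw [hz]; group
    obtain ⟨h'', hh''⟩ := (hcN.2.2 X' ((x ≫ q ≫ fst N K)⁻¹ * (h ≫ cN) * (x ≫ q ≫ fst N K))).mpr fun X'' x' w =>
      (cancel_mono iN).mp (by
        rw [MonObj.mul_comp, MonObj.mul_comp, Category.assoc x' _ iN, e1, Category.assoc w tN iN, htN, ← Category.assoc]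
        exact ((hc.2.2 C c).mp ⟨𝟙 _, Category.id_comp _⟩) _ (x' ≫ h') w)
    exact ⟨h'', hh''.symm⟩
  refine normT_of_cover i e n fun X' x h => ?_
  obtain ⟨⟨u, hu⟩, v, hv⟩ := hN X' x h
  have hu' := congrArg (· ≫ iN) hu
  have hv' := congrArg (· ≫ iN) hv
  simp only [MonObj.mul_comp, GrpObj.inv_comp, Category.assoc, htN] at hu' hv'
  rw [hsplit]
  simp only [Category.assoc]
  have hz := hcen (x ≫ q ≫ snd N K) (h ≫ i)
  simp only [Category.assoc] at hz
  refine ⟨⟨u, ?_⟩, v, ?_⟩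
  · rw [← hu', _root_.mul_inv_rev]
    generalize x ≫ q ≫ fst N K ≫ iN = p
    calc p * (x ≫ q ≫ snd N K ≫ κ) * (h ≫ i) * ((x ≫ q ≫ snd N K ≫ κ)⁻¹ * p⁻¹)
        = p * ((x ≫ q ≫ snd N K ≫ κ) * (h ≫ i)) * (x ≫ q ≫ snd N K ≫ κ)⁻¹ * p⁻¹ := by group
      _ = _ := by rw [hz]; group
  · rw [← hv', _root_.mul_inv_rev]
    have hz2 := hcen (x ≫ q ≫ snd N K) ((x ≫ q ≫ fst N K ≫ iN)⁻¹ * (h ≫ i) * (x ≫ q ≫ fst N K ≫ iN))
    simp only [Category.assoc] at hz2
    generalize x ≫ q ≫ fst N K ≫ iN = p at hz2 ⊢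
    calc (x ≫ q ≫ snd N K ≫ κ)⁻¹ * p⁻¹ * (h ≫ i) * (p * (x ≫ q ≫ snd N K ≫ κ))
        = (x ≫ q ≫ snd N K ≫ κ)⁻¹ * ((p⁻¹ * (h ≫ i) * p) * (x ≫ q ≫ snd N K ≫ κ)) := by group
      _ = _ := by rw [← hz2, inv_mul_cancel_left]

/-- What normalises a torus normalises its centraliser. -/
theorem normC_of_normT {i : T ⟶ G} {c : C ⟶ G} (hc : Red.IsCentralizerOf i c)
    {Y : Over (Spec (CommRingCat.of k))} (g : Y ⟶ G) (hg : NormT i g) {X' : Over (Spec (CommRingCat.of k))}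
    (x : X' ⟶ Y) (h : X' ⟶ C) :
    (∃ h' : X' ⟶ C, (x ≫ g) * (h ≫ c) * (x ≫ g)⁻¹ = h' ≫ c) ∧
      ∃ h' : X' ⟶ C, (x ≫ g)⁻¹ * (h ≫ c) * (x ≫ g) = h' ≫ c := by
  have hcomm : ∀ {S : Over (Spec (CommRingCat.of k))} (u : S ⟶ C) (v : S ⟶ T),
      (u ≫ c) * (v ≫ i) = (v ≫ i) * (u ≫ c) := fun u v =>
    ((hc.2.2 C c).mp ⟨𝟙 _, Category.id_comp _⟩) _ u v
  constructor
  · obtain ⟨z, hz⟩ := (hc.2.2 X' ((x ≫ g) * (h ≫ c) * (x ≫ g)⁻¹)).mpr fun X'' y t => by
      obtain ⟨t', ht'⟩ := (hg X'' (y ≫ x) t).2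
      simp only [MonObj.comp_mul, GrpObj.comp_inv]
      rw [← Category.assoc y x g, ← Category.assoc y h c,
        show t ≫ i = ((y ≫ x) ≫ g) * (t' ≫ i) * ((y ≫ x) ≫ g)⁻¹ by rw [← ht']; group]
      generalize (y ≫ x) ≫ g = a
      calc a * ((y ≫ h) ≫ c) * a⁻¹ * (a * (t' ≫ i) * a⁻¹) = a * (((y ≫ h) ≫ c) * (t' ≫ i)) * a⁻¹ := by group
        _ = _ := by rw [hcomm]; group
    exact ⟨z, hz.symm⟩
  · obtain ⟨z, hz⟩ := (hc.2.2 X' ((x ≫ g)⁻¹ * (h ≫ c) * (x ≫ g))).mpr fun X'' y t => by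
      obtain ⟨t', ht'⟩ := (hg X'' (y ≫ x) t).1
      simp only [MonObj.comp_mul, GrpObj.comp_inv]
      rw [← Category.assoc y x g, ← Category.assoc y h c,
        show t ≫ i = ((y ≫ x) ≫ g)⁻¹ * (t' ≫ i) * ((y ≫ x) ≫ g) by rw [← ht']; group]
      generalize (y ≫ x) ≫ g = a
      calc a⁻¹ * ((y ≫ h) ≫ c) * a * (a⁻¹ * (t' ≫ i) * a) = a⁻¹ * (((y ≫ h) ≫ c) * (t' ≫ i)) * a := by group
        _ = _ := by rw [hcomm]; group
    exact ⟨z, hz.symm⟩

end

end Groth.Agent.Deform.Borel
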