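import Groth.Agent.Deform.Borel.QuotFixed
import Groth.Agent.S5358

/-!
# Borel subgroups are their own normalisers, over any field
-/

universe u

open CategoryTheory CategoryTheory.Limits MonoidalCategory CartesianMonoidalCategory MonObj GrpObj AlgebraicGeometry

attribute [local instance] CategoryTheory.Hom.monoid CategoryTheory.Hom.group
set_option linter.style.haveILetI false
set_option linter.unusedSectionVars false

namespace Groth.Agent.Deform.Borel

noncomputable section

variable {k : Type u} [Field k]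

section Transfer

variable {K : Type u} [Field K] (y : Spec (CommRingCat.of K) ⟶ Spec (CommRingCat.of k))
variable {N B G : Over (Spec (CommRingCat.of k))} [GrpObj B] [GrpObj G]

theorem map_inv_pullback {X : Over (Spec (CommRingCat.of k))} (g : X ⟶ G) :
    (Over.pullback y).map g⁻¹ = ((Over.pullback y).map g)⁻¹ :=
  (MonoidHom.mk' (fun f : X ⟶ G => (Over.pullback y).map f)
    fun a b => Functor.map_mul (Over.pullback y) a b).map_inv g

/-- An identity between conjugates persists after base change. -/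
theorem exists_conj_bc (iB : B ⟶ G) (n : N ⟶ G)
    (h₁ : ∀ (X' : Over (Spec (CommRingCat.of k))) (x : X' ⟶ N) (h : X' ⟶ B),
      ∃ h' : X' ⟶ B, (x ≫ n) * (h ≫ iB) * (x ≫ n)⁻¹ = h' ≫ iB)
    (X' : Over (Spec (CommRingCat.of K))) (x : X' ⟶ Red.bc y N) (h : X' ⟶ Red.bc y B) :
    ∃ h' : X' ⟶ Red.bc y B, (x ≫ (Over.pullback y).map n) * (h ≫ (Over.pullback y).map iB) *
      (x ≫ (Over.pullback y).map n)⁻¹ = h' ≫ (Over.pullback y).map iB := by
  obtain ⟨a, ha⟩ := h₁ (N ⊗ B) (fst N B) (snd N B)
  let l : X' ⟶ (Over.pullback y).obj (N ⊗ B) := lift x h ≫ (CartesianMonoidalCategory.prodComparisonIso (Over.pullback y) N B).inv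
  have h1 : l ≫ (Over.pullback y).map (fst N B) = x := by
    have e : (CartesianMonoidalCategory.prodComparisonIso (Over.pullback y) N B).inv ≫ (Over.pullback y).map (fst N B) = fst _ _ := by
      rw [Iso.inv_comp_eq, CartesianMonoidalCategory.prodComparisonIso_hom, CartesianMonoidalCategory.prodComparison_fst]
    rw [Category.assoc, e, lift_fst]
  have h2 : l ≫ (Over.pullback y).map (snd N B) = h := by
    have e : (CartesianMonoidalCategory.prodComparisonIso (Over.pullback y) N B).inv ≫ (Over.pullback y).map (snd N B) = snd _ _ := by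
      rw [Iso.inv_comp_eq, CartesianMonoidalCategory.prodComparisonIso_hom, CartesianMonoidalCategory.prodComparison_snd]
    rw [Category.assoc, e, lift_snd]
  refine ⟨l ≫ (Over.pullback y).map a, ?_⟩
  have e := congrArg (fun m => l ≫ (Over.pullback y).map m) ha
  simp only [Functor.map_mul, map_inv_pullback, Functor.map_comp, MonObj.comp_mul, GrpObj.comp_inv,
    ← Category.assoc, h1, h2] at e
  exact e

end Transfer

/-- **A Borel subgroup is its own normaliser.** -/
theorem isNormalizerOf_borel (G : Over (Spec (CommRingCat.of k))) [GrpObj G] [IsAffine G.left] [Smooth G.hom]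
    [ConnectedSpace G.left] {B : Over (Spec (CommRingCat.of k))} [GrpObj B] {iB : B ⟶ G} (hB : Red.IsBorel iB) :
    Red.IsNormalizerOf iB iB := by
  obtain ⟨hbm, hbc, hBs, hfib⟩ := hB
  haveI := hbm; haveI := hbc; haveI := hBs
  haveI : IsAffineHom G.hom := isAffineHom_of_isAffine _
  haveI : QuasiCompact G.hom := inferInstance
  haveI : Mono iB := (Over.forget _).mono_of_mono_map (inferInstanceAs (Mono iB.left))
  refine ⟨hbm, inferInstance, fun X g => ⟨?_, fun hg => ?_⟩⟩
  · rintro ⟨z, rfl⟩ X' x h
    exact ⟨⟨(x ≫ z) * h * (x ≫ z)⁻¹, by rw [MonObj.mul_comp, MonObj.mul_comp, GrpObj.inv_comp, Category.assoc]⟩,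
      ⟨(x ≫ z)⁻¹ * h * (x ≫ z), by rw [MonObj.mul_comp, MonObj.mul_comp, GrpObj.inv_comp, Category.assoc]⟩⟩
  haveI : IsImmersion iB.left := inferInstance
  obtain ⟨N, iN, n, hnc, hN⟩ := (S5358.result k G B B iB iB).2.2 B iB
  haveI := hnc
  obtain ⟨z, hz⟩ := (hN.2.2 X g).mpr hg
  suffices ∃ f : N ⟶ B, f ≫ iB = n by
    obtain ⟨f, hf⟩ := this
    exact ⟨z ≫ f, by rw [Category.assoc, hf, hz]⟩
  let s₀ : ↥(Spec (CommRingCat.of k)) := IsLocalRing.closedPoint k
  let y := Red.geomPt s₀
  obtain ⟨hGa, hGs, hGc⟩ := bc_props y G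
  haveI := hGa; haveI := hGs; haveI := hGc
  haveI : LocallyOfFiniteType N.hom := by rw [← Over.w n]; infer_instance
  haveI : LocallyOfFiniteType (Red.bc y N).hom := inferInstanceAs (LocallyOfFiniteType (pullback.snd N.hom y))
  have hnorm := (hN.2.2 N n).mp ⟨𝟙 N, Category.id_comp n⟩
  refine exists_lift_of_bc y iB n (lift_of_normalizing (Red.bc y G) (hfib s₀) ((Over.pullback y).map n)
    (exists_conj_bc y iB n fun X' x h => (hnorm X' x h).1) fun X' x h => ?_)
  have h2 := exists_conj_bc y iB n⁻¹ (fun X' x h => by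
    rw [GrpObj.comp_inv, _root_.inv_inv]
    exact (hnorm X' x h).2) X' x h
  simpa only [map_inv_pullback, GrpObj.comp_inv, _root_.inv_inv] using h2

end

end Groth.Agent.Deform.Borel
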