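import Groth.Agent.Deform.Borel.CentBorel
import Groth.Agent.Deform.Borel.LineRep
import Groth.Agent.Deform.Borel.Union
import Mathlib.LinearAlgebra.Dimension.StrongRankCondition

/-!
# Borel subgroups are their own normalisers
-/

universe u

open CategoryTheory CategoryTheory.Limits MonoidalCategory CartesianMonoidalCategory MonObj GrpObj AlgebraicGeometry

attribute [local instance] CategoryTheory.Hom.monoid CategoryTheory.Hom.group
set_option linter.style.haveILetI false
set_option linter.unusedSectionVars false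

namespace Groth.Agent.Deform.Borel

open Chev (Pt pimg)
open Agent.GrpSchLib.Kunneth (Fn ev evPt evPt_comp ev_ev)
open Agent.GrpSchLib (act_mul act_one)
open Agent.GrpSchLib.AffineHopf (sp)

noncomputable section

variable {k : Type u} [Field k] [IsAlgClosed k]

/-- A morphism of groups which is multiplicative on rational points is a homomorphism. -/
theorem isMonHom_of_pts {X Y : Over (Spec (CommRingCat.of k))} [GrpObj X] [GrpObj Y] [Smooth X.hom]
    [IsSeparated Y.hom] (M : X ⟶ Y) (h : ∀ a b : Pt X, (a * b) ≫ M = (a ≫ M) * (b ≫ M)) : IsMonHom M where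
  one_hom := by
    rw [MonObj.one_eq_one, MonObj.one_eq_one]
    exact mul_eq_left.mp ((h 1 1).symm.trans (by rw [_root_.one_mul]))
  mul_hom := by
    haveI : Smooth (X ⊗ X).hom := inferInstanceAs (Smooth (pullback.fst X.hom X.hom ≫ X.hom))
    refine comp_inj_pt _ _ fun z => ?_
    rw [← lift_comp_fst_snd z, ← Category.assoc, ← Category.assoc, lift_map, ← Hom.mul_def, ← Hom.mul_def]
    exact h _ _

section Group

variable {A : Type*} [Group A] (σ : A →* A)

theorem nprod_hom (hc : ∀ a b : A, a * b = b * a) (a b : A) :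
    ∀ n, nprod σ (a * b) n = nprod σ a n * nprod σ b n
  | 0 => (_root_.mul_one 1).symm
  | n + 1 => by
    rw [nprod, nprod, nprod, nprod_hom hc a b n, iterate_map_mul]
    calc _ = nprod σ a n * (nprod σ b n * σ^[n] a) * σ^[n] b := by simp only [_root_.mul_assoc]
      _ = nprod σ a n * (σ^[n] a * nprod σ b n) * σ^[n] b := by rw [hc (nprod σ b n)]
      _ = _ := by simp only [_root_.mul_assoc]

theorem mul_map_nprod (a : A) : ∀ n, a * σ (nprod σ a n) = nprod σ a (n + 1)
  | 0 => by simp [nprod]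
  | n + 1 => by
    rw [nprod, map_mul, ← _root_.mul_assoc, mul_map_nprod a n, ← Function.iterate_succ_apply' σ n a]
    rfl

theorem map_nprod_of_periodic (hc : ∀ a b : A, a * b = b * a) {m : ℕ} {a : A} (ha : σ^[m] a = a) :
    σ (nprod σ a m) = nprod σ a m := by
  have h := mul_map_nprod σ a m
  rw [nprod, ha, hc (nprod σ a m) a] at h
  exact mul_left_cancel h

theorem apply_nprod {M : Type*} [CommMonoid M] (f : A →* M) (hf : ∀ a, f (σ a) = f a) (a : A) :
    ∀ n, f (nprod σ a n) = f a ^ n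
  | 0 => by simp [nprod]
  | n + 1 => by
    have e : f (σ^[n] a) = f a := by
      induction n with
      | zero => rfl
      | succ j ih => rw [Function.iterate_succ_apply', hf, ih]
    rw [nprod, map_mul, apply_nprod f hf a n, e, pow_succ]

end Group

set_option maxHeartbeats 4000000 in
/-- **A Borel subgroup of a connected affine group is its own normaliser.** -/
theorem norm_mem_borel (G : Over (Spec (CommRingCat.of k))) [GrpObj G] [IsAffine G.left] [Smooth G.hom]
    [ConnectedSpace G.left] {B : Over (Spec (CommRingCat.of k))} [GrpObj B] (iB : B ⟶ G)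
    (hB : Red.IsBorelOver k iB) (x : Pt G) (hx : ∀ b : Pt B, ∃ b' : Pt B, b' ≫ iB = x * (b ≫ iB) * x⁻¹) :
    ∃ b : Pt B, b ≫ iB = x := by
  haveI : IsAffineHom G.hom := isAffineHom_of_isAffine _
  haveI : IsLocallyNoetherian G.left := LocallyOfFiniteType.isLocallyNoetherian G.hom
  haveI : IsNoetherian G.left := { }
  suffices ∀ (C : TopologicalSpace.Closeds G.left) (G' : Over (Spec (CommRingCat.of k))) [GrpObj G']
      [IsAffine G'.left] [Smooth G'.hom] [ConnectedSpace G'.left] (e : G' ⟶ G), IsClosedImmersion e.left →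
      Set.range e.left = C → ∀ {B : Over (Spec (CommRingCat.of k))} [GrpObj B] (iB : B ⟶ G'),
      Red.IsBorelOver k iB → ∀ x : Pt G', (∀ b : Pt B, ∃ b' : Pt B, b' ≫ iB = x * (b ≫ iB) * x⁻¹) →
      ∃ b : Pt B, b ≫ iB = x from
    this ⟨Set.univ, isClosed_univ⟩ G (𝟙 G) (inferInstanceAs (IsClosedImmersion (𝟙 G.left))) (by simp) iB hB x hx
  clear hx x hB iB
  intro C
  induction C using WellFoundedLT.induction with
  | ind C ih =>
  intro G' _ _ _ _ e hec heC B _ iB hB x hx
  haveI := hec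
  haveI : IsAffineHom G'.hom := isAffineHom_of_isAffine _
  haveI : QuasiCompact G'.hom := inferInstance
  haveI := Agent.GrpSchLib.AntiAffine.isSeparated_grp G'
  haveI : JacobsonSpace G'.left := LocallyOfFiniteType.jacobsonSpace G'.hom
  obtain ⟨hbm, hbc, hBs, hBcn, hBsol, -⟩ := id hB
  haveI := hbm; haveI := hbc; haveI := hBs; haveI := hBcn
  haveI : IsAffine B.left := isAffine_of_isAffineHom iB.left
  haveI : IsAffineHom B.hom := isAffineHom_of_isAffine _
  haveI : Group.IsSolvable (Pt B) := isSolvable_pts_of_grp hBsol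
  haveI : Mono iB := (Over.forget _).mono_of_mono_map (inferInstanceAs (Mono iB.left))
  have hBcl : IsClosed (Set.range iB.left) := iB.left.isClosedEmbedding.isClosed_range
  haveI : IsReduced B.left := GrpSchLib.isReduced_of_smooth_field B.hom
  -- a maximal torus of the Borel subgroup, stable under a translate of `x`
  obtain ⟨T, iT, t, ⟨htm, htc, hT, huniv⟩, π, hπt, -, hchar, -⟩ := exists_levi B
  haveI := htm; haveI := htc
  obtain ⟨hTa, hTl, hTs, hTc⟩ := Deform.TorusBasic.props hT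
  haveI := hTa; haveI := hTl; haveI := hTs; haveI := hTc
  haveI : IsAffineHom T.hom := isAffineHom_of_isAffine _
  haveI : IsIntegral T.left := Agent.GrpSchLib.Kunneth.isIntegral_grp T
  haveI : IsReduced T.left := GrpSchLib.isReduced_of_smooth_field T.hom
  haveI : IrreducibleSpace T.left := inferInstance
  haveI := Agent.GrpSchLib.AntiAffine.isSeparated_grp T
  have hTcomm : ∀ a b : Pt T, a * b = b * a := fun a b =>
    Agent.GrpSchLib.MultTypeComm.points_comm (Deform.isMultTypeFT_of_isTorus hT) a b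
  haveI : Mono t := (Over.forget _).mono_of_mono_map (inferInstanceAs (Mono t.left))
  set i := t ≫ iB with hi
  haveI : Mono i := mono_comp t iB
  obtain ⟨t₁, ht₁⟩ := Chev.exists_lift_range iB (i ≫ conj x) (Chev.mem_of_pts _ hBcl fun w => by
    obtain ⟨b', hb'⟩ := hx (w ≫ t)
    refine ⟨pimg b', ?_⟩
    rw [← pimg_comp, hb', ← Category.assoc w, pt_conj, hi, Category.assoc w t])
  haveI : IsMonHom t₁ := Deform.isMonHom_of_comp t₁ iB (i := i ≫ conj x) ht₁
  haveI : Mono (conj x) := IsSplitMono.mono _ (hf := IsSplitMono.mk' ⟨conj x⁻¹, conj_right_inv x⟩)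
  haveI : Mono (t₁ ≫ iB) := by rw [ht₁]; exact mono_comp i (conj x)
  haveI : Mono t₁ := mono_of_mono t₁ iB
  obtain ⟨g₀, φ, hφ, hφt⟩ := huniv T t₁ hT
  haveI := hφ
  set x' := (g₀ ≫ iB) * x with hx'
  set σ := ptsMap φ with hσ
  have hφi : φ ≫ i = i ≫ conj x' := by
    rw [hi, reassoc_of% hφt, ← comp_conj, Category.assoc, hx']
    have e : conj g₀ ≫ iB = iB ≫ conj (g₀ ≫ iB) := by
      simp only [conj, MonObj.mul_comp, GrpObj.inv_comp, MonObj.comp_mul, GrpObj.comp_inv, Category.assoc,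
        Category.id_comp, Category.comp_id]
      rw [← Category.assoc iB (toUnit G'), comp_toUnit]
    rw [e, reassoc_of% ht₁, conj_mul, hi, Category.assoc]
  have hσi : ∀ w : Pt T, σ w ≫ i = x' * (w ≫ i) * x'⁻¹ := fun w => by
    rw [hσ, ptsMap_apply, Category.assoc, hφi, ← Category.assoc, pt_conj]
  have hx'B : ∀ b : Pt B, ∃ b' : Pt B, b' ≫ iB = x' * (b ≫ iB) * x'⁻¹ := fun b => by
    obtain ⟨b', hb'⟩ := hx b
    exact ⟨g₀ * b' * g₀⁻¹, by rw [MonObj.mul_comp, MonObj.mul_comp, hb', GrpObj.inv_comp, hx']; group⟩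
  suffices key : ∃ b : Pt B, b ≫ iB = x' by
    obtain ⟨b, hb⟩ := key
    exact ⟨g₀⁻¹ * b, by rw [MonObj.mul_comp, GrpObj.inv_comp, hb, hx', inv_mul_cancel_left]⟩
  clear_value x'
  -- the twisted norm
  obtain ⟨N, w₀, hN, hw₀, hreg⟩ := exists_regular G' hT i
  have hσinj : Function.Injective σ := fun a b h => by
    have h' : σ a ≫ i = σ b ≫ i := by rw [h]
    rw [hσi, hσi] at h'
    exact (cancel_mono i).mp (mul_left_cancel (mul_right_cancel h'))
  obtain ⟨m, hm, hσm⟩ : ∃ m, 0 < m ∧ σ^[m] w₀ = w₀ := by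
    have hmem : ∀ n : ℕ, σ^[n] w₀ ∈ {w : Pt T | w ^ N = 1} := fun n => by
      show (σ^[n] w₀) ^ N = 1
      rw [← iterate_map_pow, hw₀, iterate_map_one]
    obtain ⟨a, -, b, -, hab, he⟩ := Set.infinite_univ.exists_ne_map_eq_of_mapsTo (f := fun n : ℕ => σ^[n] w₀)
      (fun n _ => hmem n) (finite_torsion T hT N fun h => hN (by simp [h]))
    wlog hlt : a < b generalizing a b
    · exact this b a hab.symm he.symm (by omega)
    refine ⟨b - a, by omega, (hσinj.iterate a) ?_⟩
    rw [← Function.iterate_add_apply, Nat.add_sub_cancel' hlt.le]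
    exact he.symm
  have hpow : ∀ (n : ℕ) (w : Pt T), σ^[n] w ≫ i = x' ^ n * (w ≫ i) * (x' ^ n)⁻¹ := fun n => by
    induction n with
    | zero => intro w; simp
    | succ n ih => intro w; rw [Function.iterate_succ_apply', hσi, ih, pow_succ']; group
  have hσm' : ∀ w, σ^[m] w = w := fun w => (cancel_mono i).mp (by
    have h0 := hpow m w₀
    rw [hσm] at h0
    rw [hpow, hreg (x' ^ m) (mul_inv_eq_iff_eq_mul.mp h0.symm) w, mul_inv_cancel_right])
  obtain ⟨Nm, hNm⟩ := nprod_comp φ m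
  haveI : IsMonHom Nm := isMonHom_of_pts Nm fun a b => by rw [hNm, hNm, hNm, nprod_hom _ hTcomm]
  obtain ⟨J, iJ, c, hcm, hcc, hJs, hJc, hJcomm, hJall⟩ := exists_connected_cent_torus G' hT (Nm ≫ i)
  haveI := hcm; haveI := hcc; haveI := hJs; haveI := hJc
  haveI : Mono c := (Over.forget _).mono_of_mono_map (inferInstanceAs (Mono c.left))
  have hJ : ∀ g : Pt G', (∃ y : Pt J, y ≫ c = g) ↔ ∀ w : Pt T, g * (w ≫ Nm ≫ i) = (w ≫ Nm ≫ i) * g := fun g =>
    ⟨fun ⟨y, hy⟩ w => hy ▸ hJcomm y w, hJall g⟩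
  obtain ⟨xJ, hxJ⟩ := hJall x' fun w => by
    rw [← Category.assoc, hNm]
    have h := hσi (nprod σ w m)
    rw [show σ (nprod σ w m) = nprod σ w m from map_nprod_of_periodic σ hTcomm (hσm' w)] at h
    exact (mul_inv_eq_iff_eq_mul.mp h.symm)
  by_cases hne : Set.range c.left = Set.univ
  swap
  · haveI : IsAffine J.left := isAffine_of_isAffineHom c.left
    obtain ⟨D, iD, d, dB, hD, hdBm, hdBc, hdc, hpts⟩ :=
      exists_cent_borel G' hT (Nm ≫ i) iB hB (Nm ≫ t) (by rw [Category.assoc]) c hJ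
    haveI : IsClosedImmersion (c ≫ e).left := inferInstanceAs (IsClosedImmersion (c.left ≫ e.left))
    let C' : TopologicalSpace.Closeds G.left :=
      ⟨Set.range (c ≫ e).left, (c ≫ e).left.isClosedEmbedding.isClosed_range⟩
    have hlt : C' < C := by
      have hle : (C' : Set G.left) ⊆ C := by
        rw [← heC]
        rintro _ ⟨z, rfl⟩
        exact ⟨_, rfl⟩
      refine lt_of_le_of_ne hle fun heq => hne (Set.eq_univ_of_forall fun z => ?_)
      have h1 : e.left z ∈ (C' : Set G.left) := by rw [heq, ← heC]; exact ⟨_, rfl⟩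
      obtain ⟨z', hz'⟩ := h1
      exact ⟨z', e.left.isClosedEmbedding.injective hz'⟩
    obtain ⟨z, hz⟩ := ih C' hlt J (c ≫ e) inferInstance rfl d hD xJ fun z => by
      obtain ⟨b', hb'⟩ := hx'B (z ≫ dB)
      obtain ⟨z', hz'⟩ := hpts (xJ * (z ≫ d) * xJ⁻¹) ⟨b', by
        rw [MonObj.mul_comp, MonObj.mul_comp, GrpObj.inv_comp, hxJ, Category.assoc z d c, hdc, hb', Category.assoc]⟩
      exact ⟨z', hz'⟩
    exact ⟨z ≫ dB, by rw [Category.assoc, ← hdc, ← Category.assoc, hz, hxJ]⟩
  -- the norm is central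
  have hcen : ∀ (g : Pt G') (w : Pt T), g * (w ≫ Nm ≫ i) = (w ≫ Nm ≫ i) * g := fun g w => by
    obtain ⟨y, rfl⟩ := exists_lift_pt c (p := g) (by rw [hne]; exact Set.mem_univ _)
    exact hJcomm y w
  -- the normaliser
  have hinv : ∀ g : Pt G', (∀ b : Pt B, ∃ b' : Pt B, b' ≫ iB = g * (b ≫ iB) * g⁻¹) →
      ∀ b : Pt B, ∃ b' : Pt B, b' ≫ iB = g⁻¹ * (b ≫ iB) * g := fun g hg b => by
    have hsub : Set.range (iB ≫ conj g).left ⊆ Set.range iB.left := Chev.mem_of_pts _ hBcl fun w => by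
      obtain ⟨b', hb'⟩ := hg w
      exact ⟨pimg b', by rw [← pimg_comp, hb', ← Category.assoc, pt_conj]⟩
    have heq := range_conj_eq hBcl g (by
      rintro _ ⟨_, ⟨z, rfl⟩, rfl⟩
      exact hsub ⟨z, rfl⟩)
    obtain ⟨_, ⟨z, rfl⟩, hz⟩ : pimg (b ≫ iB) ∈ (conj g).left '' Set.range iB.left := by
      rw [heq]; exact ⟨pimg b, rfl⟩
    refine exists_lift_pt iB ⟨z, ?_⟩
    rw [show g⁻¹ * (b ≫ iB) * g = (b ≫ iB) ≫ conj g⁻¹ by rw [pt_conj, _root_.inv_inv], pimg_comp, ← hz, ← left_comp,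
      conj_right_inv]
    rfl
  let H : Subgroup (Pt G') :=
    { carrier := {g | ∀ b : Pt B, ∃ b' : Pt B, b' ≫ iB = g * (b ≫ iB) * g⁻¹}
      one_mem' := fun b => ⟨b, by group⟩
      mul_mem' := fun {g g'} hg hg' b => by
        obtain ⟨b', hb'⟩ := hg' b
        obtain ⟨b'', hb''⟩ := hg b'
        exact ⟨b'', by rw [hb'', hb']; group⟩
      inv_mem' := fun {g} hg b => by
        obtain ⟨b', hb'⟩ := hinv g hg b
        exact ⟨b', by rw [hb', _root_.inv_inv]⟩ }
  let cj : Pt B → (G' ⟶ G') := fun b => 𝟙 G' * (toUnit G' ≫ b ≫ iB) * (𝟙 G')⁻¹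
  have hcj : ∀ (g : Pt G') (b : Pt B), g ≫ cj b = g * (b ≫ iB) * g⁻¹ := fun g b => by
    simp only [cj, MonObj.comp_mul, GrpObj.comp_inv, Category.comp_id, pt_const]
  let Z : Set G'.left := ⋂ b : Pt B, (cj b).left ⁻¹' Set.range iB.left
  have hZH : ∀ g : Pt G', pimg g ∈ Z ↔ g ∈ H := fun g => by
    refine Set.mem_iInter.trans (forall_congr' fun b => ?_)
    rw [Set.mem_preimage, ← pimg_comp, hcj]
    exact ⟨fun h => exists_lift_pt iB h, fun ⟨b', hb'⟩ => ⟨pimg b', by rw [← pimg_comp, hb']⟩⟩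
  obtain ⟨Y, iY', iY, hiY, hiYc, -, hYl, -, hYH, hHY⟩ :=
    Chev.exists_subgroup H (isClosed_iInter fun b => hBcl.preimage (cj b).left.continuous) hZH
  haveI := hiY; haveI := hiYc
  obtain ⟨n, z, α, hsum, ⟨L, hL⟩, hcrit⟩ := exists_vecRep G' Y iY
  let Φ : Fin (n + 1) → Pt G' → k := fun l g => evPt g (z l)
  have hL' : ∀ (g h : Pt G') (l), Φ l (g * h) = ∑ s, evPt g (L l s) * Φ s h := fun g h l => by
    show evPt (g * h) (z l) = _
    rw [evPt_eq, hL, map_sum]
    exact Finset.sum_congr rfl fun s _ => by rw [map_mul, ← evPt_eq, ← evPt_eq]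
  have hev1 : Function.Injective (evPt (Y := 𝟙_ (Over (Spec (CommRingCat.of k)))) (𝟙 _)) := by
    intro a b h
    have hinj : Function.Injective ((Scheme.ΓSpecIso (CommRingCat.of k)).hom) :=
      (Scheme.ΓSpecIso (CommRingCat.of k)).commRingCatIsoToRingEquiv.injective
    exact hinj h
  have hcrit' : ∀ g g' : Pt G', (∀ p q, Φ p g * Φ q g' = Φ q g * Φ p g') ↔ g⁻¹ * g' ∈ H := fun g g' => by
    refine Iff.trans ?_ ((hcrit _ g g').trans ⟨fun ⟨h, hh⟩ => hh ▸ hYH h, fun h => ?_⟩)
    · refine forall_congr' fun p => forall_congr' fun q => ?_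
      show evPt g (z p) * evPt g' (z q) = evPt g (z q) * evPt g' (z p) ↔ _
      rw [evPt_eq g, evPt_eq g', evPt_eq g, evPt_eq g', ← map_mul, ← map_mul]
      exact hev1.eq_iff
    · obtain ⟨y, hy⟩ := hHY _ h
      exact ⟨y, hy.symm⟩
  have hsum' : ∀ g : Pt G', ∑ l, evPt g (α l) * Φ l g = 1 := fun g => by
    rw [← map_one (evPt g), ← hsum, map_sum]
    simp only [map_mul, Φ]
  obtain ⟨l₀, hl₀⟩ : ∃ l, Φ l 1 ≠ 0 := by
    by_contra! h
    have := hsum' 1
    simp only [h, mul_zero, Finset.sum_const_zero] at this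
    exact zero_ne_one this
  set c₀ := Φ l₀ 1 with hc₀
  let χ : Pt G' → k := fun g => Φ l₀ g / c₀
  have hχ : ∀ g ∈ H, ∀ (h : Pt G') (l), Φ l (h * g) = χ g * Φ l h := by
    intro g hg h l
    have hline : ∀ s, Φ s g = χ g * Φ s 1 := fun s => by
      have := (hcrit' 1 g).mpr (by rwa [inv_one, _root_.one_mul]) s l₀
      show Φ s g = Φ l₀ g / c₀ * Φ s 1
      rw [div_mul_eq_mul_div, eq_div_iff hl₀]
      linear_combination -this
    rw [hL', ← _root_.mul_one h, hL', Finset.mul_sum, _root_.mul_one]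
    exact Finset.sum_congr rfl fun s _ => by rw [hline s]; ring
  -- the determinant of the representation on the span of the orbit
  haveI : Module.Finite k (Submodule.span k (Set.range Φ)) := Module.Finite.span_of_finite k (Set.finite_range Φ)
  obtain ⟨r, f, hfmem, hfspan, hfli⟩ : ∃ (r : ℕ) (f : Fin r → Pt G' → k), (∀ j, f j ∈ Set.range Φ) ∧
      Submodule.span k (Set.range f) = Submodule.span k (Set.range Φ) ∧ LinearIndependent k f :=
    ⟨_, Submodule.exists_fun_fin_finrank_span_eq k (Set.range Φ)⟩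
  choose pi hpi using hfmem
  have hexp : ∀ l, ∃ a : Fin r → k, ∑ j, a j • f j = Φ l := fun l =>
    (Submodule.mem_span_range_iff_exists_fun k).mp (by rw [hfspan]; exact Submodule.subset_span ⟨l, rfl⟩)
  choose a ha using hexp
  let M : Matrix (Fin r) (Fin r) (Fn G') := Matrix.of fun p j => ∑ q, a q j • L (pi p) q
  let A : Pt G' → Matrix (Fin r) (Fin r) k := fun g => M.map (evPt g)
  have hA : ∀ (g h : Pt G') (p), f p (g * h) = ∑ j, A g p j * f j h := by
    intro g h p
    rw [← hpi p, hL']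
    calc ∑ q, evPt g (L (pi p) q) * Φ q h = ∑ q, evPt g (L (pi p) q) * ∑ j, a q j * f j h := by
          refine Finset.sum_congr rfl fun q _ => ?_
          rw [← ha q]; simp
      _ = _ := by
          simp only [A, M, Matrix.map_apply, Matrix.of_apply, map_sum, map_smul, smul_eq_mul, Finset.mul_sum,
            Finset.sum_mul]
          rw [Finset.sum_comm]
          exact Finset.sum_congr rfl fun j _ => Finset.sum_congr rfl fun q _ => by ring
  have huniq : ∀ A₁ A₂ : Matrix (Fin r) (Fin r) k,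
      (∀ h p, ∑ j, A₁ p j * f j h = ∑ j, A₂ p j * f j h) → A₁ = A₂ := fun A₁ A₂ h => by
    ext p j
    refine sub_eq_zero.mp (Fintype.linearIndependent_iff.mp hfli (fun j => A₁ p j - A₂ p j) ?_ j)
    funext y
    simp only [Finset.sum_apply, Pi.smul_apply, smul_eq_mul, sub_mul, Finset.sum_sub_distrib, h y p, sub_self,
      Pi.zero_apply]
  have hAmul : ∀ g g', A (g * g') = A g * A g' := fun g g' => huniq _ _ fun h p => by
    rw [← hA, _root_.mul_assoc, hA g (g' * h), Finset.sum_congr rfl fun j _ => by rw [hA g' h j, Finset.mul_sum]]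
    simp only [Matrix.mul_apply, Finset.sum_mul]
    rw [Finset.sum_comm]
    exact Finset.sum_congr rfl fun j _ => Finset.sum_congr rfl fun q _ => by ring
  have hAone : A 1 = 1 := huniq _ _ fun h p => by
    rw [← hA, _root_.one_mul]
    simp [Matrix.one_apply]
  let D : Pt G' → k := fun g => (A g).det
  have hDmul : ∀ g g', D (g * g') = D g * D g' := fun g g' => by show (A (g * g')).det = _; rw [hAmul, Matrix.det_mul]
  have hD1 : D 1 = 1 := by show (A 1).det = 1; rw [hAone, Matrix.det_one]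
  have hDev : ∀ g, evPt g M.det = D g := fun g => by rw [AlgHom.map_det]; rfl
  have hDcen : ∀ g ∈ H, (∀ h, g * h = h * g) → D g = χ g ^ r := by
    intro g hg hc
    have : A g = χ g • (1 : Matrix (Fin r) (Fin r) k) := huniq _ _ fun h p => by
      rw [← hA, hc, ← hpi p, hχ g hg, hpi p]
      simp [Matrix.one_apply]
    show (A g).det = _
    rw [this, Matrix.det_smul, Matrix.det_one, _root_.mul_one, Fintype.card_fin]
  have hχmul : ∀ g g', g' ∈ H → χ (g * g') = χ g * χ g' := fun g g' hg' => by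
    show Φ l₀ (g * g') / c₀ = Φ l₀ g / c₀ * χ g'
    rw [hχ g' hg']; ring
  have hχ1 : χ 1 = 1 := div_self hl₀
  let ξf : Fn G' := (c₀⁻¹ • z l₀) ^ r * ev (𝟙 G')⁻¹ M.det
  let ξ : Pt G' → k := fun g => evPt g ξf
  have hξ : ∀ g, ξ g = χ g ^ r * D g⁻¹ := fun g => by
    show evPt g ξf = _
    rw [map_mul, map_pow, map_smul, evPt_comp, GrpObj.comp_inv, Category.comp_id, hDev, smul_eq_mul,
      inv_mul_eq_div]
  have hξmul : ∀ g g', g' ∈ H → ξ (g * g') = ξ g * ξ g' := fun g g' hg' => by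
    rw [hξ, hξ, hξ, hχmul g g' hg', _root_.mul_inv_rev, hDmul, mul_pow]; ring
  have hξ1 : ξ 1 = 1 := by rw [hξ, hχ1, inv_one, hD1, one_pow, _root_.mul_one]
  have hBH : ∀ b : Pt B, b ≫ iB ∈ H := fun b b' =>
    ⟨b * b' * b⁻¹, by rw [MonObj.mul_comp, MonObj.mul_comp, GrpObj.inv_comp]⟩
  have hξtorus : ∀ w : Pt T, ξ (w ≫ i) = 1 := by
    let fT : Pt T →* k :=
      { toFun := fun w => ξ (w ≫ i)
        map_one' := by show ξ ((1 : Pt T) ≫ i) = 1; rw [MonObj.one_comp, hξ1]
        map_mul' := fun w w' => by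
          show ξ ((w * w') ≫ i) = _
          rw [MonObj.mul_comp, hi, ← Category.assoc w' t]
          exact hξmul _ _ (hBH _) }
    have hx'H : x' ∈ H := hx'B
    have hinvσ : ∀ w, fT (σ w) = fT w := fun w => by
      show ξ (σ w ≫ i) = ξ (w ≫ i)
      have hwH : w ≫ i ∈ H := by rw [hi, ← Category.assoc]; exact hBH _
      rw [hσi, hξmul _ _ (H.inv_mem hx'H), hξmul _ _ hwH]
      have h1 : ξ x' * ξ x'⁻¹ = 1 := by rw [← hξmul _ _ (H.inv_mem hx'H), mul_inv_cancel, hξ1]
      linear_combination ξ (w ≫ i) * h1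
    have hroot : ∀ w, fT w ^ m = 1 := fun w => by
      rw [← apply_nprod σ fT hinvσ w m, ← hNm]
      show ξ ((w ≫ Nm) ≫ i) = 1
      have hgH : (w ≫ Nm) ≫ i ∈ H := by rw [hi, ← Category.assoc]; exact hBH _
      have hcen' : ∀ g, ((w ≫ Nm) ≫ i) * g = g * ((w ≫ Nm) ≫ i) := fun g => by
        rw [Category.assoc]; exact (hcen g w).symm
      rw [hξ, ← hDcen _ hgH hcen', ← hDmul, mul_inv_cancel, hD1]
    intro w
    have hfr : ∀ v : Pt T, fT v = evPt v (ev i ξf) := fun v => (evPt_comp v i ξf).symm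
    obtain ⟨ψ, hψ⟩ := exists_toLine (ev i ξf)
    haveI : LocallyOfFiniteType (sp k (Polynomial k)).hom :=
      (HasRingHomProperty.Spec_iff (P := @LocallyOfFiniteType)).mpr
        (RingHom.finiteType_algebraMap.mpr inferInstance)
    have hfin : (Set.range fun v : Pt T => v ≫ ψ).Finite := by
      classical
      have hroots : (Set.range fT).Finite := ((Polynomial.nthRoots m (1 : k)).toFinset.finite_toSet).subset (by
        rintro _ ⟨v, rfl⟩
        simp [Polynomial.mem_nthRoots hm, hroot v])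
      refine (hroots.image fun u => Function.invFun fT u ≫ ψ).subset ?_
      rintro _ ⟨v, rfl⟩
      refine ⟨fT v, ⟨v, rfl⟩, (hψ _ _).mpr ?_⟩
      rw [← hfr, ← hfr]
      exact Function.invFun_eq ⟨v, rfl⟩
    have h1 := (hψ _ _).mp (const_of_finite ψ hfin (fun v => ⟨v, rfl⟩) w 1)
    rw [← hfr, ← hfr, map_one] at h1
    exact h1
  have hξB : ∀ b : Pt B, ξ (b ≫ iB) = 1 := fun b => by
    have hker : b * ((π b) ≫ t)⁻¹ ∈ π.ker := by rw [MonoidHom.mem_ker, map_mul, map_inv, hπt, mul_inv_cancel]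
    have h1 := hchar (ev iB ξf) (fun u v => by
      rw [evPt_comp, evPt_comp, evPt_comp, MonObj.mul_comp]
      exact hξmul _ _ (hBH v)) (by rw [evPt_comp, MonObj.one_comp]; exact hξ1) _ hker
    rw [evPt_comp] at h1
    rw [show b = b * ((π b) ≫ t)⁻¹ * ((π b) ≫ t) by rw [inv_mul_cancel_right], MonObj.mul_comp]
    refine (hξmul _ _ (hBH _)).trans ?_
    rw [show ξ ((b * ((π b) ≫ t)⁻¹) ≫ iB) = 1 from h1, Category.assoc, hξtorus, _root_.one_mul]
  -- every point normalises
  have hconst : ∀ (p : Fin (n + 1)) (g : Pt G'),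
      Φ p g * Φ l₀ g ^ (r - 1) * D g⁻¹ = Φ p 1 * c₀ ^ (r - 1) := fun p g => by
    have hf' : ∀ g, evPt g (z p * z l₀ ^ (r - 1) * ev (𝟙 G')⁻¹ M.det) = Φ p g * Φ l₀ g ^ (r - 1) * D g⁻¹ :=
      fun g => by rw [map_mul, map_mul, map_pow, evPt_comp, GrpObj.comp_inv, Category.comp_id, hDev]
    have h := const_fn_of_closedImg (closedImg_of_isBorelOver iB hB) (z p * z l₀ ^ (r - 1) * ev (𝟙 G')⁻¹ M.det)
      (fun g b => by
        have hr : r - 1 + 1 = r := Nat.sub_add_cancel (Nat.one_le_iff_ne_zero.mpr fun hr0 => by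
          have h0 : Φ l₀ = 0 := by
            rw [← ha l₀]
            exact Finset.sum_eq_zero fun j _ => (Fin.cast hr0 j).elim0
          exact hl₀ (congrFun h0 1))
        have h1 : χ (b ≫ iB) ^ (r - 1 + 1) * D (b ≫ iB)⁻¹ = 1 := by rw [hr, ← hξ, hξB]
        rw [hf', hf', hχ _ (hBH b), hχ _ (hBH b), _root_.mul_inv_rev, hDmul, mul_pow]
        linear_combination (Φ p g * Φ l₀ g ^ (r - 1) * D g⁻¹) * h1) g
    rwa [hf', hf', inv_one, hD1, _root_.mul_one] at h
  have hall : ∀ g : Pt G', g ∈ H := fun g => by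
    have h := (hcrit' 1 g).mp fun p q => ?_
    · rwa [inv_one, _root_.one_mul] at h
    have h0 : Φ l₀ g ^ (r - 1) * D g⁻¹ ≠ 0 := fun h0 => by
      have := hconst l₀ g
      rw [_root_.mul_assoc, h0, mul_zero] at this
      exact mul_ne_zero hl₀ (pow_ne_zero _ hl₀) this.symm
    refine mul_right_cancel₀ h0 ?_
    have hp := hconst p g
    have hq := hconst q g
    linear_combination Φ p 1 * hq - Φ q 1 * hp
  obtain ⟨y, b, hy⟩ := exists_conj_mem G' iB hB x'
  obtain ⟨b', hb'⟩ := hall y b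
  exact ⟨b', hb'.trans hy⟩

end

end Groth.Agent.Deform.Borel
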