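import Groth.Agent.Deform.Borel.ProjPts
import Groth.Agent.GrpSchLib.MatrixCoeff
import Groth.Agent.GrpSchLib.Action
import Groth.Agent.GrpSchLib.Coincidence

/-!
# The action of a group on projective space given by a matrix representation
-/

universe u

open CategoryTheory CategoryTheory.Limits MonoidalCategory CartesianMonoidalCategory MonObj GrpObj AlgebraicGeometry
open Matrix

attribute [local instance] CategoryTheory.Hom.monoid CategoryTheory.Hom.group
set_option linter.style.haveILetI false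
set_option linter.unusedSectionVars false

namespace Groth.Agent.Deform.Borel

open Chev (Pt pimg)
open Agent.GrpSchLib.Kunneth (Fn ev evPt evPt_comp ev_ev ev_apply IsRepMatrix)
open Agent.GrpSchLib.ProjLine (Pn pv comp_pv pv_eq_iff)
open Agent.GrpSchLib (act_mul act_one isPullback_whiskerLeft)

noncomputable section

variable {k : Type u} [Field k] [IsAlgClosed k] {G : Over (Spec (CommRingCat.of k))} [GrpObj G] {n : ℕ}
  {M : Matrix (Fin (n + 1)) (Fin (n + 1)) (Fn G)}

/-- The linear map of a rational point. -/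
def matPtOf (M : Matrix (Fin (n + 1)) (Fin (n + 1)) (Fn G)) (g : Pt G) : Matrix (Fin (n + 1)) (Fin (n + 1)) k :=
  M.map (evPt g)

theorem evPt_eq (g : Pt G) (f : Fn G) : evPt g f = evPt (𝟙 (𝟙_ (Over (Spec (CommRingCat.of k))))) (ev g f) := by
  rw [evPt_comp, Category.id_comp]

theorem matPtOf_eq (g : Pt G) : matPtOf M g = (M.map (ev g)).map (evPt (𝟙 _)) := by
  ext a b
  exact evPt_eq g _

theorem matPtOf_mul (h : IsRepMatrix M) (g g' : Pt G) : matPtOf M (g * g') = matPtOf M g * matPtOf M g' := by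
  rw [matPtOf_eq, matPtOf_eq, matPtOf_eq, h.mul, Matrix.map_mul]

theorem matPtOf_one (h : IsRepMatrix M) : matPtOf M (1 : Pt G) = 1 := by
  rw [matPtOf_eq, h.one, Matrix.map_one _ (map_zero _) (map_one _)]

theorem mulVec_injective (h : IsRepMatrix M) (g : Pt G) : Function.Injective (matPtOf M g *ᵥ ·) := fun v w e => by
  have := congrArg (matPtOf M g⁻¹ *ᵥ ·) e
  simpa [Matrix.mulVec_mulVec, ← matPtOf_mul h, matPtOf_one h] using this

theorem mulVec_cross (A : Matrix (Fin (n + 1)) (Fin (n + 1)) k) {v w : Fin (n + 1) → k}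
    (e : ∀ p q, v p * w q = v q * w p) (p q : Fin (n + 1)) : (A *ᵥ v) p * (A *ᵥ w) q = (A *ᵥ v) q * (A *ᵥ w) p := by
  simp only [Matrix.mulVec, dotProduct]
  rw [Finset.sum_mul_sum, Finset.sum_mul_sum]
  conv_rhs => rw [Finset.sum_comm]
  refine Finset.sum_congr rfl fun s _ => Finset.sum_congr rfl fun t _ => ?_
  linear_combination (A p s * A q t) * e s t

/-- `y` is the image of `x` under the linear map of `g`. -/
def IsImg (M : Matrix (Fin (n + 1)) (Fin (n + 1)) (Fn G)) (g : Pt G) (x y : Pt (Pn k n)) : Prop :=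
  ∀ v, HasCrd x v → HasCrd y (matPtOf M g *ᵥ v)

theorem IsImg.unique {g : Pt G} {x y y' : Pt (Pn k n)} (h1 : IsImg M g x y) (h2 : IsImg M g x y') : y = y' := by
  obtain ⟨v, hv⟩ := exists_crd x
  exact ((h1 v hv).eq_iff (h2 v hv)).mpr fun p q => mul_comm _ _

theorem isImg_iff {g : Pt G} {x y : Pt (Pn k n)} {v : Fin (n + 1) → k} (h : IsRepMatrix M) (hx : HasCrd x v)
    (hy : HasCrd y (matPtOf M g *ᵥ v)) : IsImg M g x y := fun w hw => by
  have hne : matPtOf M g *ᵥ w ≠ 0 := fun e => hw.ne_zero (mulVec_injective h g (e.trans (Matrix.mulVec_zero _).symm))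
  obtain ⟨y', hy'⟩ := exists_hasCrd hne
  have e : y = y' := (hy.eq_iff hy').mpr (mulVec_cross _ ((hx.eq_iff hw).mp rfl))
  rwa [e]

theorem pimg_mem_basicOpen {Z : Over (Spec (CommRingCat.of k))} (q : Pt Z) (f : Fn Z) (hf : evPt q f ≠ 0) :
    pimg q ∈ Z.left.basicOpen f := by
  by_contra hq
  refine hf ?_
  have h1 : q.left ⁻¹ᵁ Z.left.basicOpen f = ⊥ := by
    ext t
    simp only [TopologicalSpace.Opens.coe_bot, Set.mem_empty_iff_false, iff_false]
    intro ht
    rw [show t = IsLocalRing.closedPoint k from Subsingleton.elim (α := PrimeSpectrum k) _ _] at ht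
    exact hq ht
  rw [Scheme.preimage_basicOpen_top] at h1
  haveI : IsReduced (𝟙_ (Over (Spec (CommRingCat.of k)))).left :=
    inferInstanceAs (IsReduced (Spec (CommRingCat.of k)))
  have h2 : q.left.appTop f = 0 := (basicOpen_eq_bot_iff _).mp h1
  show (Scheme.ΓSpecIso (CommRingCat.of k)).hom (q.left.appTop f) = 0
  rw [h2, map_zero]

set_option maxHeartbeats 1000000 in
/-- **The action on projective space of a matrix representation.** -/
theorem exists_projAct [Smooth G.hom] (hM : IsRepMatrix M) :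
    ∃ a : AlgGrp.Action G (Pn k n), ∀ (g : Pt G) (x : Pt (Pn k n)), IsImg M g x (lift g x ≫ a.act) := by
  classical
  haveI : Smooth (G ⊗ Pn k n).hom := inferInstanceAs (Smooth (pullback.fst G.hom (Pn k n).hom ≫ G.hom))
  haveI : JacobsonSpace (G ⊗ Pn k n).left := LocallyOfFiniteType.jacobsonSpace (G ⊗ Pn k n).hom
  let w : ∀ (i l : Fin (n + 1)), Fn (G ⊗ U k n i) := fun i l =>
    ∑ m, ev (fst G (U k n i)) (M l m) * ev (snd G (U k n i)) (ucrd i m)
  let W : Fin (n + 1) × Fin (n + 1) → Over (Spec (CommRingCat.of k)) := fun p =>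
    Over.mk (((G ⊗ U k n p.1).left.basicOpen (w p.1 p.2)).ι ≫ (G ⊗ U k n p.1).hom)
  let o : ∀ p, W p ⟶ G ⊗ U k n p.1 := fun p => Over.homMk ((G ⊗ U k n p.1).left.basicOpen (w p.1 p.2)).ι rfl
  let j : ∀ p, W p ⟶ G ⊗ Pn k n := fun p => o p ≫ (G ◁ κ p.1)
  haveI hκ : ∀ i, IsOpenImmersion (G ◁ κ (k := k) (n := n) i).left := fun i =>
    MorphismProperty.of_isPullback (P := @IsOpenImmersion) (isPullback_whiskerLeft (W := G) (κ i)).flip inferInstance
  haveI hj : ∀ p, IsOpenImmersion (j p).left := fun p => by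
    haveI := hκ p.1
    haveI : IsOpenImmersion (o p).left := inferInstanceAs (IsOpenImmersion (Scheme.Opens.ι _))
    rw [Over.comp_left]; infer_instance
  have hu : ∀ p : Fin (n + 1) × Fin (n + 1), IsUnit (ev (o p) (w p.1 p.2)) := fun p => by
    have h : ((G ⊗ U k n p.1).left.basicOpen (w p.1 p.2)).toScheme.basicOpen (ev (o p) (w p.1 p.2)) = ⊤ := by
      rw [ev_apply, ← Scheme.preimage_basicOpen_top]
      exact ((G ⊗ U k n p.1).left.basicOpen (w p.1 p.2)).ι_preimage_self
    refine (W p).left.toLocallyRingedSpace.toRingedSpace.isUnit_of_isUnit_germ ⊤ _ fun x hx => ?_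
    exact ((W p).left.mem_basicOpen_top (ev (o p) (w p.1 p.2)) x).mp ((SetLike.ext_iff.mp h x).mpr hx)
  -- values of the vector
  have hw : ∀ (i : Fin (n + 1)) (g : Pt G) (q : Pt (U k n i)) (l : Fin (n + 1)),
      evPt (lift g q) (w i l) = (matPtOf M g *ᵥ fun m => evPt q (ucrd i m)) l := by
    intro i g q l
    simp only [w, map_sum, map_mul, evPt_comp, lift_fst, lift_snd]
    rfl
  let ch : ∀ p, W p ⟶ Pn k n := fun p => pv (fun l => ev (o p) (w p.1 l)) p.2 (hu p)
  have hch : ∀ (p) (z : Pt (W p)), IsImg M (z ≫ j p ≫ fst G _) (z ≫ j p ≫ snd G _) (z ≫ ch p) := by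
    intro p z
    have e1 : z ≫ j p ≫ fst G _ = z ≫ o p ≫ fst G _ := by simp [j]
    have e2 : z ≫ j p ≫ snd G _ = (z ≫ o p ≫ snd G _) ≫ κ p.1 := by simp [j]
    rw [e1, e2]
    refine isImg_iff hM (hasCrd_comp_κ _ _) ?_
    have h := hasCrd_comp_pv z (fun l => ev (o p) (w p.1 l)) p.2 (hu p)
    convert h using 2 with l
    rw [evPt_comp, ← hw, ← lift_comp_fst_snd (z ≫ o p), Category.assoc, Category.assoc]
  -- the covering
  have hmem : ∀ x : (G ⊗ Pn k n).left, ∃ p, x ∈ Set.range (j p).left := by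
    by_contra hne
    push_neg at hne
    obtain ⟨x₀, hx₀⟩ := hne
    have ho : IsOpen (⋃ p, Set.range (j p).left) := isOpen_iUnion fun p => (j p).left.isOpenEmbedding.isOpen_range
    obtain ⟨z, hz⟩ := Chev.exists_pt (G := G ⊗ Pn k n) (S := (⋃ p, Set.range (j p).left)ᶜ)
      ⟨x₀, fun h => by obtain ⟨p, hp⟩ := Set.mem_iUnion.mp h; exact hx₀ p hp⟩ ho.isClosed_compl.isLocallyClosed
    obtain ⟨i, q, hq⟩ := exists_chart (z ≫ snd G _)
    obtain ⟨l, hl⟩ : ∃ l, (matPtOf M (z ≫ fst G _) *ᵥ fun m => evPt q (ucrd i m)) l ≠ 0 := by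
      by_contra h0
      push_neg at h0
      exact (hasCrd_comp_κ i q).ne_zero
        (mulVec_injective hM (z ≫ fst G _) ((funext h0).trans (Matrix.mulVec_zero _).symm))
    rw [← hw i (z ≫ fst G _) q l] at hl
    obtain ⟨x, hx⟩ : pimg (lift (z ≫ fst G _) q) ∈ Set.range (o (i, l)).left := by
      show _ ∈ Set.range (Scheme.Opens.ι _)
      rw [Scheme.Opens.range_ι]
      exact pimg_mem_basicOpen _ _ hl
    refine hz (Set.mem_iUnion.mpr ⟨(i, l), x, ?_⟩)
    show (G ◁ κ i).left ((o (i, l)).left x) = _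
    rw [hx, ← pimg_comp, lift_whiskerLeft, hq, lift_comp_fst_snd]
  let 𝒰 : (G ⊗ Pn k n).left.OpenCover := Scheme.Cover.mkOfCovers _ (fun p => (W p).left) (fun p => (j p).left)
    (fun x => by
      obtain ⟨p, hp⟩ := hmem x
      exact ⟨p, hp⟩) fun p => hj p
  let φ₀ : (G ⊗ Pn k n).left ⟶ (Pn k n).left := 𝒰.glueMorphisms (fun p => (ch p).left) fun a b => by
    let Z : Over (Spec (CommRingCat.of k)) := Over.mk (pullback.fst (j a).left (j b).left ≫ (W a).hom)
    let h₁ : Z ⟶ W a := Over.homMk (pullback.fst (j a).left (j b).left) rfl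
    let h₂ : Z ⟶ W b := Over.homMk (pullback.snd (j a).left (j b).left) (by
      show pullback.snd (j a).left (j b).left ≫ (W b).hom = pullback.fst (j a).left (j b).left ≫ (W a).hom
      rw [← Over.w (j a), ← Over.w (j b), pullback.condition_assoc])
    have hc : h₁ ≫ j a = h₂ ≫ j b := Over.OverMorphism.ext pullback.condition
    haveI : Smooth Z.hom := by
      show Smooth (pullback.fst (j a).left (j b).left ≫ (W a).hom)
      rw [← Over.w (j a)]
      infer_instance
    have h : h₁ ≫ ch a = h₂ ≫ ch b := by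
      refine Chev.SemiAbExt.ext_points _ _ fun z => ?_
      have k1 := hch a (z ≫ h₁)
      have k2 := hch b (z ≫ h₂)
      simp only [Category.assoc, ← reassoc_of% hc] at k2
      simp only [Category.assoc] at k1
      exact k1.unique k2
    exact congrArg CommaMorphism.left h
  have hφ₀ : ∀ p, 𝒰.f p ≫ φ₀ = (ch p).left := fun p => Scheme.Cover.ι_glueMorphisms 𝒰 _ _ p
  let φ : G ⊗ Pn k n ⟶ Pn k n := Over.homMk φ₀ (Scheme.Cover.hom_ext 𝒰 _ _ fun p => by
    rw [← Category.assoc, hφ₀]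
    exact (Over.w (ch p)).trans (Over.w (j p)).symm)
  have hφ : ∀ p, j p ≫ φ = ch p := fun p => Over.OverMorphism.ext (hφ₀ p)
  have hpt : ∀ (g : Pt G) (x : Pt (Pn k n)), IsImg M g x (lift g x ≫ φ) := by
    intro g x
    obtain ⟨p, hp⟩ := hmem (pimg (lift g x))
    haveI := hj p
    have hr : Set.range (lift g x).left ⊆ Set.range (j p).left := by
      rintro _ ⟨t, rfl⟩
      rwa [show t = IsLocalRing.closedPoint k from Subsingleton.elim (α := PrimeSpectrum k) _ _]
    let z : Pt (W p) := Over.homMk (IsOpenImmersion.lift (j p).left (lift g x).left hr) (by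
      rw [← Over.w (j p), IsOpenImmersion.lift_fac_assoc, Over.w (lift g x)])
    have hz : z ≫ j p = lift g x := Over.OverMorphism.ext (IsOpenImmersion.lift_fac _ _ _)
    have h := hch p z
    rw [reassoc_of% hz, reassoc_of% hz, lift_fst, lift_snd, ← hφ p, ← Category.assoc, hz] at h
    exact h
  refine ⟨{ act := φ, one_act := ?_, mul_act := ?_ }, hpt⟩
  · haveI : Smooth (𝟙_ (Over (Spec (CommRingCat.of k))) ⊗ Pn k n).hom := by
      rw [← Over.w (λ_ (Pn k n)).hom]
      haveI : IsIso (λ_ (Pn k n)).hom.left := ((Over.forget _).mapIso (λ_ (Pn k n))).isIso_hom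
      infer_instance
    refine Chev.SemiAbExt.ext_points _ _ fun z => ?_
    rw [← lift_comp_fst_snd z, lift_whiskerRight_assoc, lift_leftUnitor_hom]
    refine (hpt _ _).unique fun v hv => ?_
    have e : (z ≫ fst (𝟙_ (Over (Spec (CommRingCat.of k)))) (Pn k n)) ≫ η[G] = (1 : Pt G) := by
      rw [Hom.one_def, toUnit_unique (z ≫ fst _ _) (toUnit _)]
    rwa [e, matPtOf_one hM, Matrix.one_mulVec]
  · haveI : Smooth (G ⊗ G).hom := inferInstanceAs (Smooth (pullback.fst G.hom G.hom ≫ G.hom))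
    haveI : Smooth ((G ⊗ G) ⊗ Pn k n).hom :=
      inferInstanceAs (Smooth (pullback.fst (G ⊗ G).hom (Pn k n).hom ≫ (G ⊗ G).hom))
    refine Chev.SemiAbExt.ext_points _ _ fun z => ?_
    rw [← lift_comp_fst_snd z, ← lift_comp_fst_snd (z ≫ fst (G ⊗ G) (Pn k n)), lift_whiskerRight_assoc,
      lift_lift_associator_hom_assoc, lift_whiskerLeft_assoc, ← Hom.mul_def]
    refine (hpt _ _).unique fun v hv => ?_
    rw [matPtOf_mul hM, ← Matrix.mulVec_mulVec]
    exact hpt _ _ _ (hpt _ _ v hv)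

end

end Groth.Agent.Deform.Borel
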