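import Groth.Agent.GrpSchLib.ProjLine
import Groth.Agent.GrpSchLib.UnitsScheme
import Groth.Agent.GrpSchLib.LineGroups
import Groth.Agent.ZetaLib.ProjPoints
import Groth.Agent.H6PnSm.Basic
import Groth.Agent.PnCoh.Chow.Proper
import Groth.Agent.Deform.Borel.Closure

/-!
# Rational points of projective space and their coordinates
-/

universe u

open CategoryTheory CategoryTheory.Limits MonoidalCategory CartesianMonoidalCategory MonObj GrpObj AlgebraicGeometry

set_option linter.style.haveILetI false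
set_option linter.unusedSectionVars false

namespace Groth.Agent.Deform.Borel

open Chev (Pt pimg)
open Agent.GrpSchLib.Kunneth (Fn ev evPt evPt_comp ev_ev ev_apply)
open Agent.GrpSchLib.ProjLine (Pn pv comp_pv pv_eq_iff)

noncomputable section

variable {k : Type u} [Field k] {n : ℕ}

theorem ev_pt_eq {Y : Over (Spec (CommRingCat.of k))} (y : Pt Y) (f : Fn Y) :
    ev y f = algebraMap k (Fn (𝟙_ (Over (Spec (CommRingCat.of k))))) (evPt y f) := by
  show y.left.appTop f = (𝟙 (Spec (CommRingCat.of k)) : _ ⟶ _).appTop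
    ((Scheme.ΓSpecIso (CommRingCat.of k)).inv ((Scheme.ΓSpecIso (CommRingCat.of k)).hom (y.left.appTop f)))
  simp [← CommRingCat.comp_apply]

theorem evPt_algebraMap (c : k) :
    evPt (𝟙 (𝟙_ (Over (Spec (CommRingCat.of k))))) (algebraMap k _ c) = c :=
  AlgHom.commutes _ _

theorem isUnit_algebraMap_pt {c : k} (hc : c ≠ 0) :
    IsUnit (algebraMap k (Fn (𝟙_ (Over (Spec (CommRingCat.of k))))) c) := hc.isUnit.map _

/-- A rational point of projective space with given homogeneous coordinates. -/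
def HasCrd (x : Pt (Pn k n)) (v : Fin (n + 1) → k) : Prop :=
  ∃ (i : Fin (n + 1)) (h : v i ≠ 0),
    x = pv (fun l => algebraMap k (Fn (𝟙_ (Over (Spec (CommRingCat.of k))))) (v l)) i (isUnit_algebraMap_pt h)

theorem HasCrd.ne_zero {x : Pt (Pn k n)} {v : Fin (n + 1) → k} (h : HasCrd x v) : v ≠ 0 := by
  obtain ⟨i, hi, -⟩ := h
  exact fun h => hi (congrFun h i)

theorem exists_hasCrd {v : Fin (n + 1) → k} (hv : v ≠ 0) : ∃ x : Pt (Pn k n), HasCrd x v := by
  obtain ⟨i, hi⟩ := Function.ne_iff.mp hv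
  exact ⟨_, i, hi, rfl⟩

theorem HasCrd.eq_iff {x y : Pt (Pn k n)} {v w : Fin (n + 1) → k} (hx : HasCrd x v) (hy : HasCrd y w) :
    x = y ↔ ∀ p q, v p * w q = v q * w p := by
  obtain ⟨i, hi, rfl⟩ := hx
  obtain ⟨j, hj, rfl⟩ := hy
  rw [pv_eq_iff]
  refine forall_congr' fun p => forall_congr' fun q => ?_
  rw [← map_mul, ← map_mul]
  exact (Function.LeftInverse.injective (g := evPt (𝟙 (𝟙_ (Over (Spec (CommRingCat.of k)))))) evPt_algebraMap).eq_iff

/-- The point in a chart given by functions. -/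
theorem hasCrd_comp_pv {Z : Over (Spec (CommRingCat.of k))} (q : Pt Z) (z : Fin (n + 1) → Fn Z) (i : Fin (n + 1))
    (hu : IsUnit (z i)) : HasCrd (q ≫ pv z i hu) fun l => evPt q (z l) := by
  have h : evPt q (z i) ≠ 0 := (hu.map (evPt q)).ne_zero
  refine ⟨i, h, ?_⟩
  rw [comp_pv, pv_eq_iff]
  intro p l
  simp only [ev_pt_eq]
  exact mul_comm _ _

/-- The charts of projective space. -/
abbrev U (k : Type u) [Field k] (n : ℕ) (i : Fin (n + 1)) : Over (Spec (CommRingCat.of k)) :=
  Over.mk (Spec.map (CommRingCat.ofHom (ZetaLib.base n k i)))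

/-- The inclusion of a chart. -/
def κ (i : Fin (n + 1)) : U k n i ⟶ Pn k n := Over.homMk (ZetaLib.chart n k i) (ZetaLib.chart_toSpec i)

instance (i : Fin (n + 1)) : IsOpenImmersion (κ (k := k) (n := n) i).left :=
  inferInstanceAs (IsOpenImmersion (ZetaLib.chart n k i))

/-- The ring of a chart as functions on it. -/
def uΓ (i : Fin (n + 1)) :
    HomogeneousLocalization.Away (CohB1.polyGrading n k) (MvPolynomial.X i) →+* Fn (U k n i) :=
  (Scheme.ΓSpecIso (CommRingCat.of (HomogeneousLocalization.Away (CohB1.polyGrading n k) (MvPolynomial.X i)))).inv.hom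

/-- The coordinates on a chart. -/
def ucrd (i l : Fin (n + 1)) : Fn (U k n i) :=
  uΓ i (ProjPt.crd (R := k) i l)

theorem ucrd_self (i : Fin (n + 1)) : ucrd (k := k) i i = 1 := by
  rw [ucrd, ProjPt.crd_self, map_one]

theorem isUnit_ucrd (i : Fin (n + 1)) : IsUnit (ucrd (k := k) i i) := by
  rw [ucrd_self]; exact isUnit_one

theorem κ_eq (i : Fin (n + 1)) : κ (k := k) i = pv (fun l => ucrd i l) i (isUnit_ucrd i) := by
  refine Over.OverMorphism.ext ?_
  show ZetaLib.chart n k i = ProjPt.pt _ _ _ _ _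
  let w := uΓ (k := k) i
  have h : ProjPt.coordHom (CohB1.polyGrading n k)
      (MvPolynomial.eval₂Hom (Agent.GrpSchLib.Kunneth.str (U k n i)) fun l => ucrd i l)
      (Agent.GrpSchLib.ProjLine.isUnit_evalX _ i (isUnit_ucrd i)) = w := by
    refine ProjPt.away_ext i _ _ (RingHom.ext fun c => ?_) fun l => ?_
    · rw [RingHom.comp_apply, RingHom.comp_apply, ProjPt.coordHom_cst, MvPolynomial.eval₂Hom_C]
      exact (ConcreteCategory.congr_hom
        (Scheme.ΓSpecIso_inv_naturality (CommRingCat.ofHom (ZetaLib.base n k i))) c).symm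
    · rw [ProjPt.coordHom_crd _ i _ ?_ l, MvPolynomial.eval₂Hom_X']
      · rfl
      · rw [MvPolynomial.eval₂Hom_X', ucrd_self]
  rw [ProjPt.pt, h]
  show ZetaLib.chart n k i = _ ≫ Spec.map (Scheme.ΓSpecIso _).inv ≫ Proj.awayι _ _ _ _
  rw [← Category.assoc, toSpecΓ_SpecMap_ΓSpecIso_inv, Category.id_comp]
  rfl

theorem hasCrd_comp_κ (i : Fin (n + 1)) (q : Pt (U k n i)) :
    HasCrd (q ≫ κ i) fun l => evPt q (ucrd i l) := by
  rw [κ_eq]
  exact hasCrd_comp_pv q _ i _

instance smooth_Pn : Smooth (Pn k n).hom := H6PnSm.smooth_toSpec n k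

instance isProper_Pn : IsProper (Pn k n).hom := PnCoh.Chow.isProper_toSpec n k

variable [IsAlgClosed k]

theorem exists_chart (x : Pt (Pn k n)) : ∃ (i : Fin (n + 1)) (q : Pt (U k n i)), q ≫ κ i = x := by
  obtain ⟨i, hi⟩ := ZetaLib.exists_mem_chart (x.left (IsLocalRing.closedPoint k))
  refine ⟨i, Over.homMk (IsOpenImmersion.lift (κ i).left x.left ?_) ?_, Over.OverMorphism.ext (IsOpenImmersion.lift_fac _ _ _)⟩
  · rintro _ ⟨t, rfl⟩
    rwa [show t = IsLocalRing.closedPoint k from Subsingleton.elim (α := PrimeSpectrum k) _ _]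
  · rw [← Over.w (κ i), IsOpenImmersion.lift_fac_assoc, Over.w x]

theorem exists_crd (x : Pt (Pn k n)) : ∃ v, HasCrd x v := by
  obtain ⟨i, q, rfl⟩ := exists_chart x
  exact ⟨_, hasCrd_comp_κ i q⟩

end

end Groth.Agent.Deform.Borel
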