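import Groth.Agent.Deform.Borel.Normalizer
import Groth.Agent.Deform.Borel.CartanFacts
import Groth.Agent.Deform.Borel.FieldFibre
import Groth.Agent.Deform.FixedPts
import Groth.Agent.FBaseLib.Basic

/-!
# Fixed points of a maximal torus on the quotient by a Borel subgroup
-/

universe u

open CategoryTheory CategoryTheory.Limits MonoidalCategory CartesianMonoidalCategory MonObj GrpObj AlgebraicGeometry

attribute [local instance] CategoryTheory.Hom.monoid CategoryTheory.Hom.group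
set_option linter.style.haveILetI false
set_option linter.unusedSectionVars false

namespace Groth.Agent.Deform.Borel

open Chev (Pt pimg)
open Agent.GrpSchLib (act_mul act_one)

noncomputable section

variable {k : Type u} [Field k] [IsAlgClosed k]

/-- A homogeneous quotient of a smooth group is smooth. -/
theorem smooth_quot {G X : Over (Spec (CommRingCat.of k))} [GrpObj G] [Smooth G.hom] [LocallyOfFiniteType X.hom]
    (a : AlgGrp.Action G X) (o : Pt X) [Flat (a.orbitMap o).left] [Surjective (a.orbitMap o).left] :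
    Smooth X.hom := by
  haveI : IsReduced G.left := GrpSchLib.isReduced_of_smooth_field G.hom
  haveI : IsReduced X.left := FBaseLib.isReduced_of_flat_surjective (a.orbitMap o).left
  haveI : JacobsonSpace X.left := LocallyOfFiniteType.jacobsonSpace X.hom
  haveI : Nonempty X.left := ⟨pimg o⟩
  rw [← Scheme.Hom.smoothLocus_eq_top_iff, ← TopologicalSpace.Opens.coe_eq_univ, ← not_ne_iff,
    ← Set.nonempty_compl]
  intro H
  obtain ⟨x, hx, hxc⟩ := nonempty_inter_closedPoints H X.hom.smoothLocus.2.isClosed_compl.isLocallyClosed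
  obtain ⟨y, hy : y ∈ X.hom.smoothLocus, hyc⟩ := nonempty_inter_closedPoints
    X.hom.dense_smoothLocus_of_perfectField.nonempty X.hom.smoothLocus.2.isLocallyClosed
  obtain ⟨x', rfl⟩ := Chev.exists_pimg_eq hxc
  obtain ⟨y', rfl⟩ := Chev.exists_pimg_eq hyc
  obtain ⟨g, hg⟩ := exists_pt_over (a.orbitMap o) x'
  obtain ⟨g', hg'⟩ := exists_pt_over (a.orbitMap o) y'
  rw [pt_orbitMap] at hg hg'
  let τ : Pt G → (X ⟶ X) := fun c => lift (toUnit X ≫ c) (𝟙 X) ≫ a.act
  have hτ : ∀ (T : Over (Spec (CommRingCat.of k))) (v : T ⟶ X) (c : Pt G),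
      v ≫ τ c = lift (toUnit T ≫ c) v ≫ a.act := fun T v c => by
    show v ≫ lift (toUnit X ≫ c) (𝟙 X) ≫ a.act = _
    rw [← Category.assoc, comp_lift, ← Category.assoc, comp_toUnit, Category.comp_id]
  have hinv : ∀ c : Pt G, τ c ≫ τ c⁻¹ = 𝟙 X := fun c => by
    rw [hτ]
    show lift (toUnit X ≫ c⁻¹) (lift (toUnit X ≫ c) (𝟙 X) ≫ a.act) ≫ a.act = _
    rw [act_mul, ← MonObj.comp_mul, inv_mul_cancel, MonObj.comp_one, act_one]
  have hxy : y' = x' ≫ τ (g' * g⁻¹) := by
    rw [hτ, toUnit_unique (toUnit (𝟙_ _)) (𝟙 _), Category.id_comp, ← hg, act_mul, inv_mul_cancel_right, hg']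
  haveI : IsIso (τ (g' * g⁻¹)) := ⟨τ (g' * g⁻¹)⁻¹, hinv _, by
    have h := hinv (g' * g⁻¹)⁻¹
    rwa [_root_.inv_inv] at h⟩
  haveI : IsIso (τ (g' * g⁻¹)).left := ((Over.forget _).mapIso (asIso (τ (g' * g⁻¹)))).isIso_hom
  have he : pimg y' = (τ (g' * g⁻¹)).left (pimg x') := by rw [hxy, pimg_comp]
  rw! [he, ← (τ (g' * g⁻¹)).left.mem_preimage, Scheme.Hom.preimage_smoothLocus_eq, Over.w] at hy
  exact hx hy

variable {G T B : Over (Spec (CommRingCat.of k))} [GrpObj G] [GrpObj T] [GrpObj B]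

/-- Points commuting with a maximal torus lie in each Borel subgroup containing it. -/
theorem centralizing_pt_mem [IsAffine G.left] [Smooth G.hom] [ConnectedSpace G.left] {i : T ⟶ G}
    (hi : AGF.IsMaxTorus i) {iB : B ⟶ G} (hB : Red.IsBorelOver k iB) (t : T ⟶ B) (ht : t ≫ iB = i) (g : Pt G)
    (hg : ∀ w : Pt T, g * (w ≫ i) = (w ≫ i) * g) : ∃ b : Pt B, b ≫ iB = g := by
  haveI : IsAffineHom G.hom := isAffineHom_of_isAffine _
  haveI := Agent.GrpSchLib.AntiAffine.isSeparated_grp G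
  haveI := hi.1
  obtain ⟨hTa, hTl, hTs, hTc⟩ := Deform.TorusBasic.props hi.2.2.1
  haveI := hTs
  obtain ⟨Z, iZ, z, hz, -, -⟩ :=
    Deform.exists_centralizer (Deform.isMultType_of_ft (Deform.isMultTypeFT_of_isTorus hi.2.2.1)) i
  obtain ⟨f, hf⟩ := centralizer_le_borel hi hz hB ht
  obtain ⟨v, hv⟩ := (hz.2.2 (𝟙_ _) g).mpr fun X x h => by
    have key : (toUnit T ≫ g) * i = i * (toUnit T ≫ g) := comp_inj_pt _ _ fun w => by
      rw [MonObj.comp_mul, MonObj.comp_mul, ← Category.assoc, toUnit_unique (w ≫ toUnit T) (𝟙 _), Category.id_comp]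
      exact hg w
    have h1 := congrArg (h ≫ ·) key
    simp only [MonObj.comp_mul, ← Category.assoc, comp_toUnit] at h1
    rwa [toUnit_unique x (toUnit X)]
  exact ⟨v ≫ f, by rw [Category.assoc, hf, hv]⟩

set_option maxHeartbeats 1000000 in
/-- A point moving the torus into a Borel subgroup differs from a normalising point by an element of it. -/
theorem exists_normalizing [IsAffine G.left] [Smooth G.hom] [ConnectedSpace G.left] {i : T ⟶ G}
    (hi : AGF.IsMaxTorus i) {iB : B ⟶ G} (hB : Red.IsBorelOver k iB) (t : T ⟶ B) (ht : t ≫ iB = i) (y : Pt G)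
    (hy : ∀ w : Pt T, ∃ b : Pt B, b ≫ iB = y⁻¹ * (w ≫ i) * y) :
    ∃ (n : Pt G) (b : Pt B), y = n * (b ≫ iB) ∧ ∀ w : Pt T, ∃ w' : Pt T, w' ≫ i = n * (w ≫ i) * n⁻¹ := by
  haveI : IsAffineHom G.hom := isAffineHom_of_isAffine _
  haveI : QuasiCompact G.hom := inferInstance
  haveI := hi.1
  obtain ⟨hTa, hTl, hTs, hTc⟩ := Deform.TorusBasic.props hi.2.2.1
  haveI := hTs
  haveI : IsReduced T.left := GrpSchLib.isReduced_of_smooth_field T.hom
  haveI := hB.1; haveI := hB.2.1
  obtain ⟨t₁, ht₁⟩ := Chev.exists_lift_range iB (i ≫ conj y⁻¹)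
    (Chev.mem_of_pts _ iB.left.isClosedEmbedding.isClosed_range fun w => by
      obtain ⟨b, hb⟩ := hy w
      exact ⟨pimg b, by rw [← pimg_comp, hb, ← Category.assoc, pt_conj, _root_.inv_inv]⟩)
  obtain ⟨n, τ, σ, hτ, hσ⟩ := exists_norm_conj hi hB (isBorelOver_conj iB hB y) ht
    (t' := t₁) (by rw [← Category.assoc, ht₁, Category.assoc, conj_left_inv, Category.comp_id])
  obtain ⟨b, hb⟩ := norm_mem_borel G iB hB (y⁻¹ * n) fun b => ⟨b ≫ σ.hom, by
    have h := congrArg (b ≫ ·) hσ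
    simp only [← Category.assoc, pt_conj] at h
    rw [show (y⁻¹ * n) * (b ≫ iB) * (y⁻¹ * n)⁻¹ = y⁻¹ * (n * (b ≫ iB) * n⁻¹) * y by group, ← h]
    group⟩
  refine ⟨n, b⁻¹, ?_, fun w => ⟨w ≫ τ.hom, ?_⟩⟩
  · rw [GrpObj.inv_comp, hb]; group
  · rw [Category.assoc, hτ, ← Category.assoc, pt_conj]

set_option maxHeartbeats 1000000 in
/-- **A maximal torus fixes finitely many points of the quotient by a Borel subgroup containing it.** -/
theorem finite_fixed [IsAffine G.left] [Smooth G.hom] [ConnectedSpace G.left] {i : T ⟶ G}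
    (hi : AGF.IsMaxTorus i) {iB : B ⟶ G} (hB : Red.IsBorelOver k iB) (t : T ⟶ B) (ht : t ≫ iB = i)
    {X : Over (Spec (CommRingCat.of k))} [LocallyOfFiniteType X.hom] (a : AlgGrp.Action G X) (o : Pt X)
    [Surjective (a.orbitMap o).left]
    (sq : IsPullback (fst G B) ((G ◁ iB) ≫ μ[G]) (a.orbitMap o) (a.orbitMap o)) :
    Set.Finite {r : Pt X | ∀ w : Pt T, lift (w ≫ i) r ≫ a.act = r} := by
  classical
  haveI : IsAffineHom G.hom := isAffineHom_of_isAffine _
  haveI := hi.1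
  haveI := hi.2.1
  haveI := hB.1
  obtain ⟨N, t₀, hN, ht₀, hreg⟩ := exists_regular G hi.2.2.1 i
  have hfix : ∀ b : Pt B, lift (b ≫ iB) o ≫ a.act = o := fun b => by
    have h := mul_comp_orbitMap sq (1 : Pt G) b
    rw [_root_.one_mul, pt_orbitMap, pt_orbitMap, act_one] at h
    exact h
  have hn : ∀ r ∈ {r : Pt X | ∀ w : Pt T, lift (w ≫ i) r ≫ a.act = r}, ∃ n : Pt G, lift n o ≫ a.act = r ∧
      n * (t₀ ≫ i) * n⁻¹ ∈ (· ≫ i) '' {w : Pt T | w ^ N = 1} := by
    intro r hr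
    obtain ⟨y, hy⟩ := exists_pt_over (a.orbitMap o) r
    rw [pt_orbitMap] at hy
    obtain ⟨n, b, rfl, hnT⟩ := exists_normalizing hi hB t ht y fun w => by
      refine pt_of_quot sq ?_
      rw [← act_mul, ← act_mul, hy, hr w, ← hy, act_mul, inv_mul_cancel, act_one]
    refine ⟨n, by rw [← hy, ← act_mul, hfix], ?_⟩
    obtain ⟨w', hw'⟩ := hnT t₀
    refine ⟨w', ?_, hw'⟩
    show w' ^ N = 1
    refine (cancel_mono i).mp ?_
    rw [show (w' ^ N) ≫ i = (w' ≫ i) ^ N from map_pow (ptsMap i) w' N, hw', conj_pow,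
      show (t₀ ≫ i) ^ N = (t₀ ^ N) ≫ i from (map_pow (ptsMap i) t₀ N).symm, ht₀, MonObj.one_comp,
      _root_.mul_one, mul_inv_cancel]
  choose! n hno hnt using hn
  refine Set.Finite.of_injOn (f := fun r => n r * (t₀ ≫ i) * (n r)⁻¹) (fun r hr => hnt r hr)
    (fun r hr r' hr' h => ?_) ((finite_torsion T hi.2.2.1 N fun h => hN (by simp [h])).image _)
  change n r * (t₀ ≫ i) * (n r)⁻¹ = n r' * (t₀ ≫ i) * (n r')⁻¹ at h
  obtain ⟨b, hb⟩ := centralizing_pt_mem hi hB t ht ((n r')⁻¹ * n r) (hreg _ (by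
    calc (n r')⁻¹ * n r * (t₀ ≫ i) = (n r')⁻¹ * (n r * (t₀ ≫ i) * (n r)⁻¹) * n r := by group
      _ = _ := by rw [h]; group))
  rw [← hno r hr, ← hno r' hr', show n r = n r' * (b ≫ iB) by rw [hb, mul_inv_cancel_left], ← act_mul, hfix]

set_option maxHeartbeats 1000000 in
/-- **The normaliser of a Borel subgroup, as a functor, is the Borel subgroup.** -/
theorem lift_of_normalizing (G : Over (Spec (CommRingCat.of k))) [GrpObj G] [IsAffine G.left] [Smooth G.hom]
    [ConnectedSpace G.left] {B : Over (Spec (CommRingCat.of k))} [GrpObj B] {iB : B ⟶ G}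
    (hB : Red.IsBorelOver k iB) {Y : Over (Spec (CommRingCat.of k))} [LocallyOfFiniteType Y.hom] (n : Y ⟶ G)
    (h₁ : ∀ (X' : Over (Spec (CommRingCat.of k))) (x : X' ⟶ Y) (h : X' ⟶ B),
      ∃ h' : X' ⟶ B, (x ≫ n) * (h ≫ iB) * (x ≫ n)⁻¹ = h' ≫ iB)
    (h₂ : ∀ (X' : Over (Spec (CommRingCat.of k))) (x : X' ⟶ Y) (h : X' ⟶ B),
      ∃ h' : X' ⟶ B, (x ≫ n)⁻¹ * (h ≫ iB) * (x ≫ n) = h' ≫ iB) : ∃ f : Y ⟶ B, f ≫ iB = n := by
  haveI : IsAffineHom G.hom := isAffineHom_of_isAffine _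
  haveI : QuasiCompact G.hom := inferInstance
  obtain ⟨hbm, hbc, hBs, hBcn, hBsol, -⟩ := id hB
  haveI := hbm; haveI := hbc; haveI := hBs; haveI := hBcn
  haveI : QuasiCompact B.hom := by rw [← Over.w iB]; infer_instance
  haveI : IsAffine B.left := isAffine_of_isAffineHom iB.left
  haveI : IsAffineHom B.hom := isAffineHom_of_isAffine _
  haveI : Mono iB := (Over.forget _).mono_of_mono_map (inferInstanceAs (Mono iB.left))
  haveI : Group.IsSolvable (Pt B) := isSolvable_pts_of_grp hBsol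
  obtain ⟨T, iT, t, ht⟩ := exists_univTorus B
  obtain ⟨htm, htc, hT, -⟩ := id ht
  haveI := htm; haveI := htc
  haveI : Mono t := (Over.forget _).mono_of_mono_map (inferInstanceAs (Mono t.left))
  have hi : AGF.IsMaxTorus (t ≫ iB) := isMaxTorus_comp_borel iB hB t
    ⟨htm, inferInstance, hT, fun T' _ j _ _ f h1 h2 => ht.maximal T' j f h1 h2⟩
  haveI := hi.1
  obtain ⟨X, a, o, hl, hq, hfl, hsu, sq⟩ := Agent.GrpSchLib.HomogeneousQuot.exists_quot G B iB
  haveI := isProper_quot iB (closedImg_of_isBorelOver iB hB) a o ⟨hl, hfl, hsu, sq⟩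
  haveI := hl; haveI := hfl; haveI := hsu
  haveI := smooth_quot a o
  obtain ⟨F, j, hjc, hFs, hF⟩ := Deform.exists_fixedPoints
    (Deform.isMultType_of_ft (Deform.isMultTypeFT_of_isTorus hT)) (restrictAct a (t ≫ iB))
  haveI := hjc; haveI := hFs
  haveI : Mono j := (Over.forget _).mono_of_mono_map (inferInstanceAs (Mono j.left))
  haveI : IsReduced F.left := GrpSchLib.isReduced_of_smooth_field F.hom
  haveI : JacobsonSpace F.left := LocallyOfFiniteType.jacobsonSpace F.hom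
  have hfix : ∀ {X' : Over (Spec (CommRingCat.of k))} (h' : X' ⟶ B), lift (h' ≫ iB) (toUnit X' ≫ o) ≫ a.act =
      toUnit X' ≫ o := fun {X'} h' => by
    have hh : (fst G B) ≫ a.orbitMap o = ((G ◁ iB) ≫ μ[G]) ≫ a.orbitMap o := sq.w
    have h1 := congrArg (lift (1 : X' ⟶ G) h' ≫ ·) hh
    have e1 : ∀ g : X' ⟶ G, g ≫ a.orbitMap o = lift g (toUnit X' ≫ o) ≫ a.act := fun g => by
      show g ≫ lift (𝟙 G) (toUnit G ≫ o) ≫ a.act = _
      rw [← Category.assoc, comp_lift, Category.comp_id, ← Category.assoc, comp_toUnit]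
    simp only [← Category.assoc, lift_fst, lift_whiskerLeft, ← Hom.mul_def, _root_.one_mul, e1, act_one] at h1
    exact h1.symm
  have he1 : ∀ {X' : Over (Spec (CommRingCat.of k))} (g : X' ⟶ G), g ≫ a.orbitMap o =
      lift g (toUnit X' ≫ o) ≫ a.act := fun {X'} g => by
    show g ≫ lift (𝟙 G) (toUnit G ≫ o) ≫ a.act = _
    rw [← Category.assoc, comp_lift, Category.comp_id, ← Category.assoc, comp_toUnit]
  obtain ⟨z, hz⟩ := (hF Y (n ≫ a.orbitMap o)).mpr fun Y' y h => by
    obtain ⟨h', hh'⟩ := h₂ Y' y (h ≫ t)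
    rw [lift_restrictAct, ← Category.assoc y, he1, act_mul,
      show (h ≫ t ≫ iB) * (y ≫ n) = (y ≫ n) * (h' ≫ iB) by
        rw [← hh', Category.assoc]; simp only [_root_.mul_assoc, mul_inv_cancel_left],
      ← act_mul, hfix]
  obtain ⟨o', ho'⟩ := (hF (𝟙_ _) o).mpr fun Y' y h => by
    rw [lift_restrictAct, toUnit_unique y (toUnit Y'), ← Category.assoc h t iB]
    exact hfix _
  -- the fixed points form a finite discrete space
  have hfin : (Set.range fun v : Pt F => pimg v).Finite := by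
    have h0 : (Set.univ : Set (Pt F)).Finite := by
      refine Set.Finite.of_injOn (f := (· ≫ j)) (fun v _ => ?_) (fun v _ v' _ h => (cancel_mono j).mp h)
        (finite_fixed hi hB t rfl a o sq)
      intro w
      have h1 := (hF _ (v ≫ j)).mp ⟨v, rfl⟩ _ (𝟙 _) w
      rwa [lift_restrictAct, Category.id_comp] at h1
    simpa only [Set.image_univ] using h0.image pimg
  have hclosed : ∀ S : Set F.left, IsClosed (S ∩ Set.range fun v : Pt F => pimg v) := fun S => by
    rw [← Set.biUnion_of_singleton (S ∩ Set.range fun v : Pt F => pimg v)]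
    refine (hfin.inter_of_right S).isClosed_biUnion ?_
    rintro _ ⟨-, v, rfl⟩
    exact ((pointEquivClosedPoint F.hom) ⟨v.left, Over.w v⟩).2
  have huniv : (Set.range fun v : Pt F => pimg v) = Set.univ := by
    refine Set.eq_univ_of_univ_subset ?_
    rw [← closure_closedPoints (X := F.left)]
    refine closure_minimal (fun c hc => ?_) (by simpa using hclosed Set.univ)
    obtain ⟨v, rfl⟩ := Chev.exists_pimg_eq hc
    exact ⟨v, rfl⟩
  let U : F.left.Opens := ⟨{pimg o'}, by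
    have h := hclosed {pimg o'}ᶜ
    rw [huniv, Set.inter_univ] at h
    exact isClosed_compl_iff.mp h⟩
  have hrange : Set.range z.left ⊆ Set.range U.ι := by
    rw [Scheme.Opens.range_ι]
    refine Chev.mem_of_pts z ((pointEquivClosedPoint F.hom) ⟨o'.left, Over.w o'⟩).2 fun w => ?_
    obtain ⟨b, hb⟩ := norm_mem_borel G iB hB (w ≫ n) fun b => by
      obtain ⟨b', hb'⟩ := h₁ (𝟙_ _) w b
      exact ⟨b', hb'.symm⟩
    refine congrArg pimg ((cancel_mono j).mp ?_)
    rw [Category.assoc, hz, ho', ← Category.assoc, ← hb, pt_orbitMap]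
    have h := mul_comp_orbitMap sq (1 : Pt G) b
    rw [_root_.one_mul, pt_orbitMap, pt_orbitMap, act_one] at h
    exact h
  haveI : IsSeparated F.hom := by rw [← Over.w j]; infer_instance
  haveI : IsClosedImmersion o'.left := by
    haveI : IsClosedImmersion (o'.left ≫ F.hom) := by
      rw [Over.w o']; exact inferInstanceAs (IsClosedImmersion (𝟙 _))
    exact IsClosedImmersion.of_comp o'.left F.hom
  haveI : IsReduced (U : Scheme) := isReduced_of_isOpenImmersion U.ι
  obtain ⟨e, he⟩ := H23.RedSub.exists_lift_closed U.ι o'.left (by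
    rw [Scheme.Opens.range_ι]
    rintro _ rfl
    exact ⟨_, rfl⟩)
  have hzo : z = toUnit Y ≫ o' := by
    let l := IsOpenImmersion.lift U.ι z.left hrange
    have hl' : l ≫ U.ι = z.left := IsOpenImmersion.lift_fac _ _ _
    let u : Y ⟶ 𝟙_ _ := Over.homMk (l ≫ e) (by
      show (l ≫ e) ≫ (𝟙_ (Over (Spec (CommRingCat.of k)))).hom = Y.hom
      rw [← Over.w o', Category.assoc, reassoc_of% he, ← Category.assoc, hl', Over.w z])
    rw [← toUnit_unique u (toUnit Y)]
    refine Over.OverMorphism.ext ?_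
    rw [← hl', ← he]
    show l ≫ e ≫ o'.left = (l ≫ e) ≫ o'.left
    rw [Category.assoc]
  have hno : (1 : Y ⟶ G) ≫ a.orbitMap o = n ≫ a.orbitMap o := by
    rw [← hz, hzo, Category.assoc, ho', he1, act_one]
  let w := sq.lift (1 : Y ⟶ G) n hno
  refine ⟨w ≫ snd G B, ?_⟩
  have hw : (w ≫ fst G B) * ((w ≫ snd G B) ≫ iB) = n := by
    have e : w ≫ (G ◁ iB) = lift (w ≫ fst G B) ((w ≫ snd G B) ≫ iB) := by
      apply CartesianMonoidalCategory.hom_ext <;> simp
    rw [Hom.mul_def, ← e, Category.assoc, sq.lift_snd]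
  rwa [sq.lift_fst, _root_.one_mul] at hw

end

end Groth.Agent.Deform.Borel
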