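import Groth.Agent.Deform.Borel.UnipKer
import Groth.Agent.Deform.Borel.Cartan
import Groth.Agent.VarDim.IrredFibres

/-!
# Centralisers of torsion points in connected solvable groups are connected
-/

universe u

open CategoryTheory CategoryTheory.Limits MonoidalCategory CartesianMonoidalCategory MonObj GrpObj AlgebraicGeometry
open scoped commutatorElement

attribute [local instance] CategoryTheory.Hom.monoid CategoryTheory.Hom.group
set_option linter.style.haveILetI false
set_option linter.unusedSectionVars false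

namespace Groth.Agent.Deform.Borel

open Chev (Pt pimg)

section Algebra

variable {A : Type*} [CommGroup A] (σ : A →* A)

/-- The norm of an endomorphism of finite order. -/
def cycNorm (N : ℕ) : A →* A where
  toFun a := ∏ i ∈ Finset.range N, σ^[i] a
  map_one' := Finset.prod_eq_one fun i _ => iterate_map_one σ i
  map_mul' a b := by
    rw [← Finset.prod_mul_distrib]
    exact Finset.prod_congr rfl fun i _ => iterate_map_mul σ i a b

theorem map_cycNorm {N : ℕ} (hσ : ∀ a, σ^[N] a = a) (a : A) : σ (cycNorm σ N a) = cycNorm σ N a := by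
  show σ (∏ i ∈ Finset.range N, σ^[i] a) = ∏ i ∈ Finset.range N, σ^[i] a
  rw [map_prod]
  have h1 := Finset.prod_range_succ (fun i => σ^[i] a) N
  have h2 := Finset.prod_range_succ' (fun i => σ^[i] a) N
  rw [h2, hσ, Function.iterate_zero_apply] at h1
  refine (Finset.prod_congr rfl fun i _ => ?_).trans (mul_right_cancel h1)
  exact (Function.iterate_succ_apply' σ i a).symm

theorem cycNorm_of_fixed (N : ℕ) {a : A} (ha : σ a = a) : cycNorm σ N a = a ^ N := by
  show ∏ i ∈ Finset.range N, σ^[i] a = a ^ N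
  rw [Finset.prod_congr rfl fun i _ => Function.iterate_fixed ha i, Finset.prod_const, Finset.card_range]

/-- Hilbert 90 for a uniquely divisible module. -/
theorem exists_mul_inv_eq {N : ℕ} (hσ : ∀ a, σ^[N] a = a) (hsurj : ∀ a : A, ∃ b, b ^ N = a)
    (hinj : ∀ a : A, a ^ N = 1 → a = 1) {a : A} (ha : cycNorm σ N a = 1) : ∃ w, w * (σ w)⁻¹ = a := by
  let p : A := ∏ i ∈ Finset.range N, (σ^[i] a) ^ i
  obtain ⟨w, hw⟩ := hsurj p⁻¹
  refine ⟨w, mul_inv_eq_one.mp (hinj _ ?_)⟩
  have e1 : σ p * cycNorm σ N a = ∏ i ∈ Finset.range N, (σ^[i + 1] a) ^ (i + 1) := by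
    rw [← map_cycNorm σ hσ a]
    show σ p * σ (∏ i ∈ Finset.range N, σ^[i] a) = _
    rw [map_prod, map_prod, ← Finset.prod_mul_distrib]
    exact Finset.prod_congr rfl fun i _ => by rw [map_pow, ← Function.iterate_succ_apply' σ, pow_succ]
  have e2 : ∏ i ∈ Finset.range N, (σ^[i + 1] a) ^ (i + 1) = p * a ^ N := by
    have h := Finset.prod_range_succ' (fun i => (σ^[i] a) ^ i) N
    rw [Finset.prod_range_succ, hσ] at h
    simpa using h.symm
  rw [ha, _root_.mul_one, e2] at e1
  rw [mul_pow, mul_pow, inv_pow, ← map_pow, hw, map_inv, e1, _root_.inv_inv, inv_mul_cancel_left, inv_pow,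
    mul_inv_cancel]

section Group

variable {G : Type*} [Group G] (σ : G →* G)

/-- The twisted power. -/
def nprod (a : G) : ℕ → G
  | 0 => 1
  | n + 1 => nprod a n * σ^[n] a

theorem nprod_conj (w a : G) : ∀ n, nprod σ (w⁻¹ * a * σ w) n = w⁻¹ * nprod σ a n * σ^[n] w
  | 0 => by simp [nprod]
  | n + 1 => by
    have e : σ^[n] (σ w) = σ^[n + 1] w := (Function.iterate_succ_apply σ n w).symm
    rw [nprod, nprod, nprod_conj w a n, iterate_map_mul, iterate_map_mul, iterate_map_inv, e]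
    simp [_root_.mul_assoc]

theorem nprod_map {H : Type*} [Group H] (τ : H →* H) (f : G →* H) (hf : ∀ x, f (σ x) = τ (f x)) (a : G) :
    ∀ n, f (nprod σ a n) = nprod τ (f a) n
  | 0 => map_one f
  | n + 1 => by
    have e : f (σ^[n] a) = τ^[n] (f a) := Function.Semiconj.iterate_right hf n a
    rw [nprod, nprod, map_mul, nprod_map τ f hf a n, e]

theorem nprod_eq_cycNorm {A : Type*} [CommGroup A] (τ : A →* A) (a : A) : ∀ n, nprod τ a n = cycNorm τ n a
  | 0 => rfl
  | n + 1 => by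
    rw [nprod, nprod_eq_cycNorm τ a n]
    exact (Finset.prod_range_succ _ n).symm

end Group

end Algebra

noncomputable section

variable {k : Type u} [Field k] [IsAlgClosed k]

/-- A connected variety with a group of points has no proper constructible subgroup of finite index. -/
theorem eq_top_of_constructible {G : Over (Spec (CommRingCat.of k))} [GrpObj G] [LocallyOfFiniteType G.hom]
    [IrreducibleSpace G.left] (Q : Subgroup (Pt G)) {D : Set G.left} (hD : Topology.IsConstructible D)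
    (hDQ : ∀ g : Pt G, pimg g ∈ D ↔ g ∈ Q) (hfin : ∃ s : Finset (Pt G), ∀ g : Pt G, ∃ r ∈ s, g * r⁻¹ ∈ Q) :
    Q = ⊤ := by
  classical
  obtain ⟨s, hs⟩ := hfin
  have hη : ∀ z : G.left, genericPoint G.left ⤳ z := genericPoint_specializes
  let tR : Pt G → (G ⟶ G) := fun r => 𝟙 G * (toUnit G ≫ r)
  have htR : ∀ g r : Pt G, g ≫ tR r = g * r := fun g r => by
    simp only [tR, MonObj.comp_mul, Category.comp_id, pt_const]
  have hgen : ∀ r : Pt G, (tR r).left (genericPoint G.left) = genericPoint G.left := fun r => by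
    haveI : IsIso (tR r) := ⟨tR r⁻¹, tR_inv r, by simpa using tR_inv r⁻¹⟩
    haveI : IsIso (tR r).left := ((Over.forget _).mapIso (asIso (tR r))).isIso_hom
    exact genericPoint_eq_of_isOpenImmersion (tR r).left
  have hmem : genericPoint G.left ∈ D := by
    by_contra hno
    obtain ⟨V, hV, hVo, hηV⟩ := mem_nhds_iff.mp ((Agent.VarDim.mem_nhds_of_isConstructible hη hD).2 hno)
    obtain ⟨g, hg⟩ := Chev.exists_pt (G := G) (S := ⋂ r ∈ s, (tR r⁻¹).left ⁻¹' V)
      ⟨genericPoint G.left, Set.mem_iInter₂.mpr fun r _ => by show _ ∈ V; rw [hgen]; exact hηV⟩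
      (isOpen_biInter_finset fun r _ => hVo.preimage (tR r⁻¹).left.continuous).isLocallyClosed
    obtain ⟨r, hr, hrQ⟩ := hs g
    refine hV (Set.mem_iInter₂.mp hg r hr) ?_
    show (tR r⁻¹).left (pimg g) ∈ D
    rw [← pimg_comp, htR]
    exact (hDQ _).mpr hrQ
  obtain ⟨V, hV, hVo, hηV⟩ := mem_nhds_iff.mp ((Agent.VarDim.mem_nhds_of_isConstructible hη hD).1 hmem)
  refine (Subgroup.eq_top_iff' Q).mpr fun g => ?_
  obtain ⟨p, hp, hpg⟩ := Chev.exists_pt (G := G) (S := V ∩ (tR g⁻¹).left ⁻¹' V)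
    ⟨genericPoint G.left, hηV, by show _ ∈ V; rw [hgen]; exact hηV⟩
    (hVo.inter (hVo.preimage (tR g⁻¹).left.continuous)).isLocallyClosed
  have h1 : p ∈ Q := (hDQ p).mp (hV hp)
  have h2 : p * g⁻¹ ∈ Q := (hDQ _).mp (by
    rw [← htR, pimg_comp]
    exact hV hpg)
  simpa using Q.mul_mem (Q.inv_mem h2) h1
where
  tR_inv (r : Pt G) : (𝟙 G * (toUnit G ≫ r)) ≫ (𝟙 G * (toUnit G ≫ r⁻¹)) = 𝟙 G := by
    rw [MonObj.comp_mul, Category.comp_id, ← Category.assoc, toUnit_unique (_ ≫ toUnit G) (toUnit G),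
      _root_.mul_assoc, ← MonObj.comp_mul, mul_inv_cancel, MonObj.comp_one, _root_.mul_one]

open Agent.GrpSchLib.Kunneth (Fn evPt)

/-- Composition with a homomorphism on rational points. -/
def ptsMap {X Y : Over (Spec (CommRingCat.of k))} [GrpObj X] [GrpObj Y] (f : X ⟶ Y) [IsMonHom f] : Pt X →* Pt Y where
  toFun x := x ≫ f
  map_one' := MonObj.one_comp _
  map_mul' a b := MonObj.mul_comp a b _

@[simp] theorem ptsMap_apply {X Y : Over (Spec (CommRingCat.of k))} [GrpObj X] [GrpObj Y] (f : X ⟶ Y) [IsMonHom f]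
    (x : Pt X) : ptsMap f x = x ≫ f := rfl

variable (k) in
/-- Roots of a given order exist in closures of powers and are unique. -/
def HasRoots (n : ℕ) (N : Over (Spec (CommRingCat.of k))) [GrpObj N] : Prop :=
  (∀ x : Pt N, ∃ y, y ^ n = x ∧ y ∈ cl (Set.range fun m : ℕ => x ^ m)) ∧ ∀ x y : Pt N, x ^ n = y ^ n → x = y

/-- Closures computed in a closed subgroup. -/
theorem mem_cl_of_comp {X Y : Over (Spec (CommRingCat.of k))} (i : X ⟶ Y) [IsClosedImmersion i.left]
    {S : Set (Pt X)} {T : Set (Pt Y)} (hT : T ⊆ (· ≫ i) '' S) {y : Pt X} (hy : y ≫ i ∈ cl T) : y ∈ cl S := by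
  show pimg y ∈ closure (pimg '' S)
  rw [i.left.isClosedEmbedding.isInducing.closure_eq_preimage_closure_image]
  refine closure_mono ?_ hy
  rintro _ ⟨t, ht, rfl⟩
  obtain ⟨s, hs, rfl⟩ := hT ht
  exact ⟨_, ⟨s, hs, rfl⟩, rfl⟩

theorem cl_subset_range {X Y : Over (Spec (CommRingCat.of k))} (i : X ⟶ Y) [IsClosedImmersion i.left]
    [LocallyOfFiniteType Y.hom] {T : Set (Pt Y)} (hT : ∀ t ∈ T, ∃ x : Pt X, x ≫ i = t) {y : Pt Y} (hy : y ∈ cl T) :
    ∃ x : Pt X, x ≫ i = y :=
  exists_lift_pt i (closure_minimal (by rintro _ ⟨t, ht, rfl⟩; obtain ⟨x, rfl⟩ := hT t ht; exact ⟨pimg x, rfl⟩)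
    i.left.isClosedEmbedding.isClosed_range hy)

/-- Roots restrict to closed subgroups. -/
theorem HasRoots.of_closed {n : ℕ} {N' N : Over (Spec (CommRingCat.of k))} [GrpObj N'] [GrpObj N]
    [LocallyOfFiniteType N.hom] (h : HasRoots k n N) (j : N' ⟶ N) [IsMonHom j] [IsClosedImmersion j.left] :
    HasRoots k n N' := by
  haveI : Mono j := (Over.forget _).mono_of_mono_map (inferInstanceAs (Mono j.left))
  have hj : ∀ (x : Pt N') (m : ℕ), (x ^ m) ≫ j = (x ≫ j) ^ m := map_pow (ptsMap j)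
  refine ⟨fun x => ?_, fun x y e => (cancel_mono j).mp (h.2 _ _ (by rw [← hj, ← hj, e]))⟩
  obtain ⟨y, hy, hycl⟩ := h.1 (x ≫ j)
  obtain ⟨y', rfl⟩ := cl_subset_range j (T := Set.range fun m : ℕ => (x ≫ j) ^ m)
    (by rintro _ ⟨m, rfl⟩; exact ⟨x ^ m, hj x m⟩) hycl
  exact ⟨y', (cancel_mono j).mp (by rw [hj, hy]), mem_cl_of_comp j
    (by rintro _ ⟨m, rfl⟩; exact ⟨x ^ m, ⟨m, rfl⟩, hj x m⟩) hycl⟩

set_option maxHeartbeats 1000000 in
/-- If every class is fixed up to the kernel, the fixed points are generated by their neutral component and the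
kernel. -/
theorem exists_fixed_neutral {N N' : Over (Spec (CommRingCat.of k))} [GrpObj N] [GrpObj N'] [Smooth N.hom]
    [QuasiCompact N.hom] [ConnectedSpace N.left] [Smooth N'.hom] [QuasiCompact N'.hom] (j : N' ⟶ N) [IsMonHom j]
    (hn : (ptsMap j).range.Normal) (φ : N ⟶ N) [IsMonHom φ] (M : N ⟶ N)
    (θ : haveI := hn; Pt N →* Pt N ⧸ (ptsMap j).range)
    (hθM : haveI := hn; ∀ d : Pt N, θ d = QuotientGroup.mk (d ≫ M))
    (hθ : haveI := hn; ∀ d : Pt N, ∃ c : Pt N, c ≫ φ = c ∧ QuotientGroup.mk c = θ d)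
    (hsurj : haveI := hn; ∀ c : Pt N, c ≫ φ = c → ∃ d, θ d = QuotientGroup.mk c) :
    ∃ (J : Over (Spec (CommRingCat.of k))) (_ : GrpObj J) (jv : J ⟶ N), IsMonHom jv ∧ IsClosedImmersion jv.left ∧
      Smooth J.hom ∧ QuasiCompact J.hom ∧ ConnectedSpace J.left ∧ (∀ x : Pt J, (x ≫ jv) ≫ φ = x ≫ jv) ∧
      (∀ x : Pt N, x ≫ φ = x → ∃ (y : Pt J) (w : Pt N'), (y ≫ jv) * (w ≫ j) = x) ∧
      ∀ (T : Over (Spec (CommRingCat.of k))) [GrpObj T] [Smooth T.hom] [ConnectedSpace T.left] (f : T ⟶ N)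
        [IsMonHom f], (∀ t : Pt T, (t ≫ f) ≫ φ = t ≫ f) → ∃ f' : T ⟶ J, IsMonHom f' ∧ f' ≫ jv = f := by
  classical
  haveI := hn
  haveI := Agent.GrpSchLib.AntiAffine.isSeparated_grp N
  let H : Subgroup (Pt N) :=
    { carrier := {x | x ≫ φ = x}
      one_mem' := MonObj.one_comp φ
      mul_mem' := fun {a b} ha hb => by show (a * b) ≫ φ = a * b; rw [MonObj.mul_comp, ha, hb]
      inv_mem' := fun {a} ha => by show a⁻¹ ≫ φ = a⁻¹; rw [GrpObj.inv_comp, ha] }
  let e : N ⟶ N := φ * (𝟙 N)⁻¹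
  have he : ∀ x : Pt N, x ≫ e = (x ≫ φ) * x⁻¹ := fun x => by
    simp only [e, MonObj.comp_mul, GrpObj.comp_inv, Category.comp_id]
  have hZ : IsClosed (e.left ⁻¹' {pimg (1 : Pt N)}) :=
    ((pointEquivClosedPoint N.hom) ⟨(1 : Pt N).left, Over.w (1 : Pt N)⟩).2.preimage e.left.continuous
  obtain ⟨J, iJ, jv, hjm, hjc, hJs, hJq, hJc, hJH, ⟨s, hs⟩, hlift⟩ := exists_neutral_fin H hZ fun x => by
    show e.left (pimg x) = pimg (1 : Pt N) ↔ x ≫ φ = x
    rw [← pimg_comp, Chev.pimg_injective.eq_iff, he, mul_inv_eq_one]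
  haveI := hjm; haveI := hjc; haveI := hJs; haveI := hJq; haveI := hJc
  refine ⟨J, iJ, jv, hjm, hjc, hJs, hJq, hJc, hJH, ?_, fun T _ _ _ f _ hf => hlift T f hf⟩
  let mk := QuotientGroup.mk' (ptsMap j).range
  let R : Subgroup (Pt N ⧸ (ptsMap j).range) := (ptsMap jv).range.map mk
  let Q : Subgroup (Pt N) := R.comap θ
  have hR : ∀ x : Pt N, mk x ∈ R ↔ ∃ (y : Pt J) (w : Pt N'), (y ≫ jv) * (w ≫ j) = x := fun x => by
    constructor
    · rintro ⟨_, ⟨y, rfl⟩, hy⟩
      obtain ⟨w, hw⟩ := QuotientGroup.eq.mp hy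
      exact ⟨y, w, by rw [show w ≫ j = _ from hw]; simp⟩
    · rintro ⟨y, w, rfl⟩
      refine ⟨y ≫ jv, ⟨y, rfl⟩, QuotientGroup.eq.mpr ?_⟩
      simp only [inv_mul_cancel_left]
      exact ⟨w, rfl⟩
  let ψ : J ⊗ N' ⟶ N := (fst J N' ≫ jv) * (snd J N' ≫ j)
  haveI : Smooth (J ⊗ N').hom := inferInstanceAs (Smooth (pullback.fst J.hom N'.hom ≫ J.hom))
  haveI : QuasiCompact (J ⊗ N').hom := inferInstanceAs (QuasiCompact (pullback.fst J.hom N'.hom ≫ J.hom))
  haveI : LocallyOfFiniteType (ψ.left ≫ N.hom) := by rw [Over.w ψ]; infer_instance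
  haveI : LocallyOfFiniteType ψ.left := locallyOfFiniteType_of_comp ψ.left N.hom
  haveI : IsLocallyNoetherian N.left := LocallyOfFiniteType.isLocallyNoetherian N.hom
  haveI : CompactSpace N.left := QuasiCompact.compactSpace_of_compactSpace N.hom
  haveI : CompactSpace (J ⊗ N').left := QuasiCompact.compactSpace_of_compactSpace (J ⊗ N').hom
  haveI : QuasiCompact ψ.left := inferInstance
  haveI : IsIntegral N.left := Agent.GrpSchLib.Kunneth.isIntegral_grp N
  haveI : LocallyOfFiniteType (M.left ≫ N.hom) := by rw [Over.w M]; infer_instance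
  haveI : LocallyOfFiniteType M.left := locallyOfFiniteType_of_comp M.left N.hom
  haveI : QuasiCompact (M.left ≫ N.hom) := by rw [Over.w M]; infer_instance
  haveI : QuasiCompact M.left := inferInstance
  have hD : Topology.IsConstructible (M.left ⁻¹' Set.range ψ.left) := by
    haveI : IsNoetherian N.left := { }
    have hr : Topology.IsConstructible (Set.range ψ.left) := by
      rw [← Set.image_univ]
      exact ψ.left.isConstructible_image Topology.IsConstructible.univ
    exact hr.preimage M.left.continuous fun U _ _ V _ _ => TopologicalSpace.NoetherianSpace.isCompact _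
  have hDQ : ∀ d : Pt N, pimg d ∈ M.left ⁻¹' Set.range ψ.left ↔ d ∈ Q := fun d => by
    show M.left (pimg d) ∈ Set.range ψ.left ↔ θ d ∈ R
    rw [hθM, ← pimg_comp]
    refine Iff.trans ⟨?_, ?_⟩ (hR _).symm
    · rintro ⟨z, hz⟩
      obtain ⟨q, hq⟩ := Chev.exists_pt (G := J ⊗ N') (S := ψ.left ⁻¹' {pimg (d ≫ M)}) ⟨z, hz⟩
        (((pointEquivClosedPoint N.hom) ⟨(d ≫ M).left, Over.w (d ≫ M)⟩).2.preimage
          ψ.left.continuous).isLocallyClosed
      refine ⟨q ≫ fst J N', q ≫ snd J N', ?_⟩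
      rw [← Chev.pimg_injective (show pimg (q ≫ ψ) = pimg (d ≫ M) from hq)]
      simp only [ψ, MonObj.comp_mul, Category.assoc]
    · rintro ⟨y, w, h⟩
      refine ⟨pimg (lift y w), ?_⟩
      rw [← pimg_comp]
      congr 1
      simp only [ψ, MonObj.comp_mul, lift_fst_assoc, lift_snd_assoc, h]
  have hfin : ∃ s' : Finset (Pt N), ∀ g : Pt N, ∃ r ∈ s', g * r⁻¹ ∈ Q := by
    refine ⟨s.image fun r => if h : ∃ d : Pt N, θ d * (mk r)⁻¹ ∈ R then h.choose else 1, fun g => ?_⟩
    obtain ⟨c, hc, hcg⟩ := hθ g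
    obtain ⟨r, hr, y, rfl⟩ := hs c hc
    have hg : θ g * (mk r)⁻¹ ∈ R := by
      refine ⟨y ≫ jv, ⟨y, rfl⟩, ?_⟩
      rw [← hcg]
      show mk (y ≫ jv) = mk ((y ≫ jv) * r) * (mk r)⁻¹
      rw [map_mul, mul_inv_cancel_right]
    have hex : ∃ d : Pt N, θ d * (mk r)⁻¹ ∈ R := ⟨g, hg⟩
    refine ⟨_, Finset.mem_image_of_mem _ hr, ?_⟩
    rw [dif_pos hex]
    show θ (g * hex.choose⁻¹) ∈ R
    have := R.mul_mem hg (R.inv_mem hex.choose_spec)
    rwa [map_mul, map_inv, ← show θ g * (mk r)⁻¹ * (θ hex.choose * (mk r)⁻¹)⁻¹ = θ g * (θ hex.choose)⁻¹ by group]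
  have htop := eq_top_of_constructible Q hD hDQ hfin
  intro x hx
  obtain ⟨d, hd⟩ := hsurj x hx
  have hdQ : d ∈ Q := htop ▸ Subgroup.mem_top d
  exact (hR x).mp (show mk x ∈ R from (show θ d = mk x from hd) ▸ (show θ d ∈ R from hdQ))

theorem nprod_comp {N : Over (Spec (CommRingCat.of k))} [GrpObj N] (φ : N ⟶ N) [IsMonHom φ] :
    ∀ n : ℕ, ∃ M : N ⟶ N, ∀ x : Pt N, x ≫ M = nprod (ptsMap φ) x n := by
  have hit : ∀ n : ℕ, ∃ P : N ⟶ N, ∀ x : Pt N, x ≫ P = (ptsMap φ)^[n] x := fun n => by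
    induction n with
    | zero => exact ⟨𝟙 N, fun x => Category.comp_id x⟩
    | succ n ih =>
      obtain ⟨P, hP⟩ := ih
      exact ⟨P ≫ φ, fun x => by rw [← Category.assoc, hP, Function.iterate_succ_apply']; rfl⟩
  intro n
  induction n with
  | zero => exact ⟨1, fun x => MonObj.comp_one x⟩
  | succ n ih =>
    obtain ⟨M, hM⟩ := ih
    obtain ⟨P, hP⟩ := hit n
    exact ⟨M * P, fun x => by rw [MonObj.comp_mul, hM, hP]; rfl⟩

set_option maxHeartbeats 1000000 in
/-- The derived subgroup is stable and has commutative quotient. -/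
theorem exists_derived_stable {N : Over (Spec (CommRingCat.of k))} [GrpObj N] [Smooth N.hom] [QuasiCompact N.hom]
    [ConnectedSpace N.left] :
    ∃ (N' : Over (Spec (CommRingCat.of k))) (_ : GrpObj N') (j : N' ⟶ N) (_ : IsMonHom j), IsClosedImmersion j.left ∧
      Smooth N'.hom ∧ QuasiCompact N'.hom ∧ ConnectedSpace N'.left ∧
      (∀ a b : Pt N, ⁅a, b⁆ ∈ (ptsMap j).range) ∧
      (∀ x : Pt N', x ≫ j ∈ cl ((derivedSeries (Pt N) 1 : Subgroup (Pt N)) : Set (Pt N))) ∧
      (∀ m : ℕ, derivedSeries (Pt N) (m + 1) = ⊥ → derivedSeries (Pt N') m = ⊥) ∧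
      ∀ (φ : N ⟶ N) [IsMonHom φ], ∃ (φ' : N' ⟶ N') (_ : IsMonHom φ'), φ' ≫ j = j ≫ φ := by
  obtain ⟨N', iN', j, hj, hjc, hs, hq, hc, hcomm, hcl⟩ := exists_derived N
  haveI := hj; haveI := hjc; haveI := hs; haveI := hq
  haveI : Mono j := (Over.forget _).mono_of_mono_map (inferInstanceAs (Mono j.left))
  haveI : IsReduced N'.left := GrpSchLib.isReduced_of_smooth_field N'.hom
  refine ⟨N', iN', j, hj, hjc, hs, hq, hc, hcomm, hcl, fun m hm => derivedSeries_eq_bot j hcl hm, fun φ _ => ?_⟩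
  have hder : derivedSeries (Pt N) 1 ≤ (ptsMap j).range := by
    rw [derivedSeries_succ, derivedSeries_zero]
    exact Subgroup.commutator_le.mpr fun a _ b _ => hcomm a b
  obtain ⟨φ', hφ'⟩ := Chev.exists_lift_range j (j ≫ φ) (Chev.mem_of_pts _ j.left.isClosedEmbedding.isClosed_range
    fun x => by
      have h1 : (x ≫ j) ≫ φ ∈ cl ((derivedSeries (Pt N) 1 : Subgroup (Pt N)) : Set (Pt N)) :=
        mapsTo_cl φ (fun z hz => subset_cl _ (map_derivedSeries_le_derivedSeries (ptsMap φ) 1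
          ⟨z, hz, rfl⟩)) _ (hcl x)
      obtain ⟨y, hy⟩ := cl_subset_range j (fun t ht => hder ht) h1
      exact ⟨pimg y, by rw [← pimg_comp, hy, Category.assoc]⟩)
  exact ⟨φ', Deform.isMonHom_of_comp φ' j (i := j ≫ φ) hφ', hφ'⟩

set_option maxHeartbeats 1000000 in
/-- **Hilbert 90 and connectedness of fixed points on the unipotent part.** -/
theorem fixed_connected_aux (p : ℕ) : ∀ (n : ℕ) (N : Over (Spec (CommRingCat.of k))) [GrpObj N] [Smooth N.hom]
    [QuasiCompact N.hom] [ConnectedSpace N.left] (φ : N ⟶ N) [IsMonHom φ],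
    derivedSeries (Pt N) n = ⊥ → HasRoots k p N → (∀ x : Pt N, (ptsMap φ)^[p] x = x) →
    (∀ a : Pt N, nprod (ptsMap φ) a p = 1 → ∃ w : Pt N, w * (w ≫ φ)⁻¹ = a) ∧
    ∃ (J : Over (Spec (CommRingCat.of k))) (_ : GrpObj J) (jv : J ⟶ N), IsMonHom jv ∧ IsClosedImmersion jv.left ∧
      Smooth J.hom ∧ ConnectedSpace J.left ∧ (∀ x : Pt J, (x ≫ jv) ≫ φ = x ≫ jv) ∧
      ∀ x : Pt N, x ≫ φ = x → ∃ y : Pt J, y ≫ jv = x := by
  intro n
  induction n with
  | zero =>
    intro N _ _ _ _ φ _ hn _ _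
    have htriv : ∀ x : Pt N, x = 1 := fun x =>
      Subgroup.mem_bot.mp (hn ▸ (derivedSeries_zero (Pt N)).symm ▸ Subgroup.mem_top x)
    refine ⟨fun a _ => ⟨1, (htriv _).trans (htriv a).symm⟩, ?_⟩
    haveI := Agent.GrpSchLib.AntiAffine.isSeparated_grp N
    exact ⟨N, inferInstance, 𝟙 N, inferInstance, inferInstanceAs (IsClosedImmersion (𝟙 N.left)), inferInstance,
      inferInstance, fun x => (htriv _).trans (htriv _).symm, fun x _ => ⟨x, Category.comp_id x⟩⟩
  | succ n ih =>
    intro N _ _ _ _ φ _ hn hroots hord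
    obtain ⟨N', iN', j, hj, hjc, hs', hq', hc', hcomm, -, hlen, hstab⟩ := exists_derived_stable (N := N)
    haveI := hjc; haveI := hs'; haveI := hq'; haveI := hc'
    haveI : Mono j := (Over.forget _).mono_of_mono_map (inferInstanceAs (Mono j.left))
    obtain ⟨φ', hφ'm, hφ'⟩ := hstab φ
    let σ := ptsMap φ
    let σ' := ptsMap φ'
    have hσj : ∀ x : Pt N', ptsMap j (σ' x) = σ (ptsMap j x) := fun x => by
      show (x ≫ φ') ≫ j = (x ≫ j) ≫ φ
      rw [Category.assoc, hφ', Category.assoc]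
    have hord' : ∀ x : Pt N', σ'^[p] x = x := fun x => (cancel_mono j).mp (by
      show ptsMap j (σ'^[p] x) = ptsMap j x
      rw [Function.Semiconj.iterate_right (f := ptsMap j) hσj p x, hord])
    obtain ⟨hH, J', iJ', jv', hjv'm, hjv'c, hJ's, hJ'c, hJ'fix, hJ'all⟩ :=
      ih N' φ' (hlen n hn) (hroots.of_closed j) hord'
    haveI := hjv'm; haveI := hJ's; haveI := hJ'c
    let W := (ptsMap j).range
    have hnormal : W.Normal := ⟨fun w hw g => by
      have := W.mul_mem (hcomm g w) hw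
      rwa [commutatorElement_def, inv_mul_cancel_right] at this⟩
    haveI := hnormal
    letI : CommGroup (Pt N ⧸ W) :=
      { (inferInstance : Group (Pt N ⧸ W)) with
        mul_comm := fun a b => by
          induction a using QuotientGroup.induction_on with
          | H x =>
            induction b using QuotientGroup.induction_on with
            | H y =>
              rw [← QuotientGroup.mk_mul, ← QuotientGroup.mk_mul, QuotientGroup.eq]
              have := hcomm y⁻¹ x⁻¹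
              rwa [commutatorElement_def, _root_.inv_inv, _root_.inv_inv, ← _root_.mul_inv_rev,
                _root_.mul_assoc] at this }
    let mk := QuotientGroup.mk' W
    let τ : Pt N ⧸ W →* Pt N ⧸ W := QuotientGroup.map W W σ fun w hw => by
      obtain ⟨z, rfl⟩ := hw
      exact ⟨σ' z, hσj z⟩
    have hmk : ∀ x, mk (σ x) = τ (mk x) := fun x => rfl
    have hordA : ∀ a, τ^[p] a = a := fun a => by
      induction a using QuotientGroup.induction_on with
      | H x =>
        show τ^[p] (mk x) = mk x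
        rw [← Function.Semiconj.iterate_right (f := mk) hmk p x, hord]
    have hnorm : ∀ x : Pt N, mk (nprod σ x p) = cycNorm τ p (mk x) := fun x => by
      rw [nprod_map σ τ mk hmk, nprod_eq_cycNorm]
    have hsurjA : ∀ a : Pt N ⧸ W, ∃ b, b ^ p = a := fun a => by
      induction a using QuotientGroup.induction_on with
      | H x =>
        obtain ⟨y, hy, -⟩ := hroots.1 x
        exact ⟨mk y, by rw [← map_pow, hy]; rfl⟩
    have hinjA : ∀ a : Pt N ⧸ W, a ^ p = 1 → a = 1 := fun a => by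
      induction a using QuotientGroup.induction_on with
      | H x =>
        intro hx
        have hxW : x ^ p ∈ W := (QuotientGroup.eq_one_iff _).mp hx
        obtain ⟨z, hz⟩ := hxW
        obtain ⟨y, hy, -⟩ := (hroots.of_closed j).1 z
        refine (QuotientGroup.eq_one_iff _).mpr ⟨y, hroots.2 _ _ ?_⟩
        rw [← map_pow, hy, hz]
    have h90 : ∀ a : Pt N, nprod σ a p = 1 → ∃ w : Pt N, w * (σ w)⁻¹ = a := by
      intro a ha
      obtain ⟨w₀, hw₀⟩ := exists_mul_inv_eq τ hordA hsurjA hinjA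
        (show cycNorm τ p (mk a) = 1 by rw [← hnorm, ha, map_one])
      obtain ⟨w, rfl⟩ := QuotientGroup.mk'_surjective W w₀
      change mk w * (τ (mk w))⁻¹ = mk a at hw₀
      have ha' : w⁻¹ * a * σ w ∈ W := (QuotientGroup.eq_one_iff _).mp (by
        show mk (w⁻¹ * a * σ w) = 1
        rw [map_mul, map_mul, map_inv, hmk, ← hw₀]
        group)
      obtain ⟨a', ha''⟩ := ha'
      have hn' : nprod σ' a' p = 1 := (cancel_mono j).mp (by
        show ptsMap j (nprod σ' a' p) = ptsMap j 1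
        rw [nprod_map σ' σ (ptsMap j) hσj, map_one, show ptsMap j a' = _ from ha'', nprod_conj, ha,
          hord]
        simp)
      obtain ⟨u, hu⟩ := hH a' hn'
      refine ⟨w * ptsMap j u, ?_⟩
      have e : ptsMap j u * (σ (ptsMap j u))⁻¹ = w⁻¹ * a * σ w := by
        rw [← hσj, ← map_inv, ← map_mul]
        exact (congrArg (ptsMap j) hu).trans ha''
      rw [map_mul, _root_.mul_inv_rev, _root_.mul_assoc, ← _root_.mul_assoc (ptsMap j u), e]
      group
    refine ⟨h90, ?_⟩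
    obtain ⟨M, hM⟩ := nprod_comp φ p
    let θ : Pt N →* Pt N ⧸ W := (cycNorm τ p).comp mk
    have hθM : ∀ d : Pt N, θ d = QuotientGroup.mk (d ≫ M) := fun d => by rw [hM]; exact (hnorm d).symm
    obtain ⟨J, iJ, jv, hjvm, hjvc, hJs, hJq, hJc, hJfix, hJall, hJlift⟩ :=
      exists_fixed_neutral j hnormal φ M θ hθM (fun d => by
        -- a fixed class lifts to a fixed point
        obtain ⟨x, hx⟩ := QuotientGroup.mk'_surjective W (θ d)
        have hxW : x⁻¹ * σ x ∈ W := (QuotientGroup.eq_one_iff _).mp (by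
          show mk (x⁻¹ * σ x) = 1
          rw [map_mul, map_inv, hmk, hx]
          exact inv_mul_eq_one.mpr (map_cycNorm τ hordA _).symm)
        obtain ⟨a', ha'⟩ := hxW
        have hn' : nprod σ' a' p = 1 := (cancel_mono j).mp (by
          show ptsMap j (nprod σ' a' p) = ptsMap j 1
          rw [nprod_map σ' σ (ptsMap j) hσj, map_one, show ptsMap j a' = _ from ha',
            show x⁻¹ * σ x = x⁻¹ * 1 * σ x by rw [_root_.mul_one], nprod_conj, hord]
          have h1 : ∀ m, nprod σ (1 : Pt N) m = 1 := fun m => by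
            induction m with
            | zero => rfl
            | succ m ih => rw [nprod, ih, iterate_map_one, _root_.mul_one]
          rw [h1]
          group)
        obtain ⟨u, hu⟩ := hH a' hn'
        refine ⟨x * ptsMap j u, ?_, ?_⟩
        · show σ (x * ptsMap j u) = x * ptsMap j u
          have e : ptsMap j u * (σ (ptsMap j u))⁻¹ = x⁻¹ * σ x := by
            rw [← hσj, ← map_inv, ← map_mul]
            exact (congrArg (ptsMap j) hu).trans ha'
          rw [map_mul, show σ x = x * (x⁻¹ * σ x) by group, ← e]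
          group
        · rw [← hx]
          exact QuotientGroup.eq.mpr ⟨u⁻¹, by rw [map_inv, _root_.mul_inv_rev, inv_mul_cancel_right]⟩)
      fun c hc => by
        obtain ⟨d, hd⟩ := hsurjA (mk c)
        obtain ⟨x, rfl⟩ := QuotientGroup.mk'_surjective W d
        refine ⟨x, ?_⟩
        have hfix : τ (mk x) = mk x := by
          have h2 : (τ (mk x) * (mk x)⁻¹) ^ p = 1 := by
            rw [mul_pow, inv_pow, ← map_pow, hd, ← hmk, show σ c = c from hc, mul_inv_cancel]
          exact mul_inv_eq_one.mp (hinjA _ h2)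
        exact (cycNorm_of_fixed τ p hfix).trans hd
    haveI := hjvm; haveI := hjvc
    haveI : IsMonHom (jv' ≫ j) := inferInstance
    obtain ⟨f', -, hf'⟩ := hJlift J' (jv' ≫ j) fun t => by
      have h := congrArg (ptsMap j) (show σ' (t ≫ jv') = t ≫ jv' from hJ'fix t)
      rw [hσj] at h
      rw [← Category.assoc]
      exact h
    refine ⟨J, iJ, jv, hjvm, hjvc, hJs, hJc, hJfix, fun x hx => ?_⟩
    obtain ⟨y, w, rfl⟩ := hJall x hx
    have hw : w ≫ φ' = w := (cancel_mono j).mp (by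
      have h2 : ((y ≫ jv) ≫ φ) * ((w ≫ j) ≫ φ) = (y ≫ jv) * (w ≫ j) := by rw [← MonObj.mul_comp]; exact hx
      rw [hJfix] at h2
      rw [Category.assoc, hφ', ← Category.assoc]
      exact mul_left_cancel h2)
    obtain ⟨z, hz⟩ := hJ'all w hw
    refine ⟨y * (z ≫ f'), ?_⟩
    rw [MonObj.mul_comp, Category.assoc, hf', ← Category.assoc, hz]

set_option maxHeartbeats 1000000 in
/-- **The centraliser of a point of finite order prime to the characteristic in a connected solvable group is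
connected.** -/
theorem exists_connected_centralizer (S : Over (Spec (CommRingCat.of k))) [GrpObj S] [IsAffine S.left] [Smooth S.hom]
    [ConnectedSpace S.left] [Group.IsSolvable (Pt S)] (s : Pt S) (p : ℕ) (hp : (p : k) ≠ 0) (hs : s ^ p = 1) :
    ∃ (J : Over (Spec (CommRingCat.of k))) (_ : GrpObj J) (jv : J ⟶ S), IsMonHom jv ∧ IsClosedImmersion jv.left ∧
      Smooth J.hom ∧ ConnectedSpace J.left ∧ (∀ x : Pt J, (x ≫ jv) * s = s * (x ≫ jv)) ∧
      (∀ g : Pt S, g * s = s * g → ∃ y : Pt J, y ≫ jv = g) ∧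
      ∃ K : Subgroup (Pt S), cl (K : Set (Pt S)) ⊆ K ∧ derivedSeries (Pt S) 1 ≤ K ∧
        ∀ a ∈ K, (a * s) ^ p = 1 → ∃ w : Pt S, w * s * w⁻¹ = a * s := by
  haveI : IsAffineHom S.hom := isAffineHom_of_isAffine _
  obtain ⟨K, hKcl, hKder, hKinj, hKroot⟩ := exists_unipKer S
  obtain ⟨N', iN', j, hj, hjc, hs', hq', hc', hcomm, hcl, -, hstab⟩ := exists_derived_stable (N := S)
  haveI := hjc; haveI := hs'; haveI := hq'; haveI := hc'
  haveI : Mono j := (Over.forget _).mono_of_mono_map (inferInstanceAs (Mono j.left))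
  let φ := conj s
  obtain ⟨φ', hφ'm, hφ'⟩ := hstab φ
  have hK : ∀ x : Pt N', x ≫ j ∈ K := fun x => hKcl (cl_mono hKder (hcl x))
  have hjp : ∀ (x : Pt N') (m : ℕ), (x ^ m) ≫ j = (x ≫ j) ^ m := map_pow (ptsMap j)
  have hroots : HasRoots k p N' := by
    refine ⟨fun x => ?_, fun x y e => (cancel_mono j).mp (hKinj _ (hK x) _ (hK y) p hp (by rw [← hjp, ← hjp, e]))⟩
    obtain ⟨y, hy, hycl⟩ := hKroot _ (hK x) p hp
    obtain ⟨y', rfl⟩ := cl_subset_range j (T := Set.range fun m : ℕ => (x ≫ j) ^ m)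
      (by rintro _ ⟨m, rfl⟩; exact ⟨x ^ m, hjp x m⟩) hycl
    exact ⟨y', (cancel_mono j).mp (by rw [hjp, hy]), mem_cl_of_comp j
      (by rintro _ ⟨m, rfl⟩; exact ⟨x ^ m, ⟨m, rfl⟩, hjp x m⟩) hycl⟩
  let σ := ptsMap φ
  let σ' := ptsMap φ'
  have hσ : ∀ x : Pt S, σ x = s * x * s⁻¹ := fun x => pt_conj x s
  have hσj : ∀ x : Pt N', ptsMap j (σ' x) = σ (ptsMap j x) := fun x => by
    show (x ≫ φ') ≫ j = (x ≫ j) ≫ φ
    rw [Category.assoc, hφ', Category.assoc]
  have hit : ∀ (m : ℕ) (x : Pt S), σ^[m] x = s ^ m * x * (s ^ m)⁻¹ := fun m x => by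
    induction m with
    | zero => simp
    | succ m ih => rw [Function.iterate_succ_apply', ih, hσ, pow_succ']; group
  have hord : ∀ x : Pt S, σ^[p] x = x := fun x => by rw [hit, hs]; simp
  have hord' : ∀ x : Pt N', σ'^[p] x = x := fun x => (cancel_mono j).mp (by
    show ptsMap j (σ'^[p] x) = ptsMap j x
    rw [Function.Semiconj.iterate_right (f := ptsMap j) hσj p x, hord])
  haveI : Group.IsSolvable (Pt N') := Group.isSolvable_of_isSolvable_injective (f := ptsMap j)
    fun a b h => (cancel_mono j).mp h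
  obtain ⟨n, hn⟩ := Group.IsSolvable.solvable (G := Pt N')
  obtain ⟨hH, J', iJ', jv', hjv'm, hjv'c, hJ's, hJ'c, hJ'fix, hJ'all⟩ :=
    fixed_connected_aux p n N' φ' hn hroots hord'
  haveI := hjv'm; haveI := hJ's; haveI := hJ'c
  let W := (ptsMap j).range
  have hnormal : W.Normal := ⟨fun w hw g => by
    have := W.mul_mem (hcomm g w) hw
    rwa [commutatorElement_def, inv_mul_cancel_right] at this⟩
  haveI := hnormal
  obtain ⟨J, iJ, jv, hjvm, hjvc, hJs, hJq, hJc, hJfix, hJall, hJlift⟩ :=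
    exists_fixed_neutral j hnormal φ (𝟙 S) (QuotientGroup.mk' W) (fun d => by rw [Category.comp_id]; rfl)
      (fun x => by
        have hxW : x⁻¹ * σ x ∈ W := by
          have := hcomm x⁻¹ s
          rwa [commutatorElement_def, _root_.inv_inv, _root_.mul_assoc, _root_.mul_assoc,
            ← _root_.mul_assoc s x, ← hσ] at this
        obtain ⟨a', ha'⟩ := hxW
        have hn' : nprod σ' a' p = 1 := (cancel_mono j).mp (by
          show ptsMap j (nprod σ' a' p) = ptsMap j 1
          rw [nprod_map σ' σ (ptsMap j) hσj, map_one, show ptsMap j a' = _ from ha',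
            show x⁻¹ * σ x = x⁻¹ * 1 * σ x by rw [_root_.mul_one], nprod_conj, hord]
          have h1 : ∀ m, nprod σ (1 : Pt S) m = 1 := fun m => by
            induction m with
            | zero => rfl
            | succ m ih => rw [nprod, ih, iterate_map_one, _root_.mul_one]
          rw [h1]
          group)
        obtain ⟨u, hu⟩ := hH a' hn'
        refine ⟨x * ptsMap j u, ?_, ?_⟩
        · show σ (x * ptsMap j u) = x * ptsMap j u
          have e : ptsMap j u * (σ (ptsMap j u))⁻¹ = x⁻¹ * σ x := by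
            rw [← hσj, ← map_inv, ← map_mul]
            exact (congrArg (ptsMap j) hu).trans ha'
          rw [map_mul, show σ x = x * (x⁻¹ * σ x) by group, ← e]
          group
        · exact QuotientGroup.eq.mpr ⟨u⁻¹, by rw [map_inv, _root_.mul_inv_rev, inv_mul_cancel_right]⟩)
      fun c _ => ⟨c, rfl⟩
  haveI := hjvm; haveI := hjvc
  obtain ⟨f', -, hf'⟩ := hJlift J' (jv' ≫ j) fun t => by
    have h := congrArg (ptsMap j) (show σ' (t ≫ jv') = t ≫ jv' from hJ'fix t)
    rw [hσj] at h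
    rw [← Category.assoc]
    exact h
  have hsplit : ∀ a ∈ K, (a * s) ^ p = 1 → ∃ w : Pt S, w * s * w⁻¹ = a * s := by
    intro a haK has
    have hpow : ∀ m, (a * s) ^ m = nprod σ a m * s ^ m := fun m => by
      induction m with
      | zero => simp [nprod]
      | succ m ih => rw [pow_succ, ih, nprod, hit, pow_succ]; group
    have hn : nprod σ a p = 1 := by
      have := hpow p
      rw [has, hs, _root_.mul_one] at this
      exact this.symm
    have hnW : ∀ m, QuotientGroup.mk' W (nprod σ a m) = QuotientGroup.mk' W a ^ m := fun m => by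
      induction m with
      | zero => exact map_one _
      | succ m ih =>
        rw [nprod, map_mul, ih, pow_succ, hit]
        congr 1
        refine QuotientGroup.eq.mpr ?_
        have := hcomm (s ^ m) a⁻¹
        rwa [commutatorElement_def, _root_.inv_inv, show s ^ m * a⁻¹ * (s ^ m)⁻¹ * a = (s ^ m * a * (s ^ m)⁻¹)⁻¹ * a by
          group] at this
    obtain ⟨z, hz⟩ : a ^ p ∈ W := (QuotientGroup.eq_one_iff _).mp (by
      show QuotientGroup.mk' W (a ^ p) = 1
      rw [map_pow, ← hnW, hn, map_one])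
    obtain ⟨y, hy, -⟩ := hroots.1 z
    have hya : y ≫ j = a := hKinj _ (hK y) _ haK p hp (by rw [← hjp, hy]; exact hz)
    obtain ⟨u, hu⟩ := hH y ((cancel_mono j).mp (by
      show ptsMap j (nprod σ' y p) = ptsMap j 1
      rw [nprod_map σ' σ (ptsMap j) hσj, map_one, show ptsMap j y = a from hya, hn]))
    refine ⟨ptsMap j u, ?_⟩
    have e : ptsMap j u * (σ (ptsMap j u))⁻¹ = a := by
      rw [← hσj, ← map_inv, ← map_mul]
      exact (congrArg (ptsMap j) hu).trans hya
    rw [← e, hσ]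
    group
  refine ⟨J, iJ, jv, hjvm, hjvc, hJs, hJc, fun x => ?_, fun g hg => ?_, K, hKcl, hKder, hsplit⟩
  · have h : s * (x ≫ jv) * s⁻¹ = x ≫ jv := by rw [← hσ]; exact hJfix x
    exact (mul_inv_eq_iff_eq_mul.mp h).symm
  have hgφ : g ≫ φ = g := (pt_conj g s).trans (by rw [← hg, mul_inv_cancel_right])
  obtain ⟨y, w, rfl⟩ := hJall g hgφ
  have hw : w ≫ φ' = w := (cancel_mono j).mp (by
    have h2 : ((y ≫ jv) ≫ φ) * ((w ≫ j) ≫ φ) = (y ≫ jv) * (w ≫ j) := by rw [← MonObj.mul_comp]; exact hgφ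
    rw [hJfix] at h2
    rw [Category.assoc, hφ', ← Category.assoc]
    exact mul_left_cancel h2)
  obtain ⟨z, hz⟩ := hJ'all w hw
  refine ⟨y * (z ≫ f'), ?_⟩
  rw [MonObj.mul_comp, Category.assoc, hf', ← Category.assoc, hz]

end

end Groth.Agent.Deform.Borel
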