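import Groth.Agent.Deform.Borel.NonAffine
import Groth.Agent.Deform.Borel.Rigid

/-!
# Nilpotent groups and central tori, without affineness
-/

universe u

open CategoryTheory CategoryTheory.Limits MonoidalCategory CartesianMonoidalCategory MonObj GrpObj AlgebraicGeometry

attribute [local instance] CategoryTheory.Hom.monoid CategoryTheory.Hom.group
set_option linter.style.haveILetI false
set_option linter.unusedSectionVars false

namespace Groth.Agent.Deform.Borel

open Chev (Pt pimg pimg_comp)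

noncomputable section

variable {k : Type u} [Field k] [IsAlgClosed k]
variable {G : Over (Spec (CommRingCat.of k))} [GrpObj G] [Smooth G.hom] [QuasiCompact G.hom] [ConnectedSpace G.left]

/-- Commuting on rational points is commuting. -/
theorem comm_of_pts {A : Over (Spec (CommRingCat.of k))} [Smooth A.hom] (a : A ⟶ G)
    (h : ∀ (g : Pt G) (x : Pt A), g * (x ≫ a) = (x ≫ a) * g) {X : Over (Spec (CommRingCat.of k))} (x : X ⟶ A)
    (g : X ⟶ G) : (x ≫ a) * g = g * (x ≫ a) := by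
  haveI := Agent.GrpSchLib.AntiAffine.isSeparated_grp G
  haveI : Smooth (G ⊗ A).hom := inferInstanceAs (Smooth (pullback.fst G.hom A.hom ≫ G.hom))
  have key : (snd G A ≫ a) * fst G A = fst G A * (snd G A ≫ a) := comp_inj_pt _ _ fun z => by
    rw [MonObj.comp_mul, MonObj.comp_mul, ← Category.assoc]
    exact (h _ _).symm
  have h1 := congrArg (lift g x ≫ ·) key
  simpa only [MonObj.comp_mul, ← Category.assoc, lift_fst, lift_snd] using h1

set_option maxHeartbeats 1000000 in
/-- **A group is nilpotent when a maximal torus is central.** -/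
theorem nilpotent_of_central {T : Over (Spec (CommRingCat.of k))} [GrpObj T] {i : T ⟶ G} (hi : AGF.IsMaxTorus i)
    (hcen : ∀ (g : Pt G) (w : Pt T), g * (w ≫ i) = (w ≫ i) * g) : Group.IsNilpotent (Pt G) := by
  obtain ⟨N, gN, j, K, gK, κ, hj, hjc, hNs, hNc, hNa, hκ, hKs, hKq, hKc, -, hcenK, hmul, hlift, -⟩ :=
    exists_affine_mul_central (G := G)
  haveI := hj; haveI := hjc; haveI := hNs; haveI := hNc; haveI := hNa; haveI := hκ
  haveI : Mono j := (Over.forget _).mono_of_mono_map (inferInstanceAs (Mono j.left))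
  obtain ⟨him, himo, hT, hmax⟩ := id hi
  haveI := him; haveI := himo
  obtain ⟨hTa, hTl, hTs, hTc⟩ := Deform.TorusBasic.props hT
  haveI := hTa; haveI := hTs; haveI := hTc
  obtain ⟨tN, htN⟩ := hlift T i
  haveI : IsMonHom tN := Deform.isMonHom_of_comp tN j (i := i) htN
  haveI : Mono (tN ≫ j) := by rw [htN]; infer_instance
  haveI : Mono tN := mono_of_mono tN j
  obtain ⟨hnil, -⟩ := nilpotent_of_central_maxTorus N tN ⟨inferInstance, inferInstance, hT, fun T' _ e _ _ f hT' hf =>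
    hmax T' (e ≫ j) f hT' (by rw [← Category.assoc, hf, htN])⟩ fun g w => (cancel_mono j).mp (by
      rw [MonObj.mul_comp, MonObj.mul_comp, Category.assoc, htN]; exact hcen _ _)
  haveI := hnil
  have hsurj : Function.Surjective ((QuotientGroup.mk' (Subgroup.center (Pt G))).comp (ptsMap j)) := fun q => by
    obtain ⟨g, rfl⟩ := QuotientGroup.mk'_surjective _ q
    obtain ⟨n, z, hnz⟩ := hmul g
    refine ⟨n, ?_⟩
    show QuotientGroup.mk' (Subgroup.center (Pt G)) (n ≫ j) = QuotientGroup.mk' (Subgroup.center (Pt G)) g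
    rw [← hnz, map_mul, show QuotientGroup.mk' (Subgroup.center (Pt G)) (z ≫ κ) = 1 from
      (QuotientGroup.eq_one_iff _).mpr (Subgroup.mem_center_iff.mpr fun x => (hcenK z x).symm), _root_.mul_one]
  haveI := nilpotent_of_surjective _ hsurj
  exact Subgroup.isNilpotent_of_ker_le_center (QuotientGroup.mk' (Subgroup.center (Pt G)))
    (QuotientGroup.ker_mk' _).le

/-- **Tori of a connected group with nilpotent points are central.** -/
theorem torus_central_of_nilpotent [Group.IsNilpotent (Pt G)] {T : Over (Spec (CommRingCat.of k))} [GrpObj T]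
    {i : T ⟶ G} (hi : AGF.IsMaxTorus i) (g : Pt G) (w : Pt T) : g * (w ≫ i) = (w ≫ i) * g := by
  obtain ⟨N, gN, j, K, gK, κ, hj, hjc, hNs, hNc, hNa, hκ, hKs, hKq, hKc, -, hcenK, hmul, hlift, -⟩ :=
    exists_affine_mul_central (G := G)
  haveI := hj; haveI := hjc; haveI := hNs; haveI := hNc; haveI := hNa; haveI := hκ
  haveI : Mono j := (Over.forget _).mono_of_mono_map (inferInstanceAs (Mono j.left))
  obtain ⟨him, himo, hT, hmax⟩ := id hi
  haveI := him; haveI := himo
  obtain ⟨hTa, hTl, hTs, hTc⟩ := Deform.TorusBasic.props hT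
  haveI := hTa; haveI := hTs; haveI := hTc
  obtain ⟨tN, htN⟩ := hlift T i
  haveI : IsMonHom tN := Deform.isMonHom_of_comp tN j (i := i) htN
  haveI : Mono (tN ≫ j) := by rw [htN]; infer_instance
  haveI : Mono tN := mono_of_mono tN j
  haveI : Group.IsNilpotent (Pt N) := Subgroup.isNilpotent_of_ker_le_center (ptsMap j) (by
    rw [(MonoidHom.ker_eq_bot_iff _).mpr fun u v h => (cancel_mono j).mp h]
    exact bot_le)
  obtain ⟨n, z, hnz⟩ := hmul g
  have h1 := congrArg (· ≫ j) (central_of_nilpotent N tN ⟨inferInstance, inferInstance, hT, fun T' _ e _ _ f hT' hf =>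
    hmax T' (e ≫ j) f hT' (by rw [← Category.assoc, hf, htN])⟩ n w)
  simp only [MonObj.mul_comp, Category.assoc, htN] at h1
  rw [← hnz, _root_.mul_assoc, hcenK z (w ≫ i), ← _root_.mul_assoc, h1, _root_.mul_assoc]

/-- A torus normalised by every point is central. -/
theorem torus_central_of_normal {T : Over (Spec (CommRingCat.of k))} [GrpObj T] (hT : Red.IsTorus T) (i : T ⟶ G)
    [IsMonHom i] [Mono i] (hn : ∀ (g : Pt G) (t : Pt T), ∃ t' : Pt T, t' ≫ i = g * (t ≫ i) * g⁻¹)
    (g : Pt G) (w : Pt T) : g * (w ≫ i) = (w ≫ i) * g := by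
  obtain ⟨N, gN, j, K, gK, κ, hj, hjc, hNs, hNc, hNa, hκ, hKs, hKq, hKc, -, hcenK, hmul, hlift, -⟩ :=
    exists_affine_mul_central (G := G)
  haveI := hj; haveI := hjc; haveI := hNs; haveI := hNc; haveI := hNa; haveI := hκ
  haveI : Mono j := (Over.forget _).mono_of_mono_map (inferInstanceAs (Mono j.left))
  obtain ⟨hTa, hTl, hTs, hTc⟩ := Deform.TorusBasic.props hT
  haveI := hTa; haveI := hTs; haveI := hTc
  obtain ⟨tN, htN⟩ := hlift T i
  haveI : IsMonHom tN := Deform.isMonHom_of_comp tN j (i := i) htN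
  haveI : Mono (tN ≫ j) := by rw [htN]; infer_instance
  haveI : Mono tN := mono_of_mono tN j
  obtain ⟨n, z, hnz⟩ := hmul g
  have h1 := congrArg (· ≫ j) (comm_of_normal N hT tN (fun m t => by
    obtain ⟨t', ht'⟩ := hn (m ≫ j) t
    refine ⟨t', (cancel_mono j).mp ?_⟩
    simp only [MonObj.mul_comp, GrpObj.inv_comp, Category.assoc, htN]
    exact ht') n w)
  simp only [MonObj.mul_comp, Category.assoc, htN] at h1
  rw [← hnz, _root_.mul_assoc, hcenK z (w ≫ i), ← _root_.mul_assoc, h1, _root_.mul_assoc]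

set_option maxHeartbeats 1000000 in
/-- **Every torus is central as soon as one maximal torus is.** -/
theorem torus_central_of_maxTorus {T₀ : Over (Spec (CommRingCat.of k))} [GrpObj T₀] {i₀ : T₀ ⟶ G}
    (hi : AGF.IsMaxTorus i₀) (hcen : ∀ (g : Pt G) (w : Pt T₀), g * (w ≫ i₀) = (w ≫ i₀) * g)
    {T : Over (Spec (CommRingCat.of k))} [GrpObj T] (hT : Red.IsTorus T) (i : T ⟶ G) [IsMonHom i] [Mono i]
    (g : Pt G) (w : Pt T) : g * (w ≫ i) = (w ≫ i) * g := by
  obtain ⟨Tu, gTu, tu, hu⟩ := exists_univTorus G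
  obtain ⟨hum, huc, hTu, huniv⟩ := id hu
  haveI := hum; haveI := huc; haveI := hi.1; haveI := hi.2.1
  obtain ⟨g₁, f₁, -, hf₁⟩ := hu.conj_of_max i₀ (h₁ := hi.2.2.1) (hmax := hi.2.2.2)
  obtain ⟨g₂, f₂, -, hf₂⟩ := huniv T i hT
  have hc : ∀ (g : Pt G) (v : Pt Tu), g * (v ≫ tu) = (v ≫ tu) * g := fun g v => by
    have h1 : v ≫ tu = g₁ * ((v ≫ f₁.inv) ≫ i₀) * g₁⁻¹ := by
      rw [← pt_conj, Category.assoc, comp_conj, ← hf₁, Category.assoc, Iso.inv_hom_id_assoc]
    rw [h1, hcen g₁ (v ≫ f₁.inv), mul_inv_cancel_right, hcen g (v ≫ f₁.inv)]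
  have h2 : (w ≫ f₂) ≫ tu = g₂ * (w ≫ i) * g₂⁻¹ := by
    rw [Category.assoc, hf₂, ← comp_conj, ← Category.assoc, pt_conj]
  have h3 : w ≫ i = (w ≫ f₂) ≫ tu := by
    calc w ≫ i = g₂⁻¹ * ((w ≫ f₂) ≫ tu) * g₂ := by rw [h2]; group
      _ = (w ≫ f₂) ≫ tu := by rw [hc g₂⁻¹ (w ≫ f₂), inv_mul_cancel_right]
  rw [h3, hc]

end

end Groth.Agent.Deform.Borel
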