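import Groth.Agent.S5429
import Groth.Agent.UnipExt.Trigonal
import Groth.Agent.UnipExt.Main
import Groth.Agent.Deform.UnipDiag
import Groth.Agent.UnipCrit.Crit
import Groth.Agent.UnipComp.Max
import Groth.Agent.MultTypeLib.HopfKer
import Groth.Agent.ComodLib.Rosenlicht
import Mathlib.RingTheory.Bialgebra.MonoidAlgebra

/-!
# The torus of a trigonalisable group, in Hopf form
-/

universe u

open WithConv

set_option linter.style.haveILetI false
set_option linter.unusedSectionVars false

namespace Groth.Agent.Deform.Borel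

variable {k : Type u} [Field k]

/-- The kernel of a surjection of group algebras. -/
theorem ker_mapDomain_le {M M' : Type u} [CommGroup M] [CommGroup M'] (θ : M →* M') (hθ : Function.Surjective θ)
    (I : Ideal (MonoidAlgebra k M)) (hI : ∀ n : θ.ker, MonoidAlgebra.single (n : M) (1 : k) - 1 ∈ I) :
    RingHom.ker (MonoidAlgebra.mapDomainBialgHom k θ : MonoidAlgebra k M →+* MonoidAlgebra k M') ≤ I := by
  classical
  let q : MonoidAlgebra k M →ₐ[k] MonoidAlgebra k M ⧸ I := Ideal.Quotient.mkₐ k I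
  let s : M' → M := fun m => (hθ m).choose
  have hs : ∀ m, θ (s m) = m := fun m => (hθ m).choose_spec
  have hwd : ∀ a b : M, θ a = θ b → q (MonoidAlgebra.single a 1) = q (MonoidAlgebra.single b 1) := by
    intro a b h
    have hn : a * b⁻¹ ∈ θ.ker := by rw [MonoidHom.mem_ker, map_mul, map_inv, h, mul_inv_cancel]
    have h1 : q (MonoidAlgebra.single (a * b⁻¹) 1) = 1 := by
      rw [← map_one q]
      exact Ideal.Quotient.eq.mpr (hI ⟨_, hn⟩)
    calc q (MonoidAlgebra.single a 1)
        = q (MonoidAlgebra.single (a * b⁻¹) 1 * MonoidAlgebra.single b 1) := by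
          rw [MonoidAlgebra.single_mul_single, inv_mul_cancel_right, mul_one]
      _ = q (MonoidAlgebra.single b 1) := by rw [map_mul, h1, one_mul]
  let ν : M' →* MonoidAlgebra k M ⧸ I :=
    { toFun := fun m => q (MonoidAlgebra.single (s m) 1)
      map_one' := by
        rw [hwd (s 1) 1 (by rw [hs, map_one]), ← MonoidAlgebra.one_def, map_one]
      map_mul' := fun a b => by
        rw [← map_mul, MonoidAlgebra.single_mul_single, mul_one]
        exact hwd _ _ (by rw [hs, map_mul, hs, hs]) }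
  let L := MonoidAlgebra.lift k (MonoidAlgebra k M ⧸ I) M' ν
  intro x hx
  have e : ∀ y, L (MonoidAlgebra.mapDomainBialgHom k θ y) = q y := by
    intro y
    induction y using MonoidAlgebra.induction_linear with
    | zero => simp
    | add p r hp hr => rw [map_add, map_add, map_add, hp, hr]
    | single m c =>
      rw [MonoidAlgebra.mapDomainBialgHom_single, MonoidAlgebra.lift_single]
      show c • q (MonoidAlgebra.single (s (θ m)) 1) = _
      rw [hwd (s (θ m)) m (hs _), ← map_smul, MonoidAlgebra.smul_single, smul_eq_mul, mul_one]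
  have h := e x
  rw [show MonoidAlgebra.mapDomainBialgHom k θ x = 0 from hx, map_zero] at h
  exact Ideal.Quotient.eq_zero_iff_mem.mp h.symm

set_option maxHeartbeats 1000000 in
/-- **The torus of a connected trigonalisable group and conjugacy of tori into it.** -/
theorem exists_torus_hopf [IsAlgClosed k] (A : Type u) [CommRing A] [HopfAlgebra k A] [Algebra.FiniteType k A]
    [IsDomain A] (hT : HopfRep.IsTrigonalizable k A) :
    ∃ (M : Type u) (_ : CommGroup M) (r : A →ₐc[k] MonoidAlgebra k M) (ψ : MonoidAlgebra k M →ₐc[k] A),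
      (∀ b, r (ψ b) = b) ∧ Function.Surjective r ∧ Group.FG M ∧ IsDomain (MonoidAlgebra k M) ∧
      (∃ (J : Ideal A) (_ : J.IsHopfIdeal k), J = Ideal.map (ψ : MonoidAlgebra k M →+* A)
        (RingHom.ker (Bialgebra.counitAlgHom k (MonoidAlgebra k M))) ∧ HopfRep.IsUnipotent k (A ⧸ J)) ∧
      ∀ (M' : Type u) [CommGroup M'] [IsReduced (MonoidAlgebra k M')]
        (f : A →ₐc[k] MonoidAlgebra k M'), Group.FG M' → Function.Surjective f →
        ∃ (u : A →ₐ[k] k) (φ : MonoidAlgebra k M →ₐc[k] MonoidAlgebra k M'),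
          toConv (f : A →ₐ[k] MonoidAlgebra k M') =
            toConv ((Algebra.ofId k (MonoidAlgebra k M')).comp u) *
              toConv ((φ.comp r : A →ₐc[k] MonoidAlgebra k M') : A →ₐ[k] MonoidAlgebra k M') *
              (toConv ((Algebra.ofId k (MonoidAlgebra k M')).comp u))⁻¹ := by
  classical
  obtain ⟨D, _, _, ψD, J, hJi, hψD, hD, hJ, hU⟩ := UnipExt.trigonal_iff.mp hT
  haveI := hJi
  obtain ⟨rD, hrD⟩ := UnipExt.exists_bialg_retraction hD ψD hψD J hJ hU
  obtain ⟨M, _, ⟨eM⟩⟩ := UnipComp.isDiag_of_span (K := k) (Q := D) fun x =>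
    (show Submodule.span k {g : D | IsGroupLikeElem k g} = ⊤ from hD) ▸ Submodule.mem_top
  let r : A →ₐc[k] MonoidAlgebra k M := (eM : D →ₐc[k] MonoidAlgebra k M).comp rD
  let ψ : MonoidAlgebra k M →ₐc[k] A := ψD.comp (eM.symm : MonoidAlgebra k M →ₐc[k] D)
  have hrψ : ∀ b, r (ψ b) = b := fun b => by
    show eM (rD (ψD (eM.symm b))) = b
    rw [show rD (ψD (eM.symm b)) = eM.symm b from DFunLike.congr_fun hrD _]
    exact eM.apply_symm_apply b
  have hrs : Function.Surjective r := fun b => ⟨ψ b, hrψ b⟩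
  haveI hftB : Algebra.FiniteType k (MonoidAlgebra k M) :=
    Algebra.FiniteType.of_surjective (r : A →ₐ[k] MonoidAlgebra k M) hrs
  haveI : IsDomain (MonoidAlgebra k M) := Function.Injective.isDomain (ψ : MonoidAlgebra k M →+* A)
    fun a b h => by rw [← hrψ a, ← hrψ b]; exact congrArg r h
  haveI : Group.FG M := MonoidAlgebra.finiteType_iff_group_fg.mp hftB
  have hJψ : J = Ideal.map (ψ : MonoidAlgebra k M →+* A)
      (RingHom.ker (Bialgebra.counitAlgHom k (MonoidAlgebra k M))) := by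
    rw [hJ]
    refine le_antisymm (Ideal.map_le_iff_le_comap.mpr fun d hd => ?_) (Ideal.map_le_iff_le_comap.mpr fun b hb => ?_)
    · have : ψD d = ψ (eM d) := (congrArg ψD (eM.symm_apply_apply d)).symm
      show ψD d ∈ Ideal.map (ψ : MonoidAlgebra k M →+* A) (RingHom.ker (Bialgebra.counitAlgHom k (MonoidAlgebra k M)))
      rw [this]
      exact Ideal.mem_map_of_mem _ ((CoalgHomClass.counit_comp_apply eM d).trans hd)
    · exact Ideal.mem_map_of_mem _ ((CoalgHomClass.counit_comp_apply eM.symm b).trans hb)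
  refine ⟨M, inferInstance, r, ψ, hrψ, hrs, inferInstance, inferInstance, ⟨J, hJi, hJψ, hU⟩, fun M' _ _ f hfg hf => ?_⟩
  let φ₀ := f.comp ψ
  have hgl : ∀ m : M, ∃ m' : M', φ₀ (MonoidAlgebra.single m 1) = MonoidAlgebra.single m' 1 := fun m => by
    obtain ⟨m', hm'⟩ := MonoidAlgebra.isGroupLikeElem_iff_mem_range_single_one.mp
      ((MonoidAlgebra.isGroupLikeElem_single_one (R := k) (A := k) m).map φ₀)
    exact ⟨m', hm'.symm⟩
  choose θ₀ hθ₀ using hgl
  let θ : M →* M' :=
    { toFun := θ₀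
      map_one' := MonoidAlgebra.single_left_injective (R := k) one_ne_zero (by
        show MonoidAlgebra.single (θ₀ 1) 1 = MonoidAlgebra.single (1 : M') 1
        rw [← hθ₀, ← MonoidAlgebra.one_def, map_one]
        exact MonoidAlgebra.one_def)
      map_mul' := fun a b => MonoidAlgebra.single_left_injective (R := k) one_ne_zero (by
        show MonoidAlgebra.single (θ₀ (a * b)) 1 = MonoidAlgebra.single (θ₀ a * θ₀ b) 1
        rw [← hθ₀, show MonoidAlgebra.single (a * b) (1 : k) = MonoidAlgebra.single a 1 * MonoidAlgebra.single b 1 by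
          rw [MonoidAlgebra.single_mul_single, mul_one], map_mul, hθ₀, hθ₀, MonoidAlgebra.single_mul_single,
          mul_one]) }
  have hφ : ∀ b, φ₀ b = MonoidAlgebra.mapDomainBialgHom k θ b := by
    intro b
    induction b using MonoidAlgebra.induction_linear with
    | zero => simp
    | add p q hp hq => rw [map_add, map_add, hp, hq]
    | single m c =>
      rw [show MonoidAlgebra.single m c = c • MonoidAlgebra.single m (1 : k) by simp, map_smul, map_smul, hθ₀,
        MonoidAlgebra.mapDomainBialgHom_single]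
      rfl
  have hθ : Function.Surjective θ := by
    intro m'
    rw [← θ.mem_range]
    let pq : MonoidAlgebra k M' →ₐc[k] MonoidAlgebra k (M' ⧸ θ.range) :=
      MonoidAlgebra.mapDomainBialgHom k (QuotientGroup.mk' θ.range)
    have hkill : ∀ a ∈ J, pq (f a) = 0 := by
      intro a ha
      rw [hJψ] at ha
      refine (Ideal.map_le_iff_le_comap.mpr fun b hb => ?_ :
        _ ≤ RingHom.ker ((pq.comp f : A →ₐc[k] MonoidAlgebra k (M' ⧸ θ.range)) : A →+* MonoidAlgebra k (M' ⧸ θ.range))) ha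
      show pq (f (ψ b)) = 0
      rw [show f (ψ b) = φ₀ b from rfl, hφ, MonoidAlgebra.mapDomainBialgHom_mapDomainBialgHom]
      have : ((QuotientGroup.mk' θ.range).comp θ) = 1 := MonoidHom.ext fun m =>
        (QuotientGroup.eq_one_iff _).mpr ⟨m, rfl⟩
      rw [this]
      have e : ∀ y : MonoidAlgebra k M, MonoidAlgebra.mapDomainBialgHom k (1 : M →* M' ⧸ θ.range) y =
          algebraMap k _ (Coalgebra.counit (R := k) y) := by
        intro y
        induction y using MonoidAlgebra.induction_linear with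
        | zero => simp
        | add p q hp hq => rw [map_add, map_add, map_add, hp, hq]
        | single m c => simp [MonoidAlgebra.mapDomainBialgHom_single]
      rw [e, show Coalgebra.counit (R := k) b = 0 from hb, map_zero]
    obtain ⟨g, hg⟩ := UnipExt.exists_factor (Bialgebra.Quotient.mkBialgHom J : A →ₐc[k] A ⧸ J) Ideal.Quotient.mk_surjective
      (pq.comp f) fun a ha => hkill a (Ideal.Quotient.eq_zero_iff_mem.mp ha)
    obtain ⟨a, ha⟩ := hf (MonoidAlgebra.single m' 1)
    have h1 := UnipDiag.eq_counit hU g ((Bialgebra.Quotient.mkBialgHom J : A →ₐc[k] A ⧸ J) a)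
    rw [hg] at h1
    change pq (f a) = _ at h1
    rw [ha, MonoidAlgebra.mapDomainBialgHom_single] at h1
    by_contra hm
    have hne : QuotientGroup.mk' θ.range m' ≠ 1 := fun h => hm ((QuotientGroup.eq_one_iff m').mp h)
    have h2 := congrArg (fun y : MonoidAlgebra k (M' ⧸ θ.range) => y.coeff (QuotientGroup.mk' θ.range m')) h1
    have hne' : (m' : M' ⧸ θ.range) ≠ 1 := hne
    simp [Ne.symm hne', hne'] at h2
  -- the preimage of the image torus
  let ι : MonoidAlgebra k θ.ker →ₐc[k] A :=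
    ψ.comp (MonoidAlgebra.mapDomainBialgHom k θ.ker.subtype)
  let I : Ideal A := Ideal.map ι (RingHom.ker (Bialgebra.counitAlgHom k (MonoidAlgebra k θ.ker)))
  haveI hIh : I.IsHopfIdeal k := MultTypeLib.isHopfIdeal_map_ker ι
  have hn : ∀ n : θ.ker, ψ (MonoidAlgebra.single (n : M) 1 - 1) ∈ I := by
    intro n
    have : ψ (MonoidAlgebra.single (n : M) 1 - 1) = ι (MonoidAlgebra.single n 1 - 1) := by
      show _ = ψ (MonoidAlgebra.mapDomainBialgHom k θ.ker.subtype _)
      rw [map_sub, map_sub, map_sub, MonoidAlgebra.mapDomainBialgHom_single, map_one, map_one]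
      simp
    rw [this]
    refine Ideal.mem_map_of_mem ι ?_
    rw [RingHom.mem_ker, map_sub, map_one]
    simp
  have hIle : ∀ b, MonoidAlgebra.mapDomainBialgHom k θ b = 0 → ψ b ∈ I := fun b hb =>
    ker_mapDomain_le θ hθ (I.comap (ψ : MonoidAlgebra k M →+* A)) hn hb
  let π : A →ₐc[k] A ⧸ I := Bialgebra.Quotient.mkBialgHom I
  have hmd : Function.Surjective (MonoidAlgebra.mapDomainBialgHom k θ) := by
    intro y
    induction y using MonoidAlgebra.induction_linear with
    | zero => exact ⟨0, map_zero _⟩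
    | add p q hp hq => obtain ⟨p', rfl⟩ := hp; obtain ⟨q', rfl⟩ := hq; exact ⟨p' + q', map_add _ _ _⟩
    | single m c =>
      obtain ⟨m₀, rfl⟩ := hθ m
      exact ⟨MonoidAlgebra.single m₀ c, MonoidAlgebra.mapDomainBialgHom_single _ _ _⟩
  obtain ⟨ψ', hψ'⟩ := UnipExt.exists_factor (MonoidAlgebra.mapDomainBialgHom k θ) hmd (π.comp ψ)
    fun b hb => (Ideal.Quotient.eq_zero_iff_mem.mpr (hIle b hb) : π (ψ b) = 0)
  have hι : ∀ (g : A →ₐc[k] MonoidAlgebra k M'), (∀ b, g (ψ b) = MonoidAlgebra.mapDomainBialgHom k θ b) →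
      ∀ a ∈ I, g a = 0 := by
    intro g hg a ha
    refine (Ideal.map_le_iff_le_comap.mpr fun b hb => ?_ : I ≤ RingHom.ker (g : A →+* MonoidAlgebra k M')) ha
    show g (ψ (MonoidAlgebra.mapDomainBialgHom k θ.ker.subtype b)) = 0
    rw [hg, MonoidAlgebra.mapDomainBialgHom_mapDomainBialgHom, show θ.comp θ.ker.subtype = 1 from
      MonoidHom.ext fun n => n.2]
    have e : ∀ y : MonoidAlgebra k θ.ker, MonoidAlgebra.mapDomainBialgHom k (1 : θ.ker →* M') y =
        algebraMap k _ (Coalgebra.counit (R := k) y) := by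
      intro y
      induction y using MonoidAlgebra.induction_linear with
      | zero => simp
      | add p q hp hq => rw [map_add, map_add, map_add, hp, hq]
      | single m c => simp [MonoidAlgebra.mapDomainBialgHom_single]
    rw [e, show Coalgebra.counit (R := k) b = 0 from hb, map_zero]
  let g₀ : A →ₐc[k] MonoidAlgebra k M' := (MonoidAlgebra.mapDomainBialgHom k θ).comp r
  have hg₀ψ : ∀ b, g₀ (ψ b) = MonoidAlgebra.mapDomainBialgHom k θ b := fun b => congrArg (fun z => MonoidAlgebra.mapDomainBialgHom k θ z) (hrψ b)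
  obtain ⟨r', hr'⟩ := UnipExt.exists_factor π Ideal.Quotient.mk_surjective g₀
    fun a ha => hι g₀ hg₀ψ a (Ideal.Quotient.eq_zero_iff_mem.mp ha)
  obtain ⟨r'', hr''⟩ := UnipExt.exists_factor π Ideal.Quotient.mk_surjective f
    fun a ha => hι f (fun b => hφ b) a (Ideal.Quotient.eq_zero_iff_mem.mp ha)
  have hψ'ψ : ∀ b, ψ' (MonoidAlgebra.mapDomainBialgHom k θ b) = π (ψ b) := hψ'
  have hsec : ∀ (g : A ⧸ I →ₐc[k] MonoidAlgebra k M') (g' : A →ₐc[k] MonoidAlgebra k M'),
      (∀ a, g (π a) = g' a) → (∀ b, g' (ψ b) = MonoidAlgebra.mapDomainBialgHom k θ b) → ∀ y, g (ψ' y) = y := by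
    intro g g' hg hg' y
    obtain ⟨b, rfl⟩ := hmd y
    rw [hψ'ψ, hg, hg']
  have hs' : ∀ y, r' (ψ' y) = y := hsec r' g₀ hr' hg₀ψ
  have hs'' : ∀ y, r'' (ψ' y) = y := hsec r'' f hr'' fun b => hφ b
  let J' : Ideal (A ⧸ I) := Ideal.map ψ' (RingHom.ker (Bialgebra.counitAlgHom k (MonoidAlgebra k M')))
  haveI : J'.IsHopfIdeal k := MultTypeLib.isHopfIdeal_map_ker ψ'
  obtain ⟨π', hπ'⟩ := UnipExt.exists_factor (Bialgebra.Quotient.mkBialgHom J : A →ₐc[k] A ⧸ J) Ideal.Quotient.mk_surjective
    ((Bialgebra.Quotient.mkBialgHom J').comp π) fun a ha => by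
      refine Ideal.Quotient.eq_zero_iff_mem.mpr ?_
      have haJ : a ∈ J := Ideal.Quotient.eq_zero_iff_mem.mp ha
      rw [hJψ] at haJ
      refine (Ideal.map_le_iff_le_comap.mpr fun b hb => ?_ : _ ≤ J'.comap (π : A →+* A ⧸ I)) haJ
      show π (ψ b) ∈ J'
      rw [← hψ'ψ]
      exact Ideal.mem_map_of_mem _ (((CoalgHomClass.counit_comp_apply (MonoidAlgebra.mapDomainBialgHom k θ) b).trans hb) : Coalgebra.counit (R := k) (MonoidAlgebra.mapDomainBialgHom k θ b) = 0)
  have hπ's : Function.Surjective π' := fun y => by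
    obtain ⟨z, rfl⟩ := Ideal.Quotient.mk_surjective y
    obtain ⟨a, rfl⟩ := Ideal.Quotient.mk_surjective z
    exact ⟨Bialgebra.Quotient.mkBialgHom J a, hπ' a⟩
  haveI : Algebra.FiniteType k (A ⧸ I) := Algebra.FiniteType.of_surjective (π : A →ₐ[k] A ⧸ I) Ideal.Quotient.mk_surjective
  haveI : Algebra.FiniteType k (MonoidAlgebra k M') := by
    haveI := hfg
    exact MonoidAlgebra.finiteType_iff_group_fg.mpr inferInstance
  obtain ⟨u, -, hu⟩ := S5429.result k (A ⧸ I) (MonoidAlgebra k M') ⟨M', inferInstance, ⟨BialgEquiv.refl k _⟩⟩ ψ'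
    (fun a b h => by rw [← hs' a, ← hs' b, h]) J' rfl (UnipCrit.isUnipotent_of_surjective π' hπ's hU)
    (Or.inl inferInstance) r' r'' (DFunLike.ext _ _ hs') (DFunLike.ext _ _ hs'')
  rw [HopfPtLib.conv3_eq] at hu
  have hu' : toConv (r'' : A ⧸ I →ₐ[k] MonoidAlgebra k M') =
      toConv ((Algebra.ofId k (MonoidAlgebra k M')).comp u) * toConv (r' : A ⧸ I →ₐ[k] MonoidAlgebra k M') *
        (toConv ((Algebra.ofId k (MonoidAlgebra k M')).comp u))⁻¹ := congrArg toConv hu
  refine ⟨u.comp (π : A →ₐ[k] A ⧸ I), MonoidAlgebra.mapDomainBialgHom k θ, ?_⟩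
  let Φ : WithConv (A ⧸ I →ₐ[k] MonoidAlgebra k M') →* WithConv (A →ₐ[k] MonoidAlgebra k M') :=
    { toFun := fun g => toConv (g.ofConv.comp (π : A →ₐ[k] A ⧸ I))
      map_one' := by
        refine WithConv.ext (AlgHom.ext fun a => ?_)
        show algebraMap k _ (Coalgebra.counit (R := k) (π a)) = algebraMap k _ (Coalgebra.counit (R := k) a)
        rw [CoalgHomClass.counit_comp_apply π a]
      map_mul' := fun a b => congrArg toConv (AlgHom.convMul_comp_bialgHom_distrib a b π) }
  have h := congrArg Φ hu'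
  rw [map_mul, map_mul, map_inv] at h
  have e1 : Φ (toConv (r'' : A ⧸ I →ₐ[k] MonoidAlgebra k M')) = toConv (f : A →ₐ[k] MonoidAlgebra k M') :=
    congrArg toConv (AlgHom.ext hr'')
  have e2 : Φ (toConv (r' : A ⧸ I →ₐ[k] MonoidAlgebra k M')) = toConv (g₀ : A →ₐ[k] MonoidAlgebra k M') :=
    congrArg toConv (AlgHom.ext hr')
  rw [e1, e2] at h
  exact h

end Groth.Agent.Deform.Borel
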