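import Groth.Agent.Deform.Borel.Nilpotent
import Groth.Agent.GrpSchLib.LineVec
import Mathlib.FieldTheory.IsSepClosed
import Mathlib.RingTheory.RootsOfUnity.AlgebraicallyClosed

/-!
# Torsion elements of a torus with the same centraliser as the torus
-/

universe u

open CategoryTheory CategoryTheory.Limits MonoidalCategory CartesianMonoidalCategory MonObj GrpObj AlgebraicGeometry
open WithConv

attribute [local instance] CategoryTheory.Hom.monoid CategoryTheory.Hom.group
set_option linter.style.haveILetI false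
set_option linter.unusedSectionVars false

namespace Groth.Agent.Deform.Borel

open Chev (Pt pimg)
open Agent.GrpSchLib.Kunneth (Fn ev evPt evPt_comp IsRepMatrix)
open Agent.GrpSchLib.AffineHopf (sp spMap)
open scoped commutatorElement

noncomputable section

variable {k : Type u} [Field k] [IsAlgClosed k]

/-- A torsion character of a lattice separating finitely many elements. -/
theorem exists_sep_char {r : ℕ} (S : Finset (Fin r → ℤ)) :
    ∃ (N : ℕ) (χ : Multiplicative (Fin r → ℤ) →* kˣ), (N : k) ≠ 0 ∧ (∀ a, χ a ^ N = 1) ∧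
      ∀ a ∈ S, ∀ b ∈ S, χ (Multiplicative.ofAdd a) = χ (Multiplicative.ofAdd b) → a = b := by
  classical
  let D : Finset (Fin r → ℤ) := ((S ×ˢ S).image fun p => p.1 - p.2).filter (· ≠ 0)
  let P : (Fin r → ℤ) → Polynomial ℤ := fun d => ∑ i : Fin r, Polynomial.C (d i) * Polynomial.X ^ (i : ℕ)
  have hP : ∀ d ∈ D, P d ≠ 0 := fun d hd h => by
    refine (Finset.mem_filter.mp hd).2 (funext fun i => ?_)
    have := congrArg (fun f => Polynomial.coeff f (i : ℕ)) h
    simpa [P, Polynomial.finset_sum_coeff, Fin.val_inj] using this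
  obtain ⟨N₀, hN₀⟩ := Infinite.exists_notMem_finset (D.biUnion fun d => (P d).roots.toFinset)
  let E : (Fin r → ℤ) → ℤ := fun d => (P d).eval N₀
  have hE : ∀ d ∈ D, E d ≠ 0 := fun d hd h => hN₀ (Finset.mem_biUnion.mpr
    ⟨d, hd, Multiset.mem_toFinset.mpr ((Polynomial.mem_roots (hP d hd)).mpr h)⟩)
  obtain ⟨q, hq, hqp⟩ := Nat.exists_infinite_primes (D.sup (fun d => (E d).natAbs) + ringChar k + 1)
  have hqk : (q : k) ≠ 0 := fun h => by
    have h1 := (ringChar.spec k q).mp h
    rcases (Nat.dvd_prime hqp).mp h1 with h2 | h2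
    · exact CharP.ringChar_ne_one h2
    · omega
  haveI : NeZero (q : k) := ⟨hqk⟩
  haveI : NeZero q := ⟨hqp.ne_zero⟩
  obtain ⟨ζ, hζ⟩ := HasEnoughRootsOfUnity.exists_primitiveRoot k q
  let u : kˣ := (hζ.isUnit hqp.ne_zero).unit
  have hu : IsPrimitiveRoot u q := IsPrimitiveRoot.coe_units_iff.mp hζ
  have hadd : ∀ a b, E (a + b) = E a + E b := fun a b => by
    simp [E, P, Polynomial.eval_finset_sum, add_mul, Finset.sum_add_distrib]
  let χ : Multiplicative (Fin r → ℤ) →* kˣ :=
    { toFun := fun a => u ^ E (Multiplicative.toAdd a)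
      map_one' := by
        rw [toAdd_one, show E 0 = 0 by simp [E, P, Polynomial.eval_finset_sum], zpow_zero]
      map_mul' := fun a b => by rw [toAdd_mul, hadd, zpow_add] }
  refine ⟨q, χ, hqk, fun a => ?_, fun a ha b hb h => by_contra fun hne => ?_⟩
  · show (u ^ E _) ^ q = 1
    rw [← zpow_natCast, ← zpow_mul, mul_comm, zpow_mul, zpow_natCast, hu.pow_eq_one, one_zpow]
  · have hd : a - b ∈ D := Finset.mem_filter.mpr
      ⟨Finset.mem_image.mpr ⟨(a, b), Finset.mem_product.mpr ⟨ha, hb⟩, rfl⟩, sub_ne_zero.mpr hne⟩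
    have h1 : u ^ E (a - b) = 1 := by
      have h2 : u ^ E a = u ^ E b := h
      rw [show E (a - b) = E a - E b by rw [eq_sub_iff_add_eq, ← hadd, sub_add_cancel], zpow_sub, h2, mul_inv_cancel]
    have h3 := (hu.zpow_eq_one_iff_dvd _).mp h1
    have h4 : (E (a - b)).natAbs < q := by
      have := Finset.le_sup (f := fun d => (E d).natAbs) hd
      omega
    exact hE _ hd (Int.eq_zero_of_dvd_of_natAbs_lt_natAbs h3 (by simpa using h4))

/-- Characters on finitely many monomials are separated by the powers of one torsion point. -/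
theorem exists_sep_algHom {M : Type u} [CommGroup M] {r : ℕ} (c : M ≃* Multiplicative (Fin r → ℤ))
    (S : Finset M) :
    ∃ (N : ℕ) (χ : M →* k), (N : k) ≠ 0 ∧ (∀ m, χ m ^ N = 1) ∧
      ∀ f : MonoidAlgebra k M, f.coeff.support ⊆ S → (∀ j : ℕ, f.coeff.sum (fun m a => a * χ m ^ j) = 0) → f = 0 := by
  classical
  obtain ⟨N, χ, hN, hχN, hinj⟩ := exists_sep_char (k := k) (S.image fun m => Multiplicative.toAdd (c m))
  let χ' : M →* k := (Units.coeHom k).comp (χ.comp c.toMonoidHom)
  refine ⟨N, χ', hN, fun m => ?_, fun f hf h => ?_⟩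
  · show ((χ (c m) : kˣ) : k) ^ N = 1
    rw [← Units.val_pow_eq_pow_val, hχN, Units.val_one]
  have hinj' : Set.InjOn χ' (S : Set M) := fun a ha b hb e => c.injective (Multiplicative.toAdd.injective
    (hinj _ (Finset.mem_image_of_mem _ ha) _ (Finset.mem_image_of_mem _ hb) (Units.ext e)))
  let φ : S → (Multiplicative ℕ →* k) := fun m => powersHom k (χ' m)
  have hφ : Function.Injective φ := fun a b e => Subtype.ext (hinj' a.2 b.2 (by
    have := DFunLike.congr_fun e (Multiplicative.ofAdd 1)
    simpa [φ] using this))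
  have hli := (linearIndependent_monoidHom (Multiplicative ℕ) k).comp φ hφ
  rw [Fintype.linearIndependent_iff] at hli
  have h0 := hli (fun m => f.coeff m) (funext fun j => by
    rw [Finset.sum_apply, Pi.zero_apply, ← h (Multiplicative.toAdd j),
      Finsupp.sum_of_support_subset _ hf (fun m a => a * χ' m ^ (Multiplicative.toAdd j)) (fun _ _ => zero_mul _),
      ← Finset.sum_coe_sort S]
    rfl)
  refine MonoidAlgebra.ext (Finsupp.ext fun m => ?_)
  by_cases hm : m ∈ S
  · exact h0 ⟨m, hm⟩
  · exact Finsupp.notMem_support_iff.mp fun hm' => hm (hf hm')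

/-- Functions on a torus in a finite set are detected, up to linear combination, by the powers of one torsion point. -/
theorem exists_sep_pt (T : Over (Spec (CommRingCat.of k))) [GrpObj T] (hT : Red.IsTorus T) (F : Finset (Fn T)) :
    ∃ (N : ℕ) (t : Pt T), (N : k) ≠ 0 ∧ t ^ N = 1 ∧
      ∀ f ∈ Submodule.span k (F : Set (Fn T)), (∀ j : ℕ, evPt (t ^ j) f = 0) → f = 0 := by
  classical
  obtain ⟨hTa, hTl, hTs, hTc⟩ := Deform.TorusBasic.props hT
  haveI := hTa; haveI := hTl; haveI := hTs; haveI := hTc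
  obtain ⟨M, _, hfg, ⟨eT⟩⟩ := Deform.exists_diag T (Deform.isMultTypeFT_of_isTorus hT)
  haveI := hfg
  let b : sp k (MonoidAlgebra k M) ≅ T := (Grp.forget _).mapIso eT
  haveI : IsMonHom b.hom := eT.hom.hom.isMonHom_hom
  haveI : IsMonHom b.inv := eT.inv.hom.isMonHom_hom
  haveI : IsIntegral T.left := Agent.GrpSchLib.Kunneth.isIntegral_grp T
  haveI : IsIntegral (Spec (CommRingCat.of (MonoidAlgebra k M))) := by
    haveI : Nonempty ↥(Spec (CommRingCat.of (MonoidAlgebra k M))) := ⟨b.inv.left (Classical.arbitrary _)⟩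
    haveI : IsOpenImmersion b.hom.left :=
      @IsOpenImmersion.of_isIso _ _ _ ((Over.forget _).mapIso b).isIso_hom
    exact @isIntegral_of_isOpenImmersion _ _ b.hom.left this _ ‹_›
  haveI : IsDomain (MonoidAlgebra k M) := (affine_isIntegral_iff (CommRingCat.of _)).mp inferInstance
  obtain ⟨r, ⟨c⟩⟩ := exists_lattice M
  let toA : Fn T → MonoidAlgebra k M := fun f =>
    (Scheme.ΓSpecIso (CommRingCat.of (MonoidAlgebra k M))).hom (b.hom.left.appTop f)
  have htoA : Function.Injective toA := fun f g h => by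
    have h1 : b.hom.left.appTop f = b.hom.left.appTop g :=
      (ConcreteCategory.bijective_of_isIso (Scheme.ΓSpecIso (CommRingCat.of (MonoidAlgebra k M))).hom).1 h
    have h2 : ev b.inv (ev b.hom f) = ev b.inv (ev b.hom g) := congrArg (ev b.inv) h1
    rwa [Agent.GrpSchLib.Kunneth.ev_ev, Agent.GrpSchLib.Kunneth.ev_ev, b.inv_hom_id,
      Agent.GrpSchLib.Kunneth.ev_id, Agent.GrpSchLib.Kunneth.ev_id] at h2
  let Φ : Fn T →ₗ[k] MonoidAlgebra k M :=
    ((Agent.GrpSchLib.LineVec.toFn (k := k) (A := MonoidAlgebra k M)).symm.toAlgHom.comp (ev b.hom)).toLinearMap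
  let S : Finset M := F.biUnion fun f => (toA f).coeff.support
  obtain ⟨N, χ, hN, hχN, hsep⟩ := exists_sep_algHom (k := k) c S
  let e1 : 𝟙_ (Over (Spec (CommRingCat.of k))) ≅ sp k k := Over.isoMk (Iso.refl _) (by
    show 𝟙 _ ≫ Spec.map (CommRingCat.ofHom (algebraMap k k)) = 𝟙 _
    rw [Category.id_comp, Algebra.algebraMap_self]
    exact Spec.map_id _)
  let Θ : WithConv (MonoidAlgebra k M →ₐ[k] k) →* Pt T :=
    { toFun := fun v => e1.hom ≫ spMap v.ofConv ≫ b.hom
      map_one' := by
        rw [show spMap (1 : WithConv (MonoidAlgebra k M →ₐ[k] k)).ofConv =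
          (1 : sp k k ⟶ sp k (MonoidAlgebra k M)) from map_one Spec.mapMulEquiv, MonObj.one_comp, MonObj.comp_one]
      map_mul' := fun u v => by
        rw [show spMap (u * v).ofConv = spMap u.ofConv * spMap v.ofConv from map_mul Spec.mapMulEquiv u v,
          MonObj.mul_comp, MonObj.comp_mul] }
  let x : WithConv (MonoidAlgebra k M →ₐ[k] k) := toConv (MonoidAlgebra.lift k k M χ)
  have hxm : ∀ (j : ℕ) (m : M), (x ^ j).ofConv (MonoidAlgebra.single m 1) = χ m ^ j := by
    intro j m
    induction j with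
    | zero =>
      rw [pow_zero, pow_zero]
      show algebraMap k k (Coalgebra.counit (R := k) (MonoidAlgebra.single m (1 : k))) = 1
      simp
    | succ j ih =>
      rw [pow_succ, pow_succ, AlgHom.convMul_apply, MonoidAlgebra.comul_single]
      simp only [CommSemiring.comul_apply, TensorProduct.map_tmul, MonoidAlgebra.lsingle_apply]
      simp [x, MonoidAlgebra.lift_single, ih]
  have hev : ∀ (v : WithConv (MonoidAlgebra k M →ₐ[k] k)) (f : Fn T), evPt (Θ v) f = v.ofConv (toA f) := by
    intro v f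
    show (Scheme.ΓSpecIso (CommRingCat.of k)).hom ((Spec.map (CommRingCat.ofHom v.ofConv.toRingHom)).appTop
      (b.hom.left.appTop f)) = _
    rw [← CommRingCat.comp_apply, Scheme.ΓSpecIso_naturality]
    rfl
  have hval : ∀ (j : ℕ) (y : MonoidAlgebra k M), (x ^ j).ofConv y = y.coeff.sum (fun m a => a * χ m ^ j) := by
    intro j y
    induction y using MonoidAlgebra.induction_linear with
    | zero => simp
    | add p q hp hq =>
      rw [map_add, hp, hq, MonoidAlgebra.coeff_add, Finsupp.sum_add_index' (by simp) (fun _ _ _ => add_mul _ _ _)]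
    | single m a =>
      rw [show MonoidAlgebra.single m a = a • MonoidAlgebra.single m (1 : k) by simp, map_smul, hxm, smul_eq_mul]
      simp
  refine ⟨N, Θ x, hN, ?_, fun f hf h => htoA ?_⟩
  · rw [← map_pow, show x ^ N = 1 from WithConv.ext (AlgHom.toLinearMap_injective (LinearMap.ext fun y => by
      show (x ^ N).ofConv y = algebraMap k k (Coalgebra.counit (R := k) y)
      induction y using MonoidAlgebra.induction_linear with
      | zero => simp
      | add p q hp hq => rw [map_add, hp, hq, map_add, map_add]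
      | single m a => rw [hval]; simp [hχN])), map_one]
  · rw [show toA 0 = 0 from Φ.map_zero]
    refine hsep _ ?_ fun j => by rw [← hval, ← hev, map_pow]; exact h j
    refine Submodule.span_induction (p := fun g _ => (toA g).coeff.support ⊆ S) ?_ ?_ ?_ ?_ hf
    · exact fun g hg => Finset.subset_biUnion_of_mem (fun f => (toA f).coeff.support) hg
    · rw [show toA 0 = 0 from Φ.map_zero]; simp
    · intro g g' _ _ hg hg'
      rw [show toA (g + g') = toA g + toA g' from Φ.map_add g g', MonoidAlgebra.coeff_add]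
      exact Finsupp.support_add.trans (Finset.union_subset hg hg')
    · intro a g _ hg
      rw [show toA (a • g) = a • toA g from Φ.map_smul a g, MonoidAlgebra.coeff_smul]
      exact Finsupp.support_smul.trans hg
where
  exists_lattice (M : Type u) [CommGroup M] [Group.FG M] [IsDomain (MonoidAlgebra k M)] :
      ∃ r : ℕ, Nonempty (M ≃* Multiplicative (Fin r → ℤ)) := by
    have htf : ∀ (x : M) (n : ℕ), n ≠ 0 → x ^ n = 1 → x = 1 := fun x n hn hx => by
      let s : MonoidAlgebra k M := MonoidAlgebra.single x 1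
      have hs : s ^ n = 1 := by
        simp [s, MonoidAlgebra.single_pow, hx, MonoidAlgebra.one_def]
      have hint : IsIntegral k s := ⟨Polynomial.X ^ n - 1, Polynomial.monic_X_pow_sub_C 1 hn, by simp [hs]⟩
      obtain ⟨c, hc⟩ := minpoly.mem_range_of_degree_eq_one k s
        (IsAlgClosed.degree_eq_one_of_irreducible k (minpoly.irreducible hint))
      rw [MonoidAlgebra.coe_algebraMap, Function.comp_apply] at hc
      by_contra hne
      have h1 := congrArg (fun f : MonoidAlgebra k M => f.coeff x) hc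
      simp [s, Ne.symm hne] at h1
    haveI : Module.Finite ℤ (Additive M) := Module.Finite.iff_addGroup_fg.mpr inferInstance
    haveI : IsAddTorsionFree (Additive M) := ⟨fun n hn x y h => sub_eq_zero.mp (by
      have h' : (Additive.toMul (x - y)) ^ n = 1 := by
        have : n • (x - y) = 0 := by rw [nsmul_sub, sub_eq_zero]; exact h
        simpa using congrArg Additive.toMul this
      exact Additive.toMul.injective (htf _ n hn h'))⟩
    haveI : Module.Free ℤ (Additive M) := inferInstance
    exact ⟨_, ⟨(MulEquiv.multiplicativeAdditive M).symm.trans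
      (Module.finBasis ℤ (Additive M)).equivFun.toAddEquiv.toMultiplicative⟩⟩

/-- **A torsion point of a torus with the same centraliser as the torus.** -/
theorem exists_regular (G : Over (Spec (CommRingCat.of k))) [GrpObj G] [IsAffine G.left] [Smooth G.hom]
    {T : Over (Spec (CommRingCat.of k))} [GrpObj T] (hT : Red.IsTorus T) (i : T ⟶ G) [IsMonHom i] :
    ∃ (N : ℕ) (t : Pt T), (N : k) ≠ 0 ∧ t ^ N = 1 ∧
      ∀ g : Pt G, g * (t ≫ i) = (t ≫ i) * g → ∀ w : Pt T, g * (w ≫ i) = (w ≫ i) * g := by
  classical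
  haveI : IsAffineHom G.hom := isAffineHom_of_isAffine _
  haveI := Agent.GrpSchLib.AntiAffine.isSeparated_grp G
  obtain ⟨hTa, hTl, hTs, hTc⟩ := Deform.TorusBasic.props hT
  haveI := hTa; haveI := hTl; haveI := hTs; haveI := hTc
  let a : AlgGrp.Action G G := { act := μ[G], one_act := MonObj.one_mul G, mul_act := MonObj.mul_assoc G }
  choose d M b hM hfix _ using fun f : Fn G => Agent.GrpSchLib.ActRep.exists_stable a f
  obtain ⟨F, hF⟩ := Agent.GrpSchLib.RepFamily.exists_detect (G := G) M
  let E : Finset (Fn T) := F.biUnion fun f => Finset.univ.image fun p : Fin (d f) × Fin (d f) => ev i (M f p.1 p.2)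
  obtain ⟨N, t, hN, htN, hsep⟩ := exists_sep_pt T hT E
  refine ⟨N, t, hN, htN, fun g hg w => ?_⟩
  have hmemE : ∀ f ∈ F, ∀ p q, ev i (M f p q) ∈ Submodule.span k (E : Set (Fn T)) := fun f hf p q =>
    Submodule.subset_span (Finset.mem_biUnion.mpr ⟨f, hf, Finset.mem_image.mpr ⟨(p, q), Finset.mem_univ _, rfl⟩⟩)
  have hcomm : ∀ f ∈ F, ∀ z : Pt T, ptsHom (hM f) g * ptsHom (hM f) (z ≫ i) =
      ptsHom (hM f) (z ≫ i) * ptsHom (hM f) g := by
    intro f hf z
    let A : Matrix (Fin (d f)) (Fin (d f)) k := ptsHom (hM f) g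
    ext p q
    let c : Fn T := ∑ s, (A p s • ev i (M f s q) - A s q • ev i (M f p s))
    have hc : ∀ y : Pt T, evPt y c =
        (A * ptsHom (hM f) (y ≫ i)) p q - (ptsHom (hM f) (y ≫ i) * A) p q := fun y => by
      simp only [c, map_sum, map_sub, map_smul, smul_eq_mul, evPt_comp, Finset.sum_sub_distrib, Matrix.mul_apply]
      congr 1
      exact Finset.sum_congr rfl fun s _ => mul_comm _ _
    have hc0 : c = 0 := hsep c (Submodule.sum_mem _ fun s _ =>
      Submodule.sub_mem _ (Submodule.smul_mem _ _ (hmemE f hf s q)) (Submodule.smul_mem _ _ (hmemE f hf p s)))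
      fun j => by
        rw [hc, sub_eq_zero]
        refine congrFun (congrFun ?_ p) q
        have hgj : g * ((t ^ j) ≫ i) = ((t ^ j) ≫ i) * g := by
          have e : (t ^ j) ≫ i = (t ≫ i) ^ j := map_pow ({ toFun := fun w => w ≫ i, map_one' := MonObj.one_comp _, map_mul' := fun a b => MonObj.mul_comp a b _ } : Pt T →* Pt G) t j
          rw [e]
          exact Commute.pow_right (show Commute g (t ≫ i) from hg) j
        rw [← map_mul, hgj, map_mul]
    have := hc z
    rw [hc0, map_zero] at this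
    exact sub_eq_zero.mp this.symm
  have h1 : ∀ f ∈ F, (M f).map (ev (⁅g, w ≫ i⁆ : Pt G)) = 1 := fun f hf => by
    have h2 : ptsHom (hM f) ⁅g, w ≫ i⁆ = 1 := by
      rw [commutatorElement_def, map_mul, map_mul, map_mul, hcomm f hf w, Matrix.mul_assoc (ptsHom (hM f) (w ≫ i)),
        ← map_mul, mul_inv_cancel, map_one, Matrix.mul_one, ← map_mul, mul_inv_cancel, map_one]
    ext p q
    have h3 : evPt (⁅g, w ≫ i⁆ : Pt G) ((M f) p q) = (1 : Matrix (Fin (d f)) (Fin (d f)) k) p q :=
      congrFun (congrFun h2 p) q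
    rw [Matrix.map_apply, ev_pt_eq, h3, Matrix.one_apply, Matrix.one_apply]
    split_ifs <;> simp
  refine commutatorElement_eq_one_iff_mul_comm.mp (Agent.GrpSchLib.LineGroups.ext_ev (AlgHom.ext fun f => ?_))
  have h := hfix f _ ⁅g, w ≫ i⁆ (1 : Pt G) (hF _ _ h1 f)
  rwa [show lift ⁅g, w ≫ i⁆ (1 : Pt G) ≫ μ[G] = ⁅g, w ≫ i⁆ * 1 from rfl, _root_.mul_one] at h

/-- **Maximal tori of nilpotent groups are central.** -/
theorem central_of_nilpotent (G : Over (Spec (CommRingCat.of k))) [GrpObj G] [IsAffine G.left] [Smooth G.hom]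
    [ConnectedSpace G.left] [Group.IsNilpotent (Pt G)] {T : Over (Spec (CommRingCat.of k))} [GrpObj T] (i : T ⟶ G)
    (hi : AGF.IsMaxTorus i) (g : Pt G) (w : Pt T) : g * (w ≫ i) = (w ≫ i) * g := by
  obtain ⟨him, himo, hT, hmax⟩ := hi
  haveI := him; haveI := himo
  obtain ⟨Tb, iTb, ib, hub, π, hπ, -, -, hπtor⟩ := exists_levi G
  obtain ⟨hbm, hbc, hTb, -⟩ := id hub
  haveI := hbm; haveI := hbc
  obtain ⟨c, e, he, hce⟩ := hub.conj_of_max i hT hmax
  haveI := he
  -- conjugate to the torus with a splitting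
  suffices h : ∀ (g : Pt G) (w : Pt Tb), g * (w ≫ ib) = (w ≫ ib) * g by
    have h1 := h (c * g * c⁻¹) (w ≫ e.hom)
    rw [Category.assoc, hce, ← comp_conj, ← Category.assoc, pt_conj] at h1
    have h2 := congrArg (fun z => c⁻¹ * z * c) h1
    simpa [_root_.mul_assoc] using h2
  intro g w
  obtain ⟨N, t, hN, htN, hreg⟩ := exists_regular G hTb ib
  haveI : Mono ib := (Over.forget _).mono_of_mono_map (inferInstanceAs (Mono ib.left))
  have hcT : ∀ a b : Pt Tb, a * b = b * a := fun a b =>
    Agent.GrpSchLib.MultTypeComm.points_comm (Deform.isMultTypeFT_of_isTorus hTb) a b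
  -- elements of the kernel commute with the torsion point
  have key : ∀ (m : ℕ), ∀ x ∈ Subgroup.upperCentralSeries (Pt G) m, x ∈ π.ker →
      x * (t ≫ ib) = (t ≫ ib) * x := by
    intro m
    induction m with
    | zero =>
      intro x hx _
      rw [Subgroup.upperCentralSeries_zero, Subgroup.mem_bot] at hx
      rw [hx, _root_.one_mul, _root_.mul_one]
    | succ m ih =>
      intro x hx hxk
      set y := t ≫ ib
      let c := ⁅x, y⁆
      have hcm : c ∈ Subgroup.upperCentralSeries (Pt G) m := Subgroup.mem_upperCentralSeries_succ_iff.mp hx y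
      have hck : c ∈ π.ker := by
        rw [MonoidHom.mem_ker, map_commutatorElement, MonoidHom.mem_ker.mp hxk, commutatorElement_one_left]
      have hcy : Commute c y := ih c hcm hck
      have hxy : x * y * x⁻¹ = c * y := by rw [show c = x * y * x⁻¹ * y⁻¹ from commutatorElement_def x y]; group
      have hyN : y ^ N = 1 := by
        have e : (t ≫ ib) ^ N = (t ^ N) ≫ ib := (map_pow ({ toFun := fun w => w ≫ ib, map_one' := MonObj.one_comp _, map_mul' := fun a b => MonObj.mul_comp a b _ } : Pt Tb →* Pt G) t N).symm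
        rw [e, htN, MonObj.one_comp]
      have hpow : (x * y * x⁻¹) ^ N = x * y ^ N * x⁻¹ := conj_pow
      rw [hyN, _root_.mul_one, mul_inv_cancel, hxy, hcy.mul_pow, hyN, _root_.mul_one] at hpow
      exact commutatorElement_eq_one_iff_mul_comm.mp (hπtor c hck N hN hpow)
  obtain ⟨n, hn⟩ := (inferInstance : Group.IsNilpotent (Pt G)).nilpotent'
  refine hreg g ?_ w
  have hu : (π g ≫ ib)⁻¹ * g ∈ π.ker := by rw [MonoidHom.mem_ker, map_mul, map_inv, hπ, inv_mul_cancel]
  have h1 := key n _ (hn ▸ Subgroup.mem_top _) hu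
  rw [← mul_inv_cancel_left (π g ≫ ib) g, _root_.mul_assoc, h1, ← _root_.mul_assoc, ← MonObj.mul_comp,
    hcT, MonObj.mul_comp, _root_.mul_assoc]

end

end Groth.Agent.Deform.Borel
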