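import Groth.Agent.Deform.Borel.Tori
import Groth.Agent.UnipComp.Powers

/-!
# The unipotent part of the points of a connected solvable group and its roots
-/

universe u

open CategoryTheory CategoryTheory.Limits MonoidalCategory CartesianMonoidalCategory MonObj GrpObj AlgebraicGeometry
open WithConv

attribute [local instance] CategoryTheory.Hom.monoid CategoryTheory.Hom.group
set_option linter.style.haveILetI false
set_option linter.unusedSectionVars false

namespace Groth.Agent.Deform.Borel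

open Chev (Pt pimg)
open Agent.GrpSchLib.AffineHopf (sp spMap exists_hopf)
open Agent.GrpSchLib.Kunneth (Fn evPt)

noncomputable section

variable {k : Type u} [Field k] [IsAlgClosed k]

theorem evPt_eq_zero_iff {Z : Over (Spec (CommRingCat.of k))} (q : Pt Z) (f : Fn Z) :
    evPt q f = 0 ↔ pimg q ∉ Z.left.basicOpen f := by
  refine ⟨fun h hq => ?_, fun h => by_contra fun hne => h (pimg_mem_basicOpen q f hne)⟩
  haveI : IsReduced (𝟙_ (Over (Spec (CommRingCat.of k)))).left :=
    inferInstanceAs (IsReduced (Spec (CommRingCat.of k)))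
  have h1 : q.left.appTop f = 0 :=
    (ConcreteCategory.bijective_of_isIso (Scheme.ΓSpecIso (CommRingCat.of k)).hom).1 (h.trans (map_zero _).symm)
  have h2 : q.left ⁻¹ᵁ Z.left.basicOpen f = ⊥ := by
    rw [Scheme.preimage_basicOpen_top, h1, Scheme.basicOpen_zero]
  exact (SetLike.ext_iff.mp h2 _).mp hq

set_option maxHeartbeats 1000000 in
/-- **The unipotent part**: a closed subgroup containing the commutators, without torsion prime to the characteristic
and in which roots of an element lie in the closure of its powers. -/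
theorem exists_unipKer (S : Over (Spec (CommRingCat.of k))) [GrpObj S] [IsAffine S.left] [Smooth S.hom]
    [ConnectedSpace S.left] [Group.IsSolvable (Pt S)] :
    ∃ K : Subgroup (Pt S), cl (K : Set (Pt S)) ⊆ K ∧ derivedSeries (Pt S) 1 ≤ K ∧
      (∀ x ∈ K, ∀ y ∈ K, ∀ N : ℕ, (N : k) ≠ 0 → x ^ N = y ^ N → x = y) ∧
      ∀ x ∈ K, ∀ N : ℕ, (N : k) ≠ 0 → ∃ y, y ^ N = x ∧ y ∈ cl (Set.range fun n : ℕ => x ^ n) := by
  haveI : IsAffineHom S.hom := isAffineHom_of_isAffine _
  obtain ⟨A, _, _, ⟨eS⟩⟩ := exists_hopf S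
  let a : sp k A ≅ S := (Grp.forget _).mapIso eS
  haveI : IsMonHom a.hom := eS.hom.hom.isMonHom_hom
  haveI : IsMonHom a.inv := eS.inv.hom.isMonHom_hom
  haveI : IsIso a.hom.left := ((Over.forget _).mapIso a).isIso_hom
  haveI : IsIso a.inv.left := ((Over.forget _).mapIso a).isIso_inv
  haveI : Algebra.FiniteType k A := RingHom.finiteType_algebraMap.mp
    ((HasRingHomProperty.Spec_iff (P := @LocallyOfFiniteType)).mp (by
      show LocallyOfFiniteType (sp k A).hom
      rw [← Over.w a.hom]; infer_instance))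
  haveI : IsIntegral S.left := Agent.GrpSchLib.Kunneth.isIntegral_grp S
  haveI : IsIntegral (Spec (CommRingCat.of A)) := by
    haveI : Nonempty ↥(Spec (CommRingCat.of A)) := ⟨a.inv.left (Classical.arbitrary _)⟩
    haveI : IsOpenImmersion a.hom.left :=
      @IsOpenImmersion.of_isIso _ _ _ ((Over.forget _).mapIso a).isIso_hom
    exact @isIntegral_of_isOpenImmersion _ _ a.hom.left this _ ‹_›
  haveI : IsDomain A := (affine_isIntegral_iff (CommRingCat.of A)).mp inferInstance
  haveI : _root_.IsReduced A := inferInstance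
  let e1 : 𝟙_ (Over (Spec (CommRingCat.of k))) ≅ sp k k := Over.isoMk (Iso.refl _) (by
    show 𝟙 _ ≫ Spec.map (CommRingCat.ofHom (algebraMap k k)) = 𝟙 _
    rw [Category.id_comp, Algebra.algebraMap_self]
    exact Spec.map_id _)
  let Φ : WithConv (A →ₐ[k] k) →* Pt S :=
    { toFun := fun u => e1.hom ≫ spMap u.ofConv ≫ a.hom
      map_one' := by
        rw [show spMap (1 : WithConv (A →ₐ[k] k)).ofConv = (1 : sp k k ⟶ sp k A) from map_one Spec.mapMulEquiv,
          MonObj.one_comp, MonObj.comp_one]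
      map_mul' := fun u v => by
        rw [show spMap (u * v).ofConv = spMap u.ofConv * spMap v.ofConv from map_mul Spec.mapMulEquiv u v,
          MonObj.mul_comp, MonObj.comp_mul] }
  have hΦ : Function.Surjective Φ := fun p => by
    obtain ⟨f, hf⟩ := Agent.GrpSchLib.AffineHopf.exists_eq_spMap (e1.inv ≫ p ≫ a.inv)
    exact ⟨toConv f, by show e1.hom ≫ spMap f ≫ a.hom = p; rw [← hf]; simp⟩
  have hΦi : Function.Injective Φ := fun u v h => by
    have h' : spMap u.ofConv = spMap v.ofConv := by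
      rw [← cancel_mono a.hom, ← cancel_epi e1.hom]; exact h
    exact WithConv.ext (Agent.GrpSchLib.AffineHopf.spMap_injective h')
  haveI : Group.IsSolvable (WithConv (A →ₐ[k] k)) :=
    Group.isSolvable_of_isSolvable_injective (f := Φ) hΦi
  have hT : HopfRep.IsTrigonalizable k A := S3266.result k A fun e he => by
    rcases IsIdempotentElem.iff_eq_zero_or_one.mp he with h | h
    · exact Or.inl h
    · exact Or.inr h
  obtain ⟨M, _, r, ψ, -, -, -, -, ⟨J, hJi, hJψ, hJU⟩, -⟩ := exists_torus_hopf A hT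
  haveI := hJi
  haveI : Algebra.FiniteType k (A ⧸ J) :=
    Algebra.FiniteType.of_surjective (Ideal.Quotient.mkₐ k J) (Ideal.Quotient.mkₐ_surjective k J)
  obtain ⟨-, -, htor⟩ := torusProj_ker (ψ := ψ) hJψ hJU
  obtain ⟨U, hU⟩ := exists_unip_hom (ψ := ψ) hJψ
  have hUi : Function.Injective U := fun x y h => Subtype.ext (WithConv.ext (AlgHom.ext fun a => by
    rw [← hU x a, ← hU y a, h]))
  let Ψ : Pt S ≃* WithConv (A →ₐ[k] k) := (MulEquiv.ofBijective Φ ⟨hΦi, hΦ⟩).symm
  have hΨ : ∀ x, Φ (Ψ x) = x := (MulEquiv.ofBijective Φ ⟨hΦi, hΦ⟩).apply_symm_apply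
  let K : Subgroup (Pt S) := ((torusProj ψ).comp Ψ.toMonoidHom).ker
  let T : A → Fn S := fun c => a.inv.left.appTop ((Scheme.ΓSpecIso (CommRingCat.of A)).inv c)
  have hev : ∀ (x : Pt S) (f : Fn S),
      evPt x f = (Ψ x).ofConv ((Scheme.ΓSpecIso (CommRingCat.of A)).hom (a.hom.left.appTop f)) := fun x f => by
    conv_lhs => rw [← hΨ x]
    show (Scheme.ΓSpecIso (CommRingCat.of k)).hom ((Spec.map (CommRingCat.ofHom (Ψ x).ofConv.toRingHom)).appTop
      (a.hom.left.appTop f)) = _
    rw [← CommRingCat.comp_apply, Scheme.ΓSpecIso_naturality]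
    rfl
  have hevT : ∀ (x : Pt S) (c : A), evPt x (T c) = (Ψ x).ofConv c := fun x c => by
    rw [hev]
    congr 1
    show (Scheme.ΓSpecIso (CommRingCat.of A)).hom (a.hom.left.appTop (a.inv.left.appTop _)) = c
    rw [← CommRingCat.comp_apply a.inv.left.appTop a.hom.left.appTop, ← Scheme.Hom.comp_appTop, ← Over.comp_left,
      a.hom_inv_id, Over.id_left, Scheme.Hom.id_appTop, CommRingCat.id_apply, ← CommRingCat.comp_apply,
      Iso.inv_hom_id, CommRingCat.id_apply]
  refine ⟨K, fun x hx => ?_, ?_, fun x hx y hy N hN hxy => ?_, fun x hx N hN => ?_⟩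
  · -- closedness
    by_contra hne
    obtain ⟨b, hb⟩ : ∃ b, (torusProj ψ (Ψ x)).ofConv b ≠ (1 : WithConv (MonoidAlgebra k M →ₐ[k] k)).ofConv b := by
      by_contra h
      push Not at h
      exact hne (WithConv.ext (AlgHom.ext h))
    let c : A := ψ b - algebraMap k A (Coalgebra.counit (R := k) b)
    have hc : ∀ y : Pt S, evPt y (T c) = (torusProj ψ (Ψ y)).ofConv b - (1 : WithConv (MonoidAlgebra k M →ₐ[k] k)).ofConv b :=
      fun y => by
        rw [hevT]
        rw [AlgHom.convOne_apply]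
        show (Ψ y).ofConv (ψ b - algebraMap k A _) = (Ψ y).ofConv (ψ b) - algebraMap k k _
        rw [map_sub, AlgHom.commutes]
    obtain ⟨z, hz, y, hy, rfl⟩ := (mem_closure_iff.mp (show pimg x ∈ closure (pimg '' (K : Set (Pt S))) from hx))
      _ (S.left.basicOpen (T c)).2 (pimg_mem_basicOpen x _ (by rw [hc]; exact sub_ne_zero.mpr hb))
    refine (evPt_eq_zero_iff y (T c)).mp ?_ hz
    rw [hc, show torusProj ψ (Ψ y) = 1 from hy, sub_self]
  · -- commutators
    rw [derivedSeries_succ, derivedSeries_zero]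
    refine commutator_le_ker ⊤ _ fun u _ v _ => ?_
    exact mul_comm _ _
  · have hxy' : U ⟨Ψ x, hx⟩ ^ N = U ⟨Ψ y, hy⟩ ^ N := by
      rw [← map_pow, ← map_pow]
      exact congrArg U (Subtype.ext (by simpa [← map_pow] using congrArg Ψ hxy))
    have e : U ⟨Ψ x, hx⟩ = U ⟨Ψ y, hy⟩ := by
      obtain ⟨p, hp⟩ := CharP.exists k
      rcases CharP.char_is_prime_or_zero k p with hprime | rfl
      · obtain ⟨m, hm⟩ := UnipComp.Powers.pow_prime_pow_eq_one (R := k) p hJU
        have hco : ∀ z : WithConv (A ⧸ J →ₐ[k] k), Nat.Coprime N (orderOf z) := fun z => by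
          refine Nat.Coprime.of_dvd_right (orderOf_dvd_of_pow_eq_one (hm z)) (Nat.Coprime.pow_right m ?_)
          rw [Nat.coprime_comm, hprime.coprime_iff_not_dvd]
          exact fun hd => hN ((CharP.cast_eq_zero_iff k p N).mpr hd)
        have hpm : Nat.Coprime N (p ^ m) := by
          refine Nat.Coprime.pow_right m ?_
          rw [Nat.coprime_comm, hprime.coprime_iff_not_dvd]
          exact fun hd => hN ((CharP.cast_eq_zero_iff k p N).mpr hd)
        exact (powCoprime_inj hpm hm hxy')
      · haveI := CharP.charP_to_charZero k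
        exact (UnipComp.Powers.pow_bijective_charZero hJU (fun h => hN (by simp [h]))).1 hxy'
    exact Ψ.injective (congrArg Subtype.val (hUi e))
  · -- roots
    obtain ⟨p, hp⟩ := CharP.exists k
    rcases CharP.char_is_prime_or_zero k p with hprime | rfl
    · obtain ⟨m, hm⟩ := UnipComp.Powers.pow_prime_pow_eq_one (R := k) p hJU
      have hxp : x ^ p ^ m = 1 := by
        refine Ψ.injective ?_
        rw [map_pow, map_one]
        have h2 : (⟨Ψ x, hx⟩ : (torusProj ψ).ker) ^ p ^ m = 1 := hUi (by rw [map_pow, hm, map_one])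
        simpa using congrArg Subtype.val h2
      have hco : Nat.Coprime N (p ^ m) := by
        refine Nat.Coprime.pow_right m ?_
        rw [Nat.coprime_comm, hprime.coprime_iff_not_dvd]
        exact fun hd => hN ((CharP.cast_eq_zero_iff k p N).mpr hd)
      obtain ⟨b, hb⟩ := exists_pow_eq_self_of_coprime
        (Nat.Coprime.of_dvd_right (orderOf_dvd_of_pow_eq_one hxp) hco : Nat.Coprime N (orderOf x))
      exact ⟨x ^ b, by rw [← pow_mul, mul_comm, pow_mul]; exact hb, subset_cl _ ⟨b, rfl⟩⟩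
    · haveI := CharP.charP_to_charZero k
      have hN0 : N ≠ 0 := fun h => hN (by simp [h])
      obtain ⟨g, hg⟩ := (UnipComp.Powers.pow_bijective_charZero hJU hN0).2 (U ⟨Ψ x, hx⟩)
      -- the root as a point of `S`
      let q : A →ₐc[k] A ⧸ J := Bialgebra.Quotient.mkBialgHom J
      let ρ : WithConv (A ⧸ J →ₐ[k] k) →* WithConv (A →ₐ[k] k) :=
        { toFun := fun z => toConv (z.ofConv.comp (q : A →ₐ[k] A ⧸ J))
          map_one' := WithConv.ext (AlgHom.ext fun b => by
            show algebraMap k k (Coalgebra.counit (R := k) (q b)) = algebraMap k k (Coalgebra.counit (R := k) b)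
            rw [CoalgHomClass.counit_comp_apply q b])
          map_mul' := fun z w => congrArg toConv (AlgHom.convMul_comp_bialgHom_distrib z w q) }
      have hρU : ∀ z, ρ (U z) = (z : WithConv (A →ₐ[k] k)) := fun z => WithConv.ext (AlgHom.ext fun b => hU z b)
      have hgN : ρ g ^ N = Ψ x := by
        rw [← map_pow, show g ^ N = U ⟨Ψ x, hx⟩ from hg, hρU]
      refine ⟨Φ (ρ g), by rw [← map_pow, hgN, hΨ], ?_⟩
      show pimg (Φ (ρ g)) ∈ closure _
      rw [mem_closure_iff]
      intro O hO hyO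
      obtain ⟨f, hfO, hyf⟩ := exists_basicOpen hO hyO
      by_contra hemp
      refine ((evPt_eq_zero_iff (Φ (ρ g)) f).mp ?_) hyf
      let b : A ⧸ J := q ((Scheme.ΓSpecIso (CommRingCat.of A)).hom (a.hom.left.appTop f))
      obtain ⟨P, hP⟩ := UnipComp.Powers.exists_poly (UnipComp.Powers.pow_apply_mem hJU g b)
      have hval : ∀ n : ℕ, evPt (Φ (ρ g) ^ n) f = P.eval (n : k) := fun n => by
        rw [hP, hev, map_pow, show Ψ (Φ (ρ g)) = ρ g from (MulEquiv.ofBijective Φ ⟨hΦi, hΦ⟩).symm_apply_apply _,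
          ← map_pow]
        rfl
      have hzero : ∀ n : ℕ, evPt (x ^ n) f = 0 := fun n => (evPt_eq_zero_iff _ f).mpr fun hn =>
        hemp ⟨_, hfO hn, _, ⟨n, rfl⟩, rfl⟩
      have hP0 : P = 0 := Polynomial.eq_zero_of_infinite_isRoot P
        ((Set.infinite_range_of_injective (f := fun n : ℕ => ((N * n : ℕ) : k))
          (fun m n h => Nat.eq_of_mul_eq_mul_left (Nat.pos_of_ne_zero hN0) (Nat.cast_injective h))).mono (by
          rintro _ ⟨n, rfl⟩
          show P.eval _ = 0
          rw [← hval, pow_mul, ← map_pow, hgN, hΨ, hzero]))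
      have h1 := hval 1
      rw [pow_one, hP0, Polynomial.eval_zero] at h1
      exact h1
where
  powCoprime_inj {G : Type u} [Group G] {N P : ℕ} (h : Nat.Coprime N P) (hP : ∀ z : G, z ^ P = 1) {a b : G}
      (he : a ^ N = b ^ N) : a = b := by
    have key : ∀ z : G, z ^ N.gcd P = (z ^ N) ^ N.gcdA P := fun z => by
      rw [← zpow_natCast, Nat.gcd_eq_gcd_ab, zpow_add, zpow_mul, zpow_mul, zpow_natCast, zpow_natCast, hP,
        one_zpow, _root_.mul_one]
    rw [← pow_one a, ← pow_one b, ← h.gcd_eq_one, key, key, he]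
  exists_basicOpen {O : Set S.left} (hO : IsOpen O) {z : S.left} (hz : z ∈ O) :
      ∃ f : Fn S, (S.left.basicOpen f : Set S.left) ⊆ O ∧ z ∈ S.left.basicOpen f := by
    obtain ⟨f, hf, hzf⟩ := (isAffineOpen_top S.left).exists_basicOpen_le (V := ⟨O, hO⟩) ⟨z, hz⟩ (Set.mem_univ _)
    exact ⟨f, hf, hzf⟩

end

end Groth.Agent.Deform.Borel
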